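import Mathlib

set_option autoImplicit false

namespace CfsgPm

open Subgroup

variable {F V : Type*} [Field F] [AddCommGroup V] [Module F V] {H : Subgroup (V ≃ₗ[F] V)}

/-- The algebra of endomorphisms generated by `A`. -/
abbrev envA (A : Subgroup H) : Subalgebra F (Module.End F V) := Algebra.adjoin F (Set.range fun a : A => a.1.1.toLinearMap)

theorem mem_envA {A : Subgroup H} {a : H} (h : a ∈ A) : a.1.toLinearMap ∈ envA A := Algebra.subset_adjoin ⟨⟨a, h⟩, rfl⟩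

theorem envA_inv {A : Subgroup H} {W : Submodule F V} (h : ∀ a ∈ A, ∀ v ∈ W, a.1 v ∈ W) {e : Module.End F V} (he : e ∈ envA A) :
    ∀ v ∈ W, e v ∈ W := by
  induction he using Algebra.adjoin_induction with
  | mem _ h' => obtain ⟨a, rfl⟩ := h'; exact h a a.2
  | algebraMap c => exact fun v hv => W.smul_mem c hv
  | add _ _ _ _ h1 h2 => exact fun v hv => W.add_mem (h1 v hv) (h2 v hv)
  | mul _ _ _ _ h1 h2 => exact fun v hv => h1 _ (h2 v hv)

theorem envA_conj {A : Subgroup H} [hA : A.Normal] (h : H) {e : Module.End F V} (he : e ∈ envA A) : h.1.conjAlgEquiv F e ∈ envA A := by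
  induction he using Algebra.adjoin_induction with
  | mem _ h' => obtain ⟨a, rfl⟩ := h'; exact mem_envA (hA.conj_mem _ a.2 h)
  | algebraMap c => rw [AlgEquiv.commutes]; exact Subalgebra.algebraMap_mem _ c
  | add _ _ _ _ h1 h2 => rw [map_add]; exact add_mem h1 h2
  | mul _ _ _ _ h1 h2 => rw [map_mul]; exact mul_mem h1 h2

instance envA_comm (A : Subgroup H) [IsMulCommutative A] : IsMulCommutative (envA A) :=
  Algebra.isMulCommutative_adjoin _ (by
    rintro _ ⟨a, rfl⟩ _ ⟨b, rfl⟩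
    exact congrArg (fun x : A => x.1.1.toLinearMap) (mul_comm' a b))

theorem exists_min [Finite V] (A : Subgroup H) {U : Submodule F V} (h0 : U ≠ ⊥) (h : ∀ a ∈ A, ∀ v ∈ U, a.1 v ∈ U) :
    ∃ W ≤ U, W ≠ ⊥ ∧ (∀ a ∈ A, ∀ v ∈ W, a.1 v ∈ W) ∧ ∀ W' ≤ W, (∀ a ∈ A, ∀ v ∈ W', a.1 v ∈ W') → W' = ⊥ ∨ W' = W := by
  have : Finite (Submodule F V) := Finite.of_injective _ SetLike.coe_injective
  obtain ⟨W, h1, h2⟩ := exists_minimal_le_of_wellFoundedLT (fun W : Submodule F V => W ≠ ⊥ ∧ ∀ a ∈ A, ∀ v ∈ W, a.1 v ∈ W) U ⟨h0, h⟩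
  exact ⟨W, h1, h2.1.1, h2.1.2, fun W' h h' => or_iff_not_imp_left.2 fun e => h2.eq_of_ge ⟨e, h'⟩ h ▸ rfl⟩

theorem envA_fpf [Finite V] (ht : ∀ v w : V, v ≠ 0 → w ≠ 0 → ∃ h : H, h.1 v = w) (A : Subgroup H) [hA : A.Normal] [IsMulCommutative A]
    {e : Module.End F V} (he : e ∈ envA A) {v : V} (hv : v ≠ 0) (h : e v = 0) : e = 0 := by
  have : Nontrivial V := ⟨⟨v, 0, hv⟩⟩
  obtain ⟨W, -, h1, h2, h3⟩ := exists_min A (U := ⊤) top_ne_bot fun _ _ _ _ => trivial
  obtain ⟨w, hw, h4⟩ := (Submodule.ne_bot_iff _).1 h1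
  have M : ∀ u ≠ 0, ∀ X : Submodule F V, (∀ a ∈ A, ∀ v ∈ X, a.1 v ∈ X) → ∀ c ∈ envA A, c u ≠ 0 → c u ∈ X → u ∈ X := fun u hu X hX c hc n m => by
    obtain ⟨g, rfl⟩ := ht w u h4 hu
    refine (((h3 (W ⊓ X.comap g.1.toLinearMap) inf_le_left fun a ha v hv => ⟨h2 a ha v hv.1, ?_⟩).resolve_left
      ((Submodule.ne_bot_iff _).2 ⟨g.1.symm (c (g.1 w)), ⟨envA_inv h2 (envA_conj g⁻¹ hc) w hw, by simpa⟩, by simpa⟩)).ge hw).2
    simpa using hX _ (hA.conj_mem _ ha g) _ hv.2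
  have U : ∀ u, ∀ a ∈ A, ∀ x ∈ (envA A).toSubmodule.map (LinearMap.applyₗ u), a.1 x ∈ (envA A).toSubmodule.map (LinearMap.applyₗ u) := by
    rintro u a ha _ ⟨c, hc, rfl⟩
    exact ⟨_, (envA A).mul_mem (mem_envA ha) hc, rfl⟩
  ext u
  by_contra n
  have n' : e (v + u) ≠ 0 := by rwa [map_add, h, zero_add]
  obtain ⟨c, hc, k⟩ := M (v + u) (fun z => n' (by rw [z, map_zero])) _ (U u) e he n' ⟨e, he, by simp [h]⟩
  have k : (c - 1) u = v := by simpa [sub_eq_iff_eq_add] using k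
  refine n (M u (fun z => n (by simp [z])) (LinearMap.ker e) (fun a ha x hx => ?_) _ (sub_mem hc (one_mem _)) (k ▸ hv) (k ▸ h))
  exact (LinearMap.congr_fun (setLike_mul_comm he (mem_envA ha)) x).trans ((congrArg a.1 hx).trans (map_zero _))

theorem envA_field [Finite V] [Nontrivial V] (ht : ∀ v w : V, v ≠ 0 → w ≠ 0 → ∃ h : H, h.1 v = w) (A : Subgroup H) [A.Normal]
    [IsMulCommutative A] : IsField (envA A) := by
  obtain ⟨v, hv⟩ := exists_ne (0 : V)
  have : Finite (Module.End F V) := Finite.of_injective _ DFunLike.coe_injective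
  have : NoZeroDivisors (envA A) := ⟨fun {a b} h => or_iff_not_imp_right.2 fun e => Subtype.ext (envA_fpf ht A a.2
    (fun e' => e (Subtype.ext (envA_fpf ht A b.2 hv e'))) (LinearMap.congr_fun (congrArg Subtype.val h) v))⟩
  have : IsDomain (envA A) := NoZeroDivisors.to_isDomain _
  exact Finite.isDomain_to_isField _

/-- `A` inside its enveloping algebra. -/
def toEnv (A : Subgroup H) : A →* envA A := ⟨⟨fun a => ⟨_, mem_envA a.2⟩, rfl⟩, fun _ _ => rfl⟩

theorem toEnv_inj (A : Subgroup H) : Function.Injective (toEnv A) := fun _ _ e =>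
  Subtype.ext (Subtype.ext (LinearEquiv.toLinearMap_injective (congrArg Subtype.val e)))

section
variable [Finite V] [Nontrivial V] (ht : ∀ v w : V, v ≠ 0 → w ≠ 0 → ∃ h : H, h.1 v = w) (A : Subgroup H) [A.Normal] [IsMulCommutative A]
include ht

theorem cyc_of_trans : IsCyclic A := by
  letI := (envA_field ht A).toField
  have : Finite (V ≃ₗ[F] V) := Finite.of_injective _ DFunLike.coe_injective
  exact isCyclic_of_subgroup_isDomain _ (toEnv_inj A)

theorem card_dvd_envA : Nat.card A ∣ Nat.card (envA A) - 1 := by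
  letI := (envA_field ht A).toField
  rw [← Nat.card_units]
  exact card_dvd_of_injective (toEnv A).toHomUnits fun _ _ e => toEnv_inj A (congrArg Units.val e)

theorem card_envA_min {W : Submodule F V} (h0 : W ≠ ⊥) (h : ∀ a ∈ A, ∀ v ∈ W, a.1 v ∈ W)
    (hm : ∀ W' ≤ W, (∀ a ∈ A, ∀ v ∈ W', a.1 v ∈ W') → W' = ⊥ ∨ W' = W) : Nat.card (envA A) = Nat.card W := by
  obtain ⟨w, hw, h4⟩ := (Submodule.ne_bot_iff _).1 h0
  refine Nat.card_eq_of_bijective (fun c => ⟨c.1 w, envA_inv h c.2 w hw⟩) ⟨fun a b e => Subtype.ext (sub_eq_zero.1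
    (envA_fpf ht A (sub_mem a.2 b.2) h4 (sub_eq_zero.2 (congrArg Subtype.val e)))), fun x => ?_⟩
  obtain ⟨c, hc, e⟩ := ((hm ((envA A).toSubmodule.map (LinearMap.applyₗ w)) (by rintro _ ⟨c, hc, rfl⟩; exact envA_inv h hc w hw) (by
    rintro a ha _ ⟨c, hc, rfl⟩
    exact ⟨_, (envA A).mul_mem (mem_envA ha) hc, rfl⟩)).resolve_left ((Submodule.ne_bot_iff _).2 ⟨w, ⟨1, (envA A).one_mem, rfl⟩, h4⟩)).ge x.2
  exact ⟨⟨c, hc⟩, Subtype.ext e⟩

theorem card_eq_envA_pow : ∃ d, Nat.card V = Nat.card (envA A) ^ d := by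
  letI := (envA_field ht A).toField
  exact ⟨_, Module.natCard_eq_pow_finrank (K := envA A)⟩

theorem index_cent_dvd : (centralizer (A : Set H)).index ∣ Module.finrank F (envA A) := by
  letI := (envA_field ht A).toField
  have : Finite (Module.End F V) := Finite.of_injective _ DFunLike.coe_injective
  let f : H →* (envA A ≃ₐ[F] envA A) := MonoidHom.mk' (fun h => AlgEquiv.ofBijective
    (((h.1.conjAlgEquiv F).toAlgHom.comp (envA A).val).codRestrict _ fun x => envA_conj h x.2) (AlgHom.bijective _)) fun _ _ =>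
      AlgEquiv.ext fun _ => Subtype.ext (by ext; rfl)
  have hf : ∀ h c v, (f h c).1 v = h.1 (c.1 (h.1.symm v)) := fun _ _ _ => rfl
  have : f.ker = centralizer (A : Set H) := by
    ext h
    refine ⟨fun e a ha => Subtype.ext (LinearEquiv.ext fun v => ?_), fun e => AlgEquiv.ext fun ⟨c, hc⟩ => Subtype.ext ?_⟩
    · simpa [hf] using (LinearMap.congr_fun (congrArg Subtype.val (DFunLike.congr_fun e ⟨_, mem_envA ha⟩)) (h.1 v)).symm
    · have := Algebra.commute_of_mem_adjoin_of_forall_mem_commute (a := h.1.toLinearMap) hc (by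
        rintro _ ⟨a, rfl⟩
        exact congrArg (fun x : H => x.1.toLinearMap) (e a a.2).symm)
      ext v
      simpa [hf] using LinearMap.congr_fun this (h.1.symm v)
  rw [← this, index_ker, ← IsGalois.card_aut_eq_finrank]
  exact card_subgroup_dvd_card _

end

end CfsgPm
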