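import Cfsg.Agent.H3.Sn1
import Cfsg.Agent.H8.MinNormal
import Cfsg.Agent.H1.Coprime

set_option autoImplicit false

namespace CfsgPm

open MulAction Subgroup

variable {G Ω : Type*} [Group G] [Finite G] [MulAction G Ω] [FaithfulSMul G Ω] [Finite Ω] {P : Subgroup G}

theorem trans_of_prime (hp : (Nat.card Ω).Prime) (hP : Nat.card P = Nat.card Ω) : IsPretransitive P Ω := by
  obtain ⟨⟨x, hx⟩, h⟩ := ne_bot_iff_exists_ne_one.1 (show P ≠ ⊥ from fun e => hp.ne_one (hP.symm.trans (card_eq_one.2 e)))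
  obtain ⟨a, ha⟩ : ∃ a : Ω, x • a ≠ a := by_contra fun e => h (Subtype.ext (eq_of_smul_eq_smul (α := Ω) (by simpa using e)))
  have h1 := (stabilizer P a).index_dvd_card
  rw [hP, Nat.dvd_prime hp, index_eq_one] at h1
  have h2 := h1.resolve_left fun e => ha (e.ge (mem_top (⟨x, hx⟩ : P)))
  rw [index_stabilizer] at h2
  exact (isPretransitive_iff_orbit_eq_univ a).2 (Set.eq_of_subset_of_ncard_le (Set.subset_univ _) (by rw [h2, Set.ncard_univ]))

theorem cent_le_of_prime (hp : (Nat.card Ω).Prime) (hP : Nat.card P = Nat.card Ω) : centralizer (P : Set G) ≤ P := fun x hx => by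
  have := trans_of_prime hp hP
  have := Fact.mk hp
  have := isCyclic_of_prime_card hP
  obtain ⟨a⟩ := (Nat.card_pos_iff.1 hp.pos).1
  exact CfsgH8.mem_of_cent a (fun _ h _ h' => setLike_mul_comm h h') hx

theorem card_norm_of_prime (hp : (Nat.card Ω).Prime) (hP : Nat.card P = Nat.card Ω) :
    ∃ d, d ∣ Nat.card Ω - 1 ∧ Nat.card (normalizer (P : Set G)) = Nat.card Ω * d := by
  have := Fact.mk hp
  have := isCyclic_of_prime_card hP
  refine ⟨P.normalizerMonoidHom.ker.index, ?_, ?_⟩
  · rw [index_ker, ← Nat.totient_prime hp, ← hP, ← IsCyclic.card_mulAut]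
    exact card_subgroup_dvd_card _
  rw [← P.normalizerMonoidHom.ker.card_mul_index, normalizerMonoidHom_ker, (cent_le_of_prime hp hP).antisymm P.le_centralizer,
    Nat.card_congr (subgroupOfEquivOfLe P.le_normalizer).toEquiv, hP]

open scoped commutatorElement in
theorem comm_norm_of_prime (hp : (Nat.card Ω).Prime) (hP : Nat.card P = Nat.card Ω) {x y : G} (hx : x ∈ normalizer (P : Set G))
    (hy : y ∈ normalizer (P : Set G)) : ⁅x, y⁆ ∈ P := by
  have := Fact.mk hp
  have := isCyclic_of_prime_card hP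
  have : ⁅(⟨x, hx⟩ : normalizer (P : Set G)), ⟨y, hy⟩⁆ ∈ P.normalizerMonoidHom.ker := by
    rw [MonoidHom.mem_ker, map_commutatorElement, commutatorElement_eq_one_iff_mul_comm]
    exact (IsCyclic.mulAutMulEquiv P).injective (by rw [map_mul, map_mul, mul_comm])
  rw [normalizerMonoidHom_ker] at this
  exact cent_le_of_prime hp hP this

theorem solv_of_normal_prime (hp : (Nat.card Ω).Prime) (hP : Nat.card P = Nat.card Ω) [P.Normal] : Group.IsSolvable G := by
  have := Fact.mk hp
  have := isCyclic_of_prime_card hP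
  have : IsMulCommutative (G ⧸ P) := (Normal.quotient_commutative_iff_commutator_le).2 (commutator_le.2 fun x _ y _ =>
    comm_norm_of_prime hp hP (normalizer_eq_top P ▸ mem_top x) (normalizer_eq_top P ▸ mem_top y))
  exact CfsgH1.isSolvable_of_normal_of_quotient P CfsgH1.isSolvable_of_isMulCommutative CfsgH1.isSolvable_of_isMulCommutative

theorem card_sylow_of_prime [IsPretransitive G Ω] {p : ℕ} [Fact p.Prime] (hp : Nat.card Ω = p) (P : Sylow p G) : Nat.card P = p := by
  obtain ⟨a⟩ := (Nat.card_pos_iff.1 (hp.symm ▸ (Fact.out : p.Prime).pos)).1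
  have h1 := (stabilizer G a).index_dvd_card
  have h2 := card_dvd_of_injective (toPermHom G Ω) toPerm_injective
  rw [index_stabilizer_of_transitive, hp] at h1
  rw [Nat.card_perm, hp] at h2
  have hp : p.Prime := Fact.out
  have h3 : ¬ 2 ≤ (Nat.card G).factorization p := fun h => by
    have := ((hp.pow_dvd_iff_le_factorization Nat.card_pos.ne').2 h).trans h2
    rw [← Nat.mul_factorial_pred hp.ne_zero, pow_two, Nat.mul_dvd_mul_iff_left hp.pos, hp.dvd_factorial] at this
    have := hp.pos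
    omega
  have := (hp.dvd_iff_one_le_factorization Nat.card_pos.ne').1 h1
  rw [P.card_eq_multiplicity, show (Nat.card G).factorization p = 1 by omega, pow_one]

theorem dvd_card_of_normal [IsPretransitive G Ω] (hp : (Nat.card Ω).Prime) (N : Subgroup G) [N.Normal] (hN : N ≠ ⊥) :
    Nat.card Ω ∣ Nat.card N := by
  have := IsPreprimitive.of_prime_card (G := G) hp
  have : IsPretransitive N Ω := IsQuasiPreprimitive.isPretransitive_of_normal fun e => hN (eq_bot_iff.2 fun x hx =>
    eq_of_smul_eq_smul (α := Ω) fun a => (e.ge (Set.mem_univ a) ⟨x, hx⟩).trans (one_smul _ a).symm)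
  obtain ⟨a⟩ := (Nat.card_pos_iff.1 hp.pos).1
  exact index_stabilizer_of_transitive N a ▸ (stabilizer N a).index_dvd_card

theorem normal_of_solv [IsPretransitive G Ω] (hp : (Nat.card Ω).Prime) (N : Subgroup G) [N.Normal] (hN : N ≠ ⊥) [Group.IsSolvable N] :
    ∃ A : Subgroup G, A.Normal ∧ Nat.card A = Nat.card Ω := by
  obtain ⟨M, q, hq, h1, h2, -, -, h3, -⟩ := CfsgH1.exists_minNormal_elementary N ‹_› hN
  have h4 := dvd_card_of_normal hp M h2
  have := Fact.mk hq
  obtain ⟨k, hk⟩ := h3.exists_card_eq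
  have e := (Nat.prime_dvd_prime_iff_eq hp hq).1 (hp.dvd_of_dvd_pow (hk ▸ h4))
  obtain ⟨P, h5⟩ := h3.exists_le_sylow
  exact ⟨M, h1, Nat.dvd_antisymm (e.symm ▸ card_sylow_of_prime e P ▸ card_dvd_of_le h5) h4⟩

end CfsgPm
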