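import Mathlib

set_option autoImplicit false

/-! Abelian subgroups of symmetric and alternating groups. -/
namespace CfsgPm
open Subgroup Equiv MulAction Finset

def abF : ℕ → ℕ
  | 0 => 1 | 1 => 1 | 2 => 2 | 3 => 3 | 4 => 4 | n + 5 => 3 * abF (n + 2)

def abG : ℕ → ℕ
  | 0 => 1 | 1 => 1 | 2 => 1 | 3 => 3 | 4 => 4 | 5 => 5 | 6 => 9 | 7 => 12 | 8 => 16 | n + 9 => 3 * abG (n + 6)

theorem abF_step (n : ℕ) : ∀ m, 1 ≤ m → m * abF n ≤ abF (n + m) := by
  induction n using Nat.strong_induction_on with | _ n ih =>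
  by_cases h : 5 ≤ n
  · obtain ⟨n, rfl⟩ := Nat.exists_eq_add_of_le' h
    intro m hm
    have := ih (n + 2) (by omega) m hm
    rw [show n + 5 + m = n + m + 5 by omega, abF, abF, show n + m + 2 = n + 2 + m by omega]; nlinarith
  intro m
  induction m using Nat.strong_induction_on with | _ m ih =>
  intro hm
  by_cases h' : 5 ≤ m
  · obtain ⟨m, rfl⟩ := Nat.exists_eq_add_of_le' h'
    have := ih (m + 2) (by omega) (by omega)
    rw [← add_assoc, abF, add_assoc n]; nlinarith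
  have : ∀ n < 5, ∀ m < 5, m * abF n ≤ abF (n + m) := by decide
  exact this _ (by omega) _ (by omega)

theorem abG_pos : ∀ n, 0 < abG n
  | 0 | 1 | 2 | 3 | 4 | 5 | 6 | 7 | 8 => by decide
  | n + 9 => by have := abG_pos (n + 6); rw [abG]; omega

set_option synthInstance.maxSize 2000 in
theorem abG_step (n : ℕ) : ∀ m, m ≠ 2 → m * abG n ≤ abG (n + m) ∧
    (m ≠ 0 → m ≠ 3 → m ≠ 4 → 3 ≤ n + m → n + m ≠ 5 → m * abG n < abG (n + m)) := by
  induction n using Nat.strong_induction_on with | _ n ih =>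
  by_cases h : 9 ≤ n
  · obtain ⟨n, rfl⟩ := Nat.exists_eq_add_of_le' h
    intro m hm
    have := ih (n + 6) (by omega) m hm
    rw [show n + 9 + m = n + m + 9 by omega, abG, abG, show n + m + 6 = n + 6 + m by omega]
    exact ⟨by nlinarith [this.1], fun a b c _ _ => by nlinarith [this.2 a b c (by omega) (by omega)]⟩
  intro m
  induction m using Nat.strong_induction_on with | _ m ih =>
  intro hm
  by_cases h' : 9 ≤ m
  · obtain ⟨m, rfl⟩ := Nat.exists_eq_add_of_le' h'
    have := (ih (m + 6) (by omega) (by omega)).2 (by omega) (by omega) (by omega) (by omega) (by omega)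
    have : (m + 9) * abG n < abG (n + (m + 9)) := by rw [← add_assoc, abG, add_assoc n]; nlinarith
    exact ⟨this.le, fun _ _ _ _ _ => this⟩
  have : ∀ n < 9, ∀ m < 9, m ≠ 2 → m * abG n ≤ abG (n + m) ∧
    (m ≠ 0 → m ≠ 3 → m ≠ 4 → 3 ≤ n + m → n + m ≠ 5 → m * abG n < abG (n + m)) := by decide
  exact this _ (by omega) _ (by omega) hm

theorem abF_lt : ∀ n, abF (n + 3) < 2 * abG (n + 3)
  | 0 | 1 | 2 | 3 | 4 | 5 => by decide
  | n + 6 => by have := abF_lt (n + 3); show 3 * abF (n + 3 + 3) < 2 * (3 * abG (n + 3 + 3)); omega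

theorem abF_eq (k : ℕ) : abF (3 * k + 3) = 3 ^ (k + 1) ∧ abF (3 * k + 4) = 4 * 3 ^ k ∧ abF (3 * k + 5) = 2 * 3 ^ (k + 1) := by
  induction k with
  | zero => decide
  | succ k ih =>
    rw [show 3 * (k + 1) + 3 = 3 * k + 1 + 5 by ring, show 3 * (k + 1) + 4 = 3 * k + 2 + 5 by ring, abF, abF, abF,
      show 3 * (k + 1) + 2 = 3 * k + 5 by ring, ih.1, ih.2.1, ih.2.2]
    exact ⟨by ring, by ring, by ring⟩

theorem abG_eq (k : ℕ) : abG (3 * k + 6) = 3 ^ (k + 2) ∧ abG (3 * k + 7) = 4 * 3 ^ (k + 1) ∧ abG (3 * k + 8) = 16 * 3 ^ k := by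
  induction k with
  | zero => decide
  | succ k ih =>
    rw [show 3 * (k + 1) + 6 = 3 * k + 9 by ring, show 3 * (k + 1) + 7 = 3 * k + 1 + 9 by ring,
      show 3 * (k + 1) + 8 = 3 * k + 2 + 9 by ring, abG, abG, abG, ih.1, ih.2.1, ih.2.2]
    exact ⟨by ring, by ring, by ring⟩

theorem prod_le_F {Ω : Type*} (F : ℕ → ℕ) (h0 : F 0 = 1) (s : Ω → ℕ) (h : ∀ w n, s w * F n ≤ F (n + s w)) (T : Finset Ω) :
    ∏ w ∈ T, s w ≤ F (∑ w ∈ T, s w) := by
  classical
  induction T using Finset.induction_on with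
  | empty => simp [h0]
  | insert w T hw ih => rw [prod_insert hw, sum_insert hw, add_comm]; exact (Nat.mul_le_mul_left _ ih).trans (h _ _)

variable {α : Type*}

/-- orbit map -/
abbrev oq (A : Subgroup (Perm α)) : α → orbitRel.Quotient A α := Quotient.mk _
/-- orbit size -/
noncomputable abbrev osz (A : Subgroup (Perm α)) (w : orbitRel.Quotient A α) : ℕ := Nat.card {x // oq A x = w}

theorem oq_eq {A : Subgroup (Perm α)} {x y : α} : oq A x = oq A y ↔ ∃ a ∈ A, a y = x :=
  Quotient.eq.trans ⟨fun ⟨a, h⟩ => ⟨a, a.2, h⟩, fun ⟨a, m, h⟩ => ⟨⟨a, m⟩, h⟩⟩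

theorem oq_ap {A : Subgroup (Perm α)} {a : Perm α} (ha : a ∈ A) (x : α) : oq A (a x) = oq A x := oq_eq.2 ⟨a, ha, rfl⟩

theorem ab_fix {A : Subgroup (Perm α)} [IsMulCommutative A] {a b : Perm α} (ha : a ∈ A) (hb : b ∈ A) {x y : α} (h : oq A y = oq A x)
    (e : a x = b x) : a y = b y := by
  obtain ⟨c, hc, rfl⟩ := oq_eq.1 h
  rw [← Perm.mul_apply, setLike_mul_comm ha hc, Perm.mul_apply, e, ← Perm.mul_apply, setLike_mul_comm hc hb, Perm.mul_apply]

variable [Finite α]

theorem osz_pos (A : Subgroup (Perm α)) (w : orbitRel.Quotient A α) : 1 ≤ osz A w :=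
  Nat.card_pos_iff.2 ⟨⟨⟨w.out, w.out_eq⟩⟩, inferInstance⟩

theorem osz_sum (A : Subgroup (Perm α)) [Fintype (orbitRel.Quotient A α)] : ∑ w, osz A w = Nat.card α := by
  rw [← Nat.card_sigma]; exact Nat.card_congr (sigmaFiberEquiv _)

theorem card_le_prod (A : Subgroup (Perm α)) [IsMulCommutative A] [Fintype (orbitRel.Quotient A α)] : Nat.card A ≤ ∏ w, osz A w := by
  rw [← Nat.card_pi]
  refine Nat.card_le_card_of_injective (fun a w => ⟨a.1 w.out, (oq_ap a.2 _).trans w.out_eq⟩) fun a b h => Subtype.ext (Perm.ext fun x =>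
    ab_fix a.2 b.2 (Quotient.out_eq (oq A x)).symm (congrArg Subtype.val (congrFun h _)))

theorem ab_le_F (A : Subgroup (Perm α)) [IsMulCommutative A] : Nat.card A ≤ abF (Nat.card α) := by
  haveI := Fintype.ofFinite (orbitRel.Quotient A α)
  exact (card_le_prod A).trans (osz_sum A ▸ prod_le_F _ rfl _ (fun w n => abF_step n _ (osz_pos A w)) _)

omit [Finite α] in
theorem ab_sup {G : Type*} [Group G] (A B : Subgroup G) [IsMulCommutative A] [IsMulCommutative B] (h : A ≤ centralizer B) :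
    IsMulCommutative (A ⊔ B : Subgroup G) := by
  refine le_centralizer_iff_isMulCommutative.1 (sup_le ?_ ?_) <;> rw [le_centralizer_iff] <;> refine sup_le ?_ ?_
  exacts [A.le_centralizer, le_centralizer_iff.1 h, h, B.le_centralizer]

omit [Finite α] in
theorem even_res [Fintype α] [DecidableEq α] (A : Subgroup (Perm α)) [IsMulCommutative A] (hA : A ≤ alternatingGroup α)
    (h : abF (Nat.card α) < 2 * Nat.card A) (p : α → Prop) [DecidablePred p] (hp : ∀ a ∈ A, ∀ x, p (a x) ↔ p x) {a : Perm α} (ha : a ∈ A) :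
    Perm.sign (a.subtypePerm (hp a ha)) = 1 := by
  rw [← Perm.sign_ofSubtype]
  set c := Perm.ofSubtype (a.subtypePerm (hp a ha))
  haveI := ab_sup (zpowers c) A (zpowers_le.2 fun b hb => Perm.ext fun x => by
    by_cases hx : p x
    · simp only [Perm.mul_apply, c, Perm.ofSubtype_subtypePerm_of_mem, hx, hp b hb]
      exact congrArg (· x) (setLike_mul_comm hb ha)
    · simp only [Perm.mul_apply, c, Perm.ofSubtype_apply_of_not_mem, hx, hp b hb, not_false_iff])
  have l := ab_le_F (zpowers c ⊔ A)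
  obtain ⟨k, e⟩ := card_dvd_of_le (le_sup_right : A ≤ zpowers c ⊔ A)
  have : k ≤ 1 := by by_contra q; nlinarith [Nat.mul_le_mul_left (Nat.card A) (show 2 ≤ k by omega)]
  exact hA ((eq_of_le_of_card_ge (le_sup_right : A ≤ zpowers c ⊔ A) (by nlinarith)).ge (mem_sup_left (mem_zpowers c)))

set_option synthInstance.maxSize 2000 in
theorem small_comm {β : Type*} [Fintype β] [DecidableEq β] (h : Nat.card β = 2 ∨ Nat.card β = 3 ∨ Nat.card β = 4) (c d : Perm β)
    (sc : Perm.sign c = 1) (sd : Perm.sign d = 1) (hc : ∀ x y, c x = x → c y = y) (hd : ∀ x y, d x = x → d y = y) :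
    c * d = d * c ∧ (Nat.card β = 2 → c = 1) := by
  have e := (Finite.equivFin β)
  have k : ∀ n, n = 2 ∨ n = 3 ∨ n = 4 → ∀ c d : Perm (Fin n), Perm.sign c = 1 → Perm.sign d = 1 → (∀ x y, c x = x → c y = y) →
      (∀ x y, d x = x → d y = y) → c * d = d * c ∧ (n = 2 → c = 1) := by
    rintro _ (rfl | rfl | rfl) <;> decide +kernel
  have t : ∀ c : Perm β, (∀ x y, c x = x → c y = y) → ∀ x y, e.permCongr c x = x → e.permCongr c y = y := fun c h x y q => by
    rw [permCongr_apply, apply_eq_iff_eq_symm_apply] at q ⊢; exact h _ _ q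
  have := k _ h _ _ ((Perm.sign_permCongr e c).trans sc) ((Perm.sign_permCongr e d).trans sd) (t c hc) (t d hd)
  exact ⟨e.permCongrHom.injective (by simpa using this.1), fun q => e.permCongrHom.injective ((this.2 q).trans (map_one _).symm)⟩

end CfsgPm
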