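import Cfsg.Agent.H3.Ab1

set_option autoImplicit false

/-! Largest abelian subgroups of symmetric and alternating groups. -/
namespace CfsgPm
open Subgroup Equiv MulAction Finset

def AbEx (b : Prop) (n c : ℕ) : Prop := ∃ A : Subgroup (Perm (Fin n)), IsMulCommutative A ∧ Nat.card A = c ∧ (b → A ≤ alternatingGroup _)

theorem AbEx.add {b : Prop} {m n c d : ℕ} (h : AbEx b m c) (k : AbEx b n d) : AbEx b (m + n) (c * d) := by
  obtain ⟨A, _, rfl, hA⟩ := h
  obtain ⟨B, _, rfl, hB⟩ := k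
  haveI : IsMulCommutative (A.prod B) := ⟨⟨fun x y => Subtype.ext (Prod.ext (setLike_mul_comm x.2.1 y.2.1) (setLike_mul_comm x.2.2 y.2.2))⟩⟩
  refine ⟨(A.prod B).map (finSumFinEquiv.permCongrHom.toMonoidHom.comp (Perm.sumCongrHom _ _)), inferInstance, ?_, fun t => ?_⟩
  · rw [card_map_of_injective (finSumFinEquiv.permCongrHom.injective.comp Perm.sumCongrHom_injective), Nat.card_congr (A.prodEquiv B).toEquiv, Nat.card_prod]
  rintro _ ⟨⟨x, y⟩, ⟨hx, hy⟩, rfl⟩
  exact (Perm.sign_permCongr _ _).trans ((Perm.sign_sumCongr x y).trans (by rw [hA t hx, hB t hy, mul_one]))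

theorem abEx_rot (b : Prop) (n : ℕ) (h : b → Even (n + 1)) : AbEx b (n + 2) (n + 2) :=
  ⟨zpowers (finRotate _), inferInstance, by rw [Nat.card_zpowers, isCycle_finRotate.orderOf, support_finRotate, card_fin],
    fun t => zpowers_le.2 ((sign_finRotate _).trans (h t).neg_one_pow)⟩

theorem abEx_four (b : Prop) : AbEx b 4 4 := by
  haveI := alternatingGroup.kleinFour_isKleinFour (α := Fin 4) (by simp)
  haveI : IsMulCommutative (alternatingGroup.kleinFour (Fin 4)) := ⟨⟨(IsKleinFour.isMulCommutative).1.1⟩⟩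
  exact ⟨(alternatingGroup.kleinFour (Fin 4)).map (alternatingGroup _).subtype, inferInstance,
    by rw [card_map_of_injective (subtype_injective _), IsKleinFour.card_four], fun _ => map_subtype_le _⟩

theorem abEx_one (b : Prop) (n : ℕ) : AbEx b n 1 := ⟨⊥, inferInstance, card_bot, fun _ => bot_le⟩

theorem abEx_F : ∀ n, AbEx False n (abF n)
  | 0 | 1 => abEx_one _ _
  | 2 | 3 | 4 => abEx_rot _ _ False.elim
  | n + 5 => by rw [abF, mul_comm]; exact (abEx_F (n + 2)).add (abEx_rot _ 1 False.elim)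

theorem abEx_G : ∀ n, AbEx True n (abG n)
  | 0 | 1 | 2 => abEx_one _ _
  | 3 | 5 => abEx_rot _ _ fun _ => by decide
  | 4 => abEx_four _
  | 6 => (abEx_G 3).add (abEx_G 3)
  | 7 => (abEx_G 3).add (abEx_G 4)
  | 8 => (abEx_G 4).add (abEx_G 4)
  | n + 9 => by rw [abG, mul_comm]; exact (abEx_G (n + 6)).add (abEx_rot _ 1 fun _ => by decide)

variable {α : Type*} [Fintype α] [DecidableEq α]

theorem orb_comm (A B : Subgroup (Perm α)) [IsMulCommutative A] [IsMulCommutative B] (hA : A ≤ alternatingGroup α) (hB : B ≤ alternatingGroup α)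
    (h : abF (Nat.card α) < 2 * Nat.card A) (h' : abF (Nat.card α) < 2 * Nat.card B) (e : ∀ x y, oq A x = oq A y ↔ oq B x = oq B y)
    (x : α) (s : osz A (oq A x) = 2 ∨ osz A (oq A x) = 3 ∨ osz A (oq A x) = 4) {a b : Perm α} (ha : a ∈ A) (hb : b ∈ B) :
    a (b x) = b (a x) ∧ (osz A (oq A x) = 2 → a x = x) := by
  classical
  have p1 : ∀ a ∈ A, ∀ y, oq A (a y) = oq A x ↔ oq A y = oq A x := fun a ha y => by rw [oq_ap ha]
  have p2 : ∀ a ∈ B, ∀ y, oq A (a y) = oq A x ↔ oq A y = oq A x := fun a ha y => by rw [e, e, oq_ap ha]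
  have := small_comm s _ _ (even_res A hA h _ p1 ha) (even_res B hB h' _ p2 hb)
    (fun y z q => Subtype.ext (ab_fix ha A.one_mem (z.2.trans y.2.symm) (congrArg Subtype.val q)))
    (fun y z q => Subtype.ext (ab_fix hb B.one_mem ((e _ _).1 (z.2.trans y.2.symm)) (congrArg Subtype.val q)))
  exact ⟨congrArg (fun g : Perm _ => (g ⟨x, rfl⟩).1) this.1, fun q => congrArg (fun g : Perm _ => (g ⟨x, rfl⟩).1) (this.2 q)⟩

theorem osz_ne_two (A : Subgroup (Perm α)) [IsMulCommutative A] (hA : A ≤ alternatingGroup α)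
    (h : abF (Nat.card α) < 2 * Nat.card A) (w) : osz A w ≠ 2 := fun q => by
  induction w using Quotient.inductionOn with | _ x =>
  obtain ⟨y, hy⟩ := @exists_ne {y // oq A y = oq A x} (Finite.one_lt_card_iff_nontrivial.1 (q.symm ▸ one_lt_two : 1 < osz A (oq A x))) ⟨x, rfl⟩
  obtain ⟨a, ha, e⟩ := oq_eq.1 y.2
  exact hy (Subtype.ext (e ▸ (orb_comm A A hA hA h h (fun _ _ => .rfl) x (.inl q) ha ha).2 q))

theorem ab_le_G (A : Subgroup (Perm α)) [IsMulCommutative A] (hA : A ≤ alternatingGroup α) (h3 : 3 ≤ Nat.card α) :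
    Nat.card A ≤ abG (Nat.card α) := by
  classical
  by_contra q
  obtain ⟨n, e⟩ := Nat.exists_eq_add_of_le' h3
  have h : abF (Nat.card α) < 2 * Nat.card A := by have := abF_lt n; rw [← e] at this; omega
  exact q ((card_le_prod A).trans (osz_sum A ▸ prod_le_F _ rfl _ (fun w n => (abG_step n _ (osz_ne_two A hA h w)).1) _))

theorem ab_shape (A : Subgroup (Perm α)) [IsMulCommutative A] (hA : A ≤ alternatingGroup α) (h3 : 3 ≤ Nat.card α) (h5 : Nat.card α ≠ 5)
    (h : Nat.card A = abG (Nat.card α)) : abF (Nat.card α) < 2 * Nat.card A ∧ (∀ w, osz A w = 3 ∨ osz A w = 4) ∧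
      3 ^ Nat.card {w // osz A w = 3} * 4 ^ Nat.card {w // osz A w = 4} = abG (Nat.card α) := by
  classical
  obtain ⟨n, e⟩ := Nat.exists_eq_add_of_le' h3
  have k : abF (Nat.card α) < 2 * Nat.card A := by have := abF_lt n; rw [← e] at this; omega
  have l := prod_le_F _ rfl _ (fun w n => (abG_step n _ (osz_ne_two A hA k w)).1)
  have c := card_le_prod A
  have s : ∀ w, osz A w = 3 ∨ osz A w = 4 := fun w => by
    by_contra! q
    have u := sum_erase_add _ (osz A) (mem_univ w)
    rw [osz_sum] at u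
    have := (abG_step (∑ x ∈ univ.erase w, osz A x) _ (osz_ne_two A hA k w)).2 (by have := osz_pos A w; omega) q.1 q.2 (u ▸ h3) (u ▸ h5)
    rw [← mul_prod_erase _ _ (mem_univ w), h] at c
    rw [u] at this
    nlinarith [Nat.mul_le_mul_left (osz A w) (l (univ.erase w))]
  refine ⟨k, s, ?_⟩
  rw [← le_antisymm ((l univ).trans_eq (by rw [osz_sum])) (h.ge.trans c), ← prod_filter_mul_prod_filter_not univ (osz A · = 3), Nat.subtype_card _ fun _ => mem_filter_univ _,
    Nat.subtype_card (univ.filter (¬ osz A · = 3)) fun w => (mem_filter_univ w).trans (by have := s w; omega), prod_congr rfl (g := fun _ => 3) (by simp),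
    prod_congr (s₁ := univ.filter (¬ osz A · = 3)) rfl (g := fun _ => 4) fun w m => (s w).resolve_left (by simpa using m), prod_const, prod_const]

theorem ex_conj (A B : Subgroup (Perm α)) (s : ∀ w, osz A w = 3 ∨ osz A w = 4) (c : ∀ m, Nat.card {w // osz A w = m} = Nat.card {w // osz B w = m})
    [Nonempty α] : ∃ σ ∈ alternatingGroup α, ∀ x y, oq B (σ x) = oq B (σ y) ↔ oq A x = oq A y := by
  let E := fun m => (Finite.card_eq.1 (c m)).some
  let e := ofFiberEquiv E
  let F := fun w => (Finite.card_eq.1 (show Nat.card {x // e (oq A x) = w} = osz B w by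
    rw [← e.apply_symm_apply w, ofFiberEquiv_map E]; simp only [e.apply_eq_iff_eq])).some
  have k : ∀ x y, oq B (ofFiberEquiv F x) = oq B (ofFiberEquiv F y) ↔ oq A x = oq A y := fun x y => by simp only [ofFiberEquiv_map F, e.apply_eq_iff_eq]
  by_cases q : ofFiberEquiv F ∈ alternatingGroup α
  · exact ⟨_, q, k⟩
  obtain ⟨x, y, n⟩ := (Finite.one_lt_card_iff_nontrivial.1 (show 1 < osz A (oq A (Classical.arbitrary α)) by
    rcases s (oq A (Classical.arbitrary α)) with h | h <;> omega)).1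
  have t : ∀ z, oq A (swap x.1 y.1 z) = oq A z := fun z => by
    rw [swap_apply_def]; split_ifs with a b; exacts [by rw [a, x.2, y.2], by rw [b, x.2, y.2], rfl]
  refine ⟨ofFiberEquiv F * swap x.1 y.1, ?_, fun a b => by simp only [Perm.mul_apply, k, t]⟩
  rw [Perm.mem_alternatingGroup] at q ⊢
  rw [map_mul, Perm.sign_swap (Subtype.ext_iff.ne.1 n), (Int.units_eq_one_or _).resolve_left q]; rfl

theorem pow34 {a b c d : ℕ} (h : 3 ^ a * 4 ^ b = 3 ^ c * 4 ^ d) : a = c ∧ b = d := by
  have : a = c := by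
    have := congrArg (padicValNat 3) h
    simpa [padicValNat.mul, padicValNat.pow, padicValNat.eq_zero_of_not_dvd (show ¬ 3 ∣ 4 by decide)] using this
  subst this
  simpa using h

end CfsgPm
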