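import Cfsg.Agent.S2119

set_option autoImplicit false

/-! Conjugacy in alternating groups; odd order automorphisms of alternating groups. -/
namespace CfsgPm
open Subgroup MulAction Equiv Equiv.Perm

theorem conjA {α : Type*} [Fintype α] [DecidableEq α] {x y : alternatingGroup α} (h : IsConj x.1 y.1) (c : ¬ centralizer {x.1} ≤ alternatingGroup α) :
    IsConj x y := by
  obtain ⟨g, hg⟩ := isConj_iff.1 h
  by_cases q : g ∈ alternatingGroup α
  · exact isConj_iff.2 ⟨⟨g, q⟩, Subtype.ext hg⟩
  obtain ⟨t, ht, r⟩ := SetLike.not_le_iff_exists.1 c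
  rw [mem_alternatingGroup] at q r
  refine isConj_iff.2 ⟨⟨g * t, ?_⟩, Subtype.ext ?_⟩
  · rw [mem_alternatingGroup, map_mul, (Int.units_eq_one_or _).resolve_left q, (Int.units_eq_one_or _).resolve_left r]; rfl
  show g * t * x * (g * t)⁻¹ = y
  rw [← hg, mul_assoc g, mem_centralizer_singleton_iff.1 ht]; group

theorem ind3 {n : ℕ} (hn : 6 ≤ n) (α : MulAut (alternatingGroup (Fin n))) {c : alternatingGroup (Fin n)} (h1 : c.1.IsThreeCycle) (h3 : (α c).1.IsThreeCycle) :
    α ∈ (MulAut.conjNormal : Perm (Fin n) →* _).range := by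
  have hG := fun k => Set.powersetCard.isPretransitive_alternatingGroup (α := Fin n) (n := k) (by simp; omega)
  have tr : IsPretransitive (alternatingGroup (Fin n)) (Fin n) := alternatingGroup.isPretransitive_of_three_le_card _ (by simp; omega)
  obtain ⟨o, -, ho⟩ := Finset.exists_mem_notMem_of_card_lt_card (s := c.1.support) (t := Finset.univ) (by simp [h1.card_support]; omega)
  have : Nontrivial (Fin n) := Fin.nontrivial_iff_two_le.2 (by omega)
  set H := (stabilizer (alternatingGroup (Fin n)) o).map α.toMonoidHom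
  have hH : H.index = Fintype.card (Fin n) := by rw [index_map_of_bijective α.bijective, index_stabilizer_of_transitive, Nat.card_eq_fintype_card]
  obtain ⟨σ, -, h⟩ := (Cfsg.Agent.S4275.result _ tr o α).2 (fix_of_index hG hH.le fun t => by
    set K := H.map (alternatingGroup (Fin n)).subtype
    have hK : K.index = Fintype.card (Fin n) * 2 := by rw [index_map_subtype, hH, alternatingGroup.index_eq_two]
    have hc : (α c).1 ∈ K := ⟨_, ⟨c, notMem_support.1 ho, rfl⟩, rfl⟩
    have e : (alternatingGroup.ofSubtype ({o}ᶜ : Finset (Fin n))).range = stabilizer (alternatingGroup (Fin n)) o := by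
      ext g
      rw [alternatingGroup.mem_range_ofSubtype_iff, mem_stabilizer_iff]
      exact ⟨fun h => by_contra fun e => by simpa using h (mem_support.2 e), fun h x hx => by
        simpa using fun e : x = o => mem_support.1 hx (e ▸ h)⟩
    have := alternatingGroup.isSimpleGroup (α := ({o}ᶜ : Finset (Fin n))) (by simp [Finset.card_compl]; omega)
    have : IsSimpleGroup K := ((((MonoidHom.ofInjective alternatingGroup.ofSubtype_injective).trans (MulEquiv.subgroupCongr e)).trans
      (α.subgroupMap _)).trans (equivMapOfInjective H _ (subtype_injective _))).symm.isSimpleGroup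
    have hN : ((closure {g | g ∈ K ∧ IsThreeCycle g}).subgroupOf K).Normal := ⟨fun x hx g => normal_three K g.2 hx⟩
    have : IsPretransitive K (Fin n) := ⟨fun x y => by
      obtain ⟨g, hg⟩ := t.1 x y
      exact ⟨⟨g.1.1, _, g.2, rfl⟩, hg⟩⟩
    have := index_antitone (alt_le_of_gen (subgroupOf_eq_top.1 (hN.eq_bot_or_eq_top.resolve_left fun e => h3.ne_one
      (congrArg Subtype.val (mem_bot.1 (e.le (show (⟨_, hc⟩ : K) ∈ _ from subset_closure ⟨hc, h3⟩)))))) hc h3)
    rw [alternatingGroup.index_eq_two, hK, Fintype.card_fin] at this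
    omega)
  exact ⟨σ, MulEquiv.ext fun g => Subtype.ext (h g).symm⟩

theorem odd_aut {n : ℕ} (hn : 5 ≤ n) (α : MulAut (alternatingGroup (Fin n))) (o : Odd (orderOf α)) :
    α ∈ (MulAut.conjNormal : Perm (Fin n) →* _).range := by
  by_cases h6 : n ≠ 6
  · exact (Cfsg.Agent.S2119.result n (by omega) h6).2 α
  obtain rfl := not_not.1 h6
  obtain ⟨m, hm⟩ := exists_pow_eq_self_of_coprime (x := α) (Nat.coprime_two_left.2 o)
  have t : IsThreeCycle (swap (0 : Fin 6) 1 * swap 0 2) := isThreeCycle_swap_mul_swap_same (by decide) (by decide) (by decide)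
  let c : alternatingGroup (Fin 6) := ⟨_, t.mem_alternatingGroup⟩
  have k : ∀ β : MulAut (alternatingGroup (Fin 6)), ¬ (β c).1.IsThreeCycle → (β c).1.cycleType = {3, 3} := fun β h => by
    have e : orderOf (β c).1 = 3 := by rw [orderOf_coe, MulEquiv.orderOf_eq, ← orderOf_coe, t.orderOf]
    obtain ⟨k, hk⟩ := cycleType_prime_order (e ▸ Nat.prime_three : (orderOf (β c).1).Prime)
    have := (β c).1.sum_cycleType_le
    rw [hk, e, Multiset.sum_replicate, smul_eq_mul, Fintype.card_fin] at this
    obtain rfl | rfl : k = 0 ∨ k = 1 := by omega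
    exacts [(h (hk.trans (e ▸ rfl))).elim, hk.trans (e ▸ rfl)]
  by_contra q
  have a := k α (mt (ind3 le_rfl α t) q)
  have b := k (α ^ 2) (mt (ind3 le_rfl _ t) fun r => q (hm ▸ pow_mem r m))
  have := α.symm.toMonoidHom.map_isConj (conjA (isConj_of_cycleType_eq (a.trans b.symm)) (by rw [centralizer_le_alternating_iff, a]; exact fun h => absurd (h.2.2 3) (by decide)))
  have := isConj_iff_cycleType_eq.1 ((alternatingGroup _).subtype.map_isConj this)
  simp [sq, a, c, t.cycleType] at this

end CfsgPm
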