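import Cfsg.Agent.H3.Sh2
import Cfsg.Agent.S0200
import Cfsg.Agent.S0713

set_option autoImplicit false

namespace CfsgPm

open MulAction Subgroup Finset Equiv Equiv.Perm

variable {α : Type*} [Fintype α] [DecidableEq α]

theorem supp_add_le {g : Perm α} (s : Finset α) (h : ∀ x ∈ s, g x = x) : #g.support + #s ≤ Fintype.card α := by
  rw [← card_union_of_disjoint (disjoint_right.2 fun x hx => by simpa using h x hx)]
  exact card_le_univ _

theorem card_tri {g : Perm α} (h : orderOf g = 3) {x : α} (hx : g x ≠ x) : #({x, g x, g (g x)} : Finset α) = 3 := by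
  have : g (g (g x)) = x := DFunLike.congr_fun (show g ^ 3 = 1 from h ▸ pow_orderOf_eq_one g) x
  exact card_eq_three.2 ⟨_, _, _, hx.symm, fun e => hx (by rw [e, this, ← e]), fun e => hx (g.injective e).symm, rfl⟩

theorem exists_prime_pow {G : Type*} [Group G] [Finite G] {w : G} (h : w ≠ 1) : ∃ n r, r.Prime ∧ r ∣ orderOf w ∧ orderOf (w ^ n) = r := by
  obtain ⟨r, h1, h2⟩ := Nat.exists_prime_and_dvd (orderOf_eq_one_iff.not.2 h)
  exact ⟨_, r, h1, h2, orderOf_pow_orderOf_div (orderOf_pos w).ne' h2⟩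

variable (hα : Fintype.card α = 11) {G : Subgroup (Perm α)}
include hα

theorem card_two11 (h2 : IsMultiplyPretransitive G α 2) {a b : α} (h : a ≠ b) :
    Nat.card G = 110 * Nat.card (fixingSubgroup G ({a, b} : Set α)) := by
  have := h2.index_of_fixingSubgroup_mul (Set.ncard_pair h)
  rw [Nat.card_eq_fintype_card, hα] at this
  norm_num [Nat.factorial] at this
  rw [← (fixingSubgroup G ({a, b} : Set α)).index_mul_card]
  congr 1; omega

variable [IsPretransitive G α] (hA : ¬ alternatingGroup α ≤ G)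
include hA

theorem supp11 (g : G) {p : ℕ} (hp : p.Prime) (h : orderOf g = p) :
    ∃ k, #g.1.support = k * p ∧ k * p ≤ 11 ∧ 1 ≤ k ∧ (p ≤ 7 → 2 ≤ k) ∧ sign g.1 = (-1) ^ (k * p + k) := by
  rw [← Subgroup.orderOf_coe] at h
  obtain ⟨n, e⟩ := cycleType_prime_order (h ▸ hp)
  have s : #g.1.support = (n + 1) * p := by rw [← sum_cycleType, e, h, Multiset.sum_replicate]; rfl
  refine ⟨n + 1, s, s ▸ hα ▸ card_le_univ _, by omega, fun k => by_contra fun c => hA ?_, by rw [sign_of_cycleType, sum_cycleType, s, e]; simp⟩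
  obtain rfl : n = 0 := by omega
  exact Cfsg.Agent.S0713.result G (IsPreprimitive.of_prime_card (by rw [Nat.card_eq_fintype_card, hα]; norm_num)) hp (by omega) (by omega)
    (card_cycleType_eq_one.1 (by simp [e])) (by simpa using s) g.2

theorem five11 (g : G) (h5 : 5 ∣ Nat.card (centralizer {g})) : 5 ∣ #g.1.support := by
  have : Fact (Nat.Prime 5) := ⟨by norm_num⟩
  obtain ⟨⟨h, hc⟩, o⟩ := exists_prime_orderOf_dvd_card' 5 h5
  rw [← Subgroup.orderOf_coe] at o
  obtain ⟨k, h1, h2, -, h3, -⟩ := supp11 hα hA h Fact.out o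
  have c : Commute h.1 g.1 := congrArg Subtype.val (mem_centralizer_singleton_iff.1 hc)
  by_contra n
  obtain ⟨⟨x, hx⟩, e⟩ := exists_fixed_point_of_prime (p := 5) (n := 1) (σ := h.1.subtypePerm (mem_support_iff_of_commute c))
    (by rwa [Fintype.card_coe]) (by
      rw [subtypePerm_pow]
      have : h.1 ^ 5 ^ 1 = 1 := congrArg Subtype.val (o ▸ pow_orderOf_eq_one h)
      ext; simp only [this]; rfl)
  have e : h.1 x = x := congrArg Subtype.val e
  have := supp_add_le (g := h.1) {x, g.1 x} (by simpa [e] using DFunLike.congr_fun c x)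
  rw [card_pair (mem_support.1 hx).symm] at this
  omega

theorem three11 (h2 : IsMultiplyPretransitive G α 2) (h9 : 9 ∣ Nat.card G) (g : G) (hg : orderOf g = 3) : #g.1.support = 9 := by
  have : Fact (Nat.Prime 3) := ⟨by norm_num⟩
  obtain ⟨k, h1, h3, -, h4, -⟩ := supp11 hα hA g Fact.out hg
  by_contra n
  have s6 : #g.1.support = 6 := by omega
  have cF : #g.1.supportᶜ = 5 := by rw [card_compl]; omega
  obtain ⟨x, hx⟩ := card_pos.1 (cF.symm ▸ Nat.succ_pos 4 : 0 < #g.1.supportᶜ)
  obtain ⟨c, hc⟩ := card_pos.1 (s6.symm ▸ Nat.succ_pos 5 : 0 < #g.1.support)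
  have I : ∀ k ∈ centralizer {g}, ∀ y, k.1 y ∈ g.1.support ↔ y ∈ g.1.support := fun k hk =>
    mem_support_iff_of_commute (congrArg Subtype.val (mem_centralizer_singleton_iff.1 hk))
  have O : orbit (centralizer {g}) x = ↑(g.1.supportᶜ) := by
    refine Set.ext fun y => ⟨fun ⟨k, e⟩ => e ▸ Finset.mem_compl.2 ((I k k.2 x).not.2 (Finset.mem_compl.1 hx)), fun hy => ?_⟩
    replace hy : y ∈ g.1.supportᶜ := hy
    by_cases e : x = y
    · exact e ▸ mem_orbit_self x
    obtain ⟨a, ha, b, hb, hab⟩ := one_lt_card.1 (show 1 < #(g.1.supportᶜ \ {x, y}) by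
      rw [card_sdiff_of_subset (by simp [Finset.insert_subset_iff, -Finset.mem_compl, hx, hy]), card_pair e]; omega)
    simp only [Finset.mem_sdiff, Finset.mem_compl, mem_support, not_not, Finset.mem_insert, Finset.mem_singleton, not_or] at ha hb
    let g' : fixingSubgroup G ({a, b} : Set α) := ⟨g, (mem_fixingSubgroup_iff _).2 (by simpa using ⟨ha.1, hb.1⟩)⟩
    obtain ⟨T, t1, t2⟩ := Sylow.exists_subgroup_card_pow_succ (p := 3) (n := 1) (H := zpowers g')
      (Nat.Coprime.dvd_of_dvd_mul_left (by norm_num) (card_two11 hα h2 hab ▸ h9)) (by rw [Nat.card_zpowers, ← Subgroup.orderOf_coe, hg]; rfl)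
    have := IsPGroup.isMulCommutative_of_card_eq_prime_sq t1
    have C : ∀ t : T, t.1.1 ∈ centralizer {g} := fun t => mem_centralizer_singleton_iff.2
      (congrArg Subtype.val (setLike_mul_comm t.2 (t2 (mem_zpowers g'))))
    have i := (stabilizer T c).index_mul_card
    have : (stabilizer T c).index ≤ 6 := by
      rw [index_stabilizer, ← s6, ← Set.ncard_coe_finset]
      exact Set.ncard_le_ncard fun _ ⟨t, e⟩ => e ▸ (I _ (C t) c).2 hc
    obtain ⟨k, o⟩ := exists_prime_orderOf_dvd_card' (G := stabilizer T c) 3 (by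
      rw [t1] at i
      generalize Nat.card (stabilizer T c) = m at i
      interval_cases (stabilizer T c).index <;> omega)
    rw [← Subgroup.orderOf_coe, ← Subgroup.orderOf_coe, ← Subgroup.orderOf_coe] at o
    have kc : k.1.1.1.1 c = c := k.2
    have kab := (mem_fixingSubgroup_iff _).1 k.1.1.2
    have kC := C k.1
    generalize k.1.1.1 = k at o kc kab kC
    have ka : k.1 a = a := kab a (by simp)
    have kb : k.1 b = b := kab b (by simp)
    have kx : k.1 x ≠ x := fun kx => by
      obtain ⟨j, j1, -, -, j2, -⟩ := supp11 hα hA k Fact.out o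
      have cm : ∀ y, k.1 (g.1 y) = g.1 (k.1 y) := DFunLike.congr_fun (congrArg Subtype.val (mem_centralizer_singleton_iff.1 kC))
      have := supp_add_le (g := k.1) ({a, b, x} ∪ {c, g.1 c, g.1 (g.1 c)}) (by simp [*])
      rw [card_union_of_disjoint (Finset.disjoint_of_subset_left (show _ ⊆ g.1.supportᶜ by simpa [Finset.insert_subset_iff, ha.1, hb.1] using hx)
        (Finset.disjoint_of_subset_right (show _ ⊆ g.1.support by simpa [Finset.insert_subset_iff] using hc) disjoint_compl_left)),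
        card_tri (Subgroup.orderOf_coe g ▸ hg) (mem_support.1 hc), card_eq_three.2 ⟨_, _, _, hab, ha.2.1, hb.2.1, rfl⟩] at this
      omega
    have S : ∀ z ∈ g.1.supportᶜ \ {a, b}, k.1 z ∈ g.1.supportᶜ \ {a, b} := fun z hz => by
      simp only [Finset.mem_sdiff, Finset.mem_compl, Finset.mem_insert, Finset.mem_singleton, not_or, I k kC] at hz ⊢
      exact ⟨hz.1, fun e => hz.2.1 (k.1.injective (e.trans ka.symm)), fun e => hz.2.2 (k.1.injective (e.trans kb.symm))⟩
    have hx' : x ∈ g.1.supportᶜ \ {a, b} := by simp [-Finset.mem_compl, hx, Ne.symm ha.2.1, Ne.symm hb.2.1]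
    have := (eq_of_subset_of_card_le (s := {x, k.1 x, k.1 (k.1 x)}) (t := g.1.supportᶜ \ {a, b})
      (by simp only [Finset.insert_subset_iff, Finset.singleton_subset_iff]; exact ⟨hx', S _ hx', S _ (S _ hx')⟩) (by
      rw [card_tri (Subgroup.orderOf_coe k ▸ o) kx, card_sdiff_of_subset (by simp [Finset.insert_subset_iff, ha.1, hb.1]), card_pair hab]
      omega)).ge (show y ∈ _ by simp [-Finset.mem_compl, hy, Ne.symm ha.2.2, Ne.symm hb.2.2])
    simp only [Finset.mem_insert, Finset.mem_singleton] at this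
    rcases this with rfl | rfl | rfl
    exacts [mem_orbit_self _, ⟨⟨k, kC⟩, rfl⟩, ⟨⟨k, kC⟩ * ⟨k, kC⟩, rfl⟩]
  have := (stabilizer (centralizer {g}) x).index_dvd_card
  rw [index_stabilizer, O, Set.ncard_coe_finset, cF] at this
  have := five11 hα hA g this
  omega

theorem small11 (h2 : IsMultiplyPretransitive G α 2) (h9 : 9 ∣ Nat.card G) {w : G} (h : w ≠ 1) (hw : #w.1.support ≤ 7) :
    ∃ n, orderOf (w ^ n) = 2 ∧ #(w ^ n).1.support = 6 ∧ sign (w ^ n).1 = -1 := by
  have K : ∀ w : G, w ≠ 1 → #w.1.support ≤ 8 → ∃ n, 2 ∣ orderOf w ∧ orderOf (w ^ n) = 2 := fun w h hw => by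
    obtain ⟨n, r, h1, h3, h4⟩ := exists_prime_pow h
    obtain ⟨k, k1, k2, k3, k4, -⟩ := supp11 hα hA _ h1 h4
    have := (card_le_card (support_pow_le w.1 n)).trans hw
    have r8 : r ≤ 8 := (Nat.le_mul_of_pos_left r k3).trans (k1 ▸ this)
    obtain rfl : r = 2 := by
      interval_cases r
      all_goals first | rfl | (norm_num at h1; done) | skip
      · have := three11 hα hA h2 h9 _ h4
        simp_all
      all_goals simp only [SubgroupClass.coe_pow] at k1; omega
    exact ⟨n, h3, h4⟩
  obtain ⟨n, -, h4⟩ := K w h (by omega)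
  obtain ⟨k, k1, k2, k3, k4, k5⟩ := supp11 hα hA _ Nat.prime_two h4
  have := (card_le_card (support_pow_le w.1 n)).trans hw
  obtain rfl : k = 3 := by_contra fun c => by
    obtain ⟨x, x1, x2, x3⟩ := Cfsg.Agent.S0200.result _ h4 fun N _ p m => by
      have d := dvd_card_of_normal (Ω := α) (by rw [Nat.card_eq_fintype_card, hα]; norm_num) N fun e => by
        rw [e, Subgroup.mem_bot] at m; simp [m] at h4
      have := Fact.mk Nat.prime_two
      obtain ⟨j, e⟩ := p.exists_card_eq
      rw [e, Nat.card_eq_fintype_card, hα] at d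
      exact absurd ((by norm_num : Nat.Prime 11).dvd_of_dvd_pow d) (by norm_num)
    rw [← SubgroupClass.coe_pow] at this
    generalize w ^ n = t at *
    have o := x2.coprime_two_right.orderOf_pow
    obtain ⟨-, d, -⟩ := K (x ^ 2) (fun e => x1 (by rw [e, orderOf_one] at o; exact orderOf_eq_one_iff.1 o.symm)) (by
      have : x ^ 2 = x * t⁻¹ * x⁻¹ * t := by rw [← x3, sq]; group
      rw [this]
      refine (card_le_card (support_mul_le _ _)).trans ((card_union_le _ _).trans ?_)
      have : #(x.1 * t.1⁻¹ * x.1⁻¹).support = #t.1.support := by rw [card_support_conj, support_inv]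
      exact (add_le_add this.le le_rfl).trans (by omega))
    exact (Nat.not_even_iff_odd.2 x2) (even_iff_two_dvd.2 (o ▸ d))
  exact ⟨n, h4, k1, k5⟩

end CfsgPm
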