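import Mathlib
import Cfsg.Prelude.Def_Sporadic_a

set_option autoImplicit false

namespace CfsgPm

open Finset Cfsg
open scoped symmDiff

variable {ι : Type*} [Fintype ι] [DecidableEq ι]

theorem z2 (a : ZMod 2) : a = 0 ∨ a = 1 := by revert a; decide

theorem sup2_sub (u v : ι → ZMod 2) : support₂ (u - v) = support₂ u ∆ support₂ v := by
  ext i
  simp only [support₂, mem_filter, mem_univ, true_and, mem_symmDiff, Pi.sub_apply]
  rcases z2 (u i) with h | h <;> rcases z2 (v i) with h' | h' <;> simp [h, h']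

theorem wt_sub (u v : ι → ZMod 2) : hammingNorm (u - v) + 2 * #(support₂ u ∩ support₂ v) = hammingNorm u + hammingNorm v := by
  change #(support₂ (u - v)) + _ = #(support₂ u) + #(support₂ v)
  have h1 := card_sdiff_add_card_inter (support₂ u) (support₂ v)
  have h2 := card_sdiff_add_card_inter (support₂ v) (support₂ u)
  rw [inter_comm (support₂ v)] at h2
  rw [sup2_sub, symmDiff_def, sup_eq_union, card_union_of_disjoint disjoint_sdiff_sdiff]
  omega

theorem sup2_bij : Function.Bijective (support₂ : (ι → ZMod 2) → Finset ι) := by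
  refine ⟨fun u v e => funext fun i => ?_, fun s => ⟨fun i => if i ∈ s then 1 else 0, by ext; simp [support₂]⟩⟩
  have := Finset.ext_iff.1 e i
  simp only [support₂, mem_filter, mem_univ, true_and] at this
  rcases z2 (u i) with h | h <;> rcases z2 (v i) with h' | h' <;> simp_all

theorem even_inter {u v : ι → ZMod 2} (h : ∑ i, u i * v i = 0) : 2 ∣ #(support₂ u ∩ support₂ v) := by
  rw [← ZMod.natCast_eq_zero_iff, ← h, card_eq_sum_ones, Nat.cast_sum, ← sum_subset (subset_univ (support₂ u ∩ support₂ v))]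
  · refine sum_congr rfl fun i hi => ?_
    simp only [support₂, mem_inter, mem_filter, mem_univ, true_and] at hi
    rw [(z2 _).resolve_left hi.1, (z2 _).resolve_left hi.2]; simp
  · intro i _ hi
    rcases z2 (u i) with h | h <;> rcases z2 (v i) with h' | h' <;> simp_all [support₂]

variable {C : Submodule (ZMod 2) (Fin 24 → ZMod 2)} (hdim : Module.finrank (ZMod 2) C = 12) (hmin : ∀ w ∈ C, w ≠ 0 → 8 ≤ hammingNorm w)
include hdim hmin

theorem gol_coset (w : Fin 24 → ZMod 2) : (∃ u, {u | u - w ∈ C ∧ hammingNorm u ≤ 4} = {u} ∧ hammingNorm u ≤ 3) ∨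
    ({u | u - w ∈ C ∧ hammingNorm u ≤ 4}.ncard = 6 ∧ ∀ u ∈ {u | u - w ∈ C ∧ hammingNorm u ≤ 4}, hammingNorm u = 4 ∧
      ∀ u' ∈ {u | u - w ∈ C ∧ hammingNorm u ≤ 4}, u ≠ u' → Disjoint (support₂ u) (support₂ u')) := by
  classical
  have : Fintype ((Fin 24 → ZMod 2) ⧸ C) := Fintype.ofFinite _
  let U := fun q : (Fin 24 → ZMod 2) ⧸ C => univ.filter fun u => C.mkQ u = q ∧ hammingNorm u ≤ 4
  have D : ∀ q, ∀ u ∈ U q, ∀ u' ∈ U q, u ≠ u' → hammingNorm u = 4 ∧ Disjoint (support₂ u) (support₂ u') := fun q u hu u' hu' n => by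
    simp only [U, mem_filter, mem_univ, true_and] at hu hu'
    have := hmin _ ((Submodule.Quotient.eq C).1 (hu.1.trans hu'.1.symm)) (sub_ne_zero.2 n)
    have := wt_sub u u'
    exact ⟨by omega, disjoint_iff_inter_eq_empty.2 (card_eq_zero.1 (by omega))⟩
  let ω := fun n : ℕ => if n ≤ 3 then 6 else if n ≤ 4 then 1 else 0
  have A : ∀ q, (∃ u, U q = {u} ∧ hammingNorm u ≤ 3 ∧ ∑ u ∈ U q, ω (hammingNorm u) = 6) ∨
      (∀ u ∈ U q, hammingNorm u = 4) ∧ ∑ u ∈ U q, ω (hammingNorm u) = #(U q) ∧ #(U q) ≤ 6 := fun q => by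
    refine or_iff_not_imp_right.2 fun n => ?_
    obtain ⟨u, h1, h2⟩ : ∃ u ∈ U q, hammingNorm u ≠ 4 := by_contra fun c => n (by
      push Not at c
      refine ⟨c, by rw [card_eq_sum_ones]; exact sum_congr rfl fun u hu => by rw [c u hu]; rfl, ?_⟩
      have := card_le_univ ((U q).biUnion support₂)
      rw [card_biUnion fun u hu u' hu' e => (D q u hu u' hu' e).2, sum_congr rfl (f := fun u => #(support₂ u)) (g := fun _ => 4) c, sum_const, Fintype.card_fin,
        smul_eq_mul] at this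
      omega)
    have e : U q = {u} := eq_singleton_iff_unique_mem.2 ⟨h1, fun x hx => by_contra fun e => h2 (D q u h1 x hx (Ne.symm e)).1⟩
    have : hammingNorm u ≤ 3 := by have := (mem_filter.1 h1).2.2; omega
    exact ⟨u, e, this, by rw [e, sum_singleton]; exact if_pos this⟩
  have S : ∑ q, ∑ u ∈ U q, ω (hammingNorm u) = ∑ _q : (Fin 24 → ZMod 2) ⧸ C, 6 := by
    have c : Fintype.card ((Fin 24 → ZMod 2) ⧸ C) = 4096 := by
      have := C.finrank_quotient_add_finrank
      rw [Module.card_eq_pow_finrank (K := ZMod 2), show Module.finrank (ZMod 2) ((Fin 24 → ZMod 2) ⧸ C) = 12 by simp at this; omega]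
      simp
    have : ∑ u : Fin 24 → ZMod 2, ω (hammingNorm u) = 24576 := by
      rw [Fintype.sum_bijective _ sup2_bij (fun u => ω (hammingNorm u)) (fun s => ω #s) fun _ => rfl, ← powerset_univ, sum_powerset_apply_card]
      simp only [card_univ, Fintype.card_fin, sum_range_succ, ω]
      norm_num [Nat.choose]
    rw [sum_const, card_univ, c, smul_eq_mul, show 4096 * 6 = 24576 from rfl, ← this, ← sum_fiberwise univ C.mkQ]
    refine sum_congr rfl fun q _ => sum_subset (fun u h => mem_filter.2 ⟨mem_univ _, (mem_filter.1 h).2.1⟩) fun u h1 h2 => ?_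
    simp only [U, mem_filter, mem_univ, true_and, not_and, not_le] at h1 h2
    have := h2 h1
    simp only [ω]; split_ifs <;> omega
  have E := (sum_eq_sum_iff_of_le fun q _ => by rcases A q with ⟨_, _, _, h⟩ | ⟨_, h, _⟩ <;> omega).1 S (C.mkQ w) (mem_univ _)
  have e : {u | u - w ∈ C ∧ hammingNorm u ≤ 4} = ↑(U (C.mkQ w)) := by ext; simp [U, Submodule.Quotient.eq]
  rw [e]
  rcases A (C.mkQ w) with ⟨u, h1, h2, -⟩ | ⟨h1, h2, -⟩
  · exact .inl ⟨u, by rw [h1, coe_singleton], h2⟩
  · exact .inr ⟨by rw [Set.ncard_coe_finset]; omega, fun u hu => ⟨h1 u hu, fun u' hu' n => (D _ u hu u' hu' n).2⟩⟩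

variable (horth : ∀ v ∈ C, ∀ w ∈ C, ∑ i, v i * w i = 0)
include horth

theorem gol_oct (P : Finset (Fin 24)) (hP : #P = 5) : ∃ o ∈ C, hammingNorm o = 8 ∧ P ⊆ support₂ o := by
  obtain ⟨w, rfl⟩ := sup2_bij.2 P
  obtain ⟨u, h1, h2⟩ : ∃ u, u - w ∈ C ∧ hammingNorm u ≤ 4 := by
    rcases gol_coset hdim hmin w with ⟨u, h, -⟩ | ⟨h, -⟩
    exacts [⟨u, h.ge rfl⟩, Set.nonempty_of_ncard_ne_zero (h ▸ by omega)]
  change hammingNorm w = 5 at hP
  have := hmin _ h1 (sub_ne_zero.2 (by rintro rfl; omega))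
  have := even_inter (horth _ h1 _ h1)
  rw [inter_self] at this
  change 2 ∣ hammingNorm _ at this
  have := wt_sub u w
  have : support₂ u ∩ support₂ w = ∅ := card_eq_zero.1 (by omega)
  exact ⟨_, h1, by omega, fun i hi => by
    rw [sup2_sub, mem_symmDiff]; exact .inr ⟨hi, fun h => notMem_empty i (this ▸ mem_inter.2 ⟨h, hi⟩)⟩⟩

theorem gol_ind {p : (Fin 24 → ZMod 2) → Prop} (h0 : p 0) (h : ∀ c ∈ C, ∀ o ∈ C, hammingNorm o = 8 → p (c - o) → p c) : ∀ c ∈ C, p c := by
  intro c hc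
  induction e : hammingNorm c using Nat.strong_induction_on generalizing c with | _ n ih
  by_cases z : c = 0
  · exact z ▸ h0
  obtain ⟨P, h1, h2⟩ := exists_subset_card_eq (s := support₂ c) (n := 5) ((show 5 ≤ 8 by omega).trans (hmin c hc z))
  obtain ⟨o, h3, h4, h5⟩ := gol_oct hdim hmin horth P h2
  have := card_le_card (subset_inter h1 h5)
  have := wt_sub c o
  exact h c hc o h3 h4 (ih _ (by omega) _ (sub_mem hc h3) rfl)

end CfsgPm
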