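import Cfsg.Agent.H3.Sy3
import Cfsg.Agent.H1.Hall

set_option autoImplicit false

/-! Stabilizers of labelled partitions into four parts, the first two being interchangeable. -/
namespace CfsgPm
open Equiv Equiv.Perm Subgroup CfsgH2 MulAction Cfsg Finset Nat CfsgH1

variable {Ω : Type*}
def GF (f : Ω → Fin 4) : Subgroup (Perm Ω) where
  carrier := {g | (∀ x, f (g x) = f x) ∨ ∀ x, f (g x) = swap 0 1 (f x)}
  one_mem' := .inl fun _ => rfl
  mul_mem' := by rintro g h (a | a) (b | b) <;> simp [a, b]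
  inv_mem' {g} := Or.imp (fun h x => by simpa using (h (g⁻¹ x)).symm) fun h x => by rw [eq_comm, swap_apply_eq_iff, ← h]; simp

theorem GF_cj (f : Ω → Fin 4) (σ : Perm Ω) : cj σ (GF f) = GF (f ∘ σ.symm) := Subgroup.ext fun g => by
  rw [mem_cj]
  exact or_congr (σ.forall_congr fun x => by simp) (σ.forall_congr fun x => by simp)

theorem swap_GF [DecidableEq Ω] {f : Ω → Fin 4} {u v : Ω} (h : f u = f v) (x : Ω) : f (swap u v x) = f x := by
  rw [swap_apply_def]; split_ifs <;> simp [*]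

variable [Fintype Ω] [DecidableEq Ω]
abbrev fb (f : Ω → Fin 4) (i : Fin 4) : ℕ := #{x | f x = i}

theorem ex_lab {f g : Ω → Fin 4} (h : ∀ i, fb f i = fb g i) : ∃ σ : Perm Ω, ∀ x, g (σ x) = f x :=
  ⟨_, ofFiberEquiv_map fun i => Fintype.equivOfCardEq (by simpa only [Fintype.card_subtype] using h i)⟩

theorem fb_cj (f : Ω → Fin 4) (σ : Perm Ω) (i : Fin 4) : fb (f ∘ σ.symm) i = fb f i := (card_equiv σ fun x => by simp).symm

theorem fb_sum (f : Ω → Fin 4) : fb f 0 + fb f 1 + fb f 2 + fb f 3 = Fintype.card Ω := by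
  rw [← Fin.sum_univ_four (fb f)]; exact (card_eq_sum_card_fiberwise (s := univ) fun _ _ => mem_univ _).symm

theorem ex_fb {a b c d : ℕ} (h : a + b + c + d = Fintype.card Ω) : ∃ f : Ω → Fin 4, fb f 0 = a ∧ fb f 1 = b ∧ fb f 2 = c ∧ fb f 3 = d := by
  let e : Ω ≃ Σ i, Fin (![a, b, c, d] i) := Fintype.equivOfCardEq (by simp [Fin.sum_univ_four, h])
  have : ∀ i, fb (fun x => (e x).1) i = ![a, b, c, d] i := fun i => by
    rw [fb, ← Fintype.card_subtype, Fintype.card_congr ((e.subtypeEquiv fun x => Iff.rfl).trans (sigmaSubtype i)), Fintype.card_fin]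
  exact ⟨_, this 0, this 1, this 2, this 3⟩

theorem ex_swap {f : Ω → Fin 4} (h : fb f 0 = fb f 1) : ∃ σ : Perm Ω, ∀ x, f (σ x) = swap 0 1 (f x) :=
  ex_lab fun i => by simp only [fb, swap_apply_eq_iff]; fin_cases i; exacts [h.symm, h, rfl, rfl]

theorem card_GF {f : Ω → Fin 4} (h : fb f 0 = fb f 1) :
    Nat.card (GF f) = (if fb f 0 = 0 then 1 else 2) * ((fb f 0)! * (fb f 1)! * (fb f 2)! * (fb f 3)!) := by
  let K := (stabilizer (Perm Ω)ᵈᵐᵃ f).comap (⟨⟨fun g : Perm Ω => DomMulAct.mk g⁻¹, rfl⟩, fun _ _ => rfl⟩ : _ →* _)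
  have m : ∀ g, g ∈ K ↔ ∀ x, f (g x) = f x := fun g => (K.inv_mem_iff (x := g)).symm.trans funext_iff
  have c : Nat.card K = (fb f 0)! * (fb f 1)! * (fb f 2)! * (fb f 3)! := by
    have := DomMulAct.stabilizer_card f
    simp only [Fin.prod_univ_four, Fintype.card_subtype (fun a => f a = _)] at this
    rw [← this, ← Nat.card_eq_fintype_card]
    exact Nat.card_congr (subtypeEquivRight fun g => (m g).trans funext_iff.symm)
  rw [← CfsgH2.card_mul_relIndex (H := K) (K := GF f) fun g hg => .inl ((m g).1 hg), c, mul_comm]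
  congr 1
  split_ifs with k
  · refine relIndex_eq_one.2 fun g hg => (m g).2 (hg.elim id fun e x => (e x).trans (swap_apply_of_ne_of_ne ?_ ?_))
    exacts [by simpa using filter_eq_empty_iff.1 (card_eq_zero.1 k) (mem_univ x), by simpa using filter_eq_empty_iff.1 (card_eq_zero.1 (h ▸ k)) (mem_univ x)]
  obtain ⟨σ, s⟩ := ex_swap h
  obtain ⟨x, hx⟩ := card_ne_zero.1 k
  refine relIndex_eq_two_iff.2 ⟨σ, .inr s, ?_⟩
  simp only [m, xor_iff_iff_not, mem_filter_univ] at hx ⊢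
  rintro g (a | a)
  · simp only [Perm.mul_apply, a, s]; simpa using ⟨x, by simp [hx]⟩
  simp only [Perm.mul_apply, a, s]; simpa using ⟨x, by simp [hx]⟩

theorem GF_pi {f : Ω → Fin 4} (h : fb f 0 = fb f 1) {π : Set ℕ} {r : ℕ} (h2 : 2 ∈ π) (hr : ∀ p, p.Prime → p < r → p ∈ π) (s : ∀ i, fb f i < r) :
    IsPiNum π (Nat.card (GF f)) := by
  have a : ∀ i, IsPiNum π (fb f i)! := fun i p hp d => hr p hp ((hp.dvd_factorial.1 d).trans_lt (s i))
  rw [card_GF h]
  refine .mul ?_ ((((a 0).mul (a 1)).mul (a 2)).mul (a 3))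
  split_ifs
  exacts [.one, by simpa using IsPiNum.prime_pow prime_two h2 1]

theorem fac_lt {k l k' l' : ℕ} (h : l ≤ k) (e : k + l = k' + l') (t : k < k') : k ! * l ! < k' ! * l' ! := by
  induction k', t using Nat.le_induction generalizing l' with
  | base => obtain rfl : l = l' + 1 := by omega
            rw [factorial_succ, factorial_succ]; nlinarith [Nat.mul_pos (factorial_pos k) (factorial_pos l')]
  | succ k' t ih =>
    refine (ih (l' := l' + 1) (by omega)).trans ?_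
    rw [factorial_succ, factorial_succ]; nlinarith [Nat.mul_pos (factorial_pos k') (factorial_pos l'), show l' < k' by omega]

theorem room (f : Ω → Fin 4) {T : Finset (Fin 4)} (h : ∀ x, f x ∈ T) (S : Finset Ω) (c : #T < #S) : ∃ u ∈ S, ∃ v ∈ S, u ≠ v ∧ f u = f v :=
  exists_ne_map_eq_of_card_lt_of_maps_to c fun x _ => h x

theorem par_GF {f : Ω → Fin 4} {u v : Ω} (n : u ≠ v) (e : f u = f v) (σ : Perm Ω) : ∃ t ∈ GF f, σ * t ∈ alternatingGroup Ω ∧ ∀ x, x ≠ u → x ≠ v → t x = x := by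
  obtain h | h := Int.units_eq_one_or (sign σ)
  exacts [⟨1, one_mem _, by simpa, fun _ _ _ => rfl⟩, ⟨swap u v, .inl (swap_GF e), by simp [h, n], fun x => swap_apply_of_ne_of_ne⟩]

theorem GF_conj (h5 : 5 ≤ Fintype.card Ω) {f g : Ω → Fin 4} (h : ∀ i, fb f i = fb g i) : ∃ σ ∈ alternatingGroup Ω, cj σ (GF f) = GF g := by
  obtain ⟨σ, s⟩ := ex_lab h
  obtain ⟨u, -, v, -, n, e⟩ := room f (T := univ) (by simp) univ (by simpa)
  obtain ⟨t, t1, t2, -⟩ := par_GF n e σ
  exact ⟨_, t2, by rw [← cj_cj, cj_eq_of_mem t1, GF_cj]; exact congrArg _ (funext fun x => by simp [← s])⟩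

theorem fb_split (f : Ω → Fin 4) (B : Finset Ω) (h : ∀ x y, f x = f y → x ∈ B → y ∈ B) : ∃ e : Fin 4 → ℕ, #B = e 0 + e 1 + e 2 + e 3 ∧
    ∀ i, e i = 0 ∧ (∀ x, f x = i → x ∉ B) ∨ e i = fb f i ∧ ∃ x ∈ B, f x = i := by
  refine ⟨fun i => #{x ∈ B | f x = i}, (card_eq_sum_card_fiberwise (t := univ) fun _ _ => mem_univ _).trans (Fin.sum_univ_four _), fun i => ?_⟩
  by_cases k : ∃ x ∈ B, f x = i
  · obtain ⟨x, a, rfl⟩ := k
    exact .inr ⟨congrArg _ (Finset.ext fun y => by simpa using fun e => h x y e.symm a), x, a, rfl⟩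
  exact .inl ⟨by simpa using k, fun x e a => k ⟨x, a, e⟩⟩

end CfsgPm
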