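import Cfsg.Agent.H3.Nil1
import Cfsg.Agent.H3.Ab1
import Cfsg.Agent.H2.PResidual
import Cfsg.Agent.H1.Fitting

set_option autoImplicit false

/-! Orders of nilpotent permutation groups. -/
namespace CfsgPm
open Subgroup Equiv MulAction Finset Group

theorem core_NR {G : Type*} [Group G] [Finite G] [IsNilpotent G] (H : Subgroup G) : NR H.normalCore.index H.index := fun p k hp e => by
  haveI := Fact.mk hp
  obtain ⟨P⟩ : Nonempty (Sylow p G) := inferInstance
  have c : ∀ {n} j, n ∣ P.1.index → (p ^ j).Coprime n := fun j h => (hp.coprime_iff_not_dvd.2 fun d => P.not_dvd_index (d.trans h)).pow_left j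
  obtain ⟨a, ha⟩ := P.2.index (H.subgroupOf P)
  refine ⟨a, (c a (relIndex_dvd_index_of_normal P.1 H)).dvd_of_dvd_mul_left ?_, ?_⟩
  · rw [← inf_relIndex_right, relIndex_mul_index inf_le_right, ← relIndex_mul_index (inf_le_left : P.1 ⊓ H ≤ P), inf_relIndex_left, ← ha]
    exact dvd_mul_right _ _
  rw [← relIndex_mul_index (le_sup_right : H.normalCore ≤ P.1 ⊔ H.normalCore), relIndex_sup_right] at e
  refine ((c k (index_dvd_of_le le_sup_left)).dvd_of_dvd_mul_right e).trans ((index_dvd_of_le (H := (H.subgroupOf P).normalCore) (K := H.normalCore.subgroupOf P) fun x hx g => ?_).trans ?_)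
  · obtain ⟨a, b, -, -, ⟨j, hj⟩, hb, rfl⟩ := CfsgH2.exists_p_part (p := p) g
    obtain ⟨Q, hQ⟩ := (IsPGroup.of_card ((Nat.card_zpowers a).trans hj)).exists_le_sylow
    haveI := Sylow.unique_of_normal P inferInstance
    obtain ⟨i, hi⟩ := IsPGroup.iff_orderOf.1 P.2 x
    have := CfsgH1.commute_of_coprime_orderOf (x := b) (y := x.1) (by rw [orderOf_coe, hi]; exact hb.pow_right i)
    have t := hx ⟨a, Subsingleton.elim Q P ▸ hQ (mem_zpowers a)⟩
    rwa [show a * b * (P.1.subtype x) * (a * b)⁻¹ = a * x * a⁻¹ by rw [mul_assoc a, coe_subtype, this.eq]; group]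
  rw [normalCore_eq_ker, index_ker, ← ha, index_eq_card, ← Nat.card_perm]
  exact card_subgroup_dvd_card _

theorem prod_le_F2 {Ω : Type*} (F : ℕ → ℕ) (h0 : F 0 = 1) (g s : Ω → ℕ) (h : ∀ w n, g w * F n ≤ F (n + s w)) (T : Finset Ω) :
    ∏ w ∈ T, g w ≤ F (∑ w ∈ T, s w) := by
  classical
  induction T using Finset.induction_on with
  | empty => simp [h0]
  | insert w T hw ih => rw [prod_insert hw, sum_insert hw, add_comm]; exact (Nat.mul_le_mul_left _ ih).trans (h _ _)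

variable {α : Type*}

theorem nil_le_W [Finite α] (A : Subgroup (Perm α)) [IsNilpotent A] (h : ∀ x, ∃ g ∈ A, Odd (orderOf g) ∧ g x ≠ x) : Nat.card A ≤ nilW (Nat.card α) := by
  haveI := Fintype.ofFinite (orbitRel.Quotient A α)
  have e : ∀ w, osz A w = (stabilizer A w.out).index := fun w => by
    rw [index_stabilizer]
    exact Nat.card_congr (subtypeEquivRight fun x => (Eq.congr_right w.out_eq.symm).trans Quotient.eq)
  have b : ⨅ w : orbitRel.Quotient A α, (stabilizer A w.out).normalCore = ⊥ := eq_bot_iff.2 fun a ha => Subtype.ext (Perm.ext fun x => by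
    obtain ⟨g, hg, e⟩ := oq_eq.1 (Quotient.out_eq (oq A x)).symm
    have := congrArg g (show (g⁻¹ * a * g⁻¹⁻¹) _ = _ from mem_iInf.1 ha (oq A x) ⟨g, hg⟩⁻¹)
    simpa [e] using this)
  rw [← index_bot, ← b, ← osz_sum A]
  refine (index_iInf_le _).trans (prod_le_F2 _ rfl _ _ (fun w => (e w ▸ core_NR _ : NR _ (osz A w)).step index_ne_zero_of_finite (Nat.one_le_iff_ne_zero.1 (osz_pos A w)) fun a q => ?_) _)
  obtain ⟨g, hg, o, n⟩ := h w.out
  refine n (normalCore_le (stabilizer A w.out) (CfsgH2.mem_of_pow_mem_of_coprime (x := (⟨g, hg⟩ : A)) ?_ (pow_index_mem _ _)))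
  refine Nat.coprime_of_dvd' fun p hp c b => ?_
  obtain rfl := (Nat.prime_dvd_prime_iff_eq hp Nat.prime_two).1 (hp.dvd_of_dvd_pow (q ▸ e w ▸ (core_NR _).prime hp b))
  exact absurd (c.trans (orderOf_coe _).symm.dvd) o.not_two_dvd_nat

/-- restriction to an invariant subset -/
def resH (N : Subgroup (Perm α)) (p : α → Prop) (hp : ∀ a ∈ N, ∀ x, p (a x) ↔ p x) : N →* Perm {x // p x} where
  toFun a := a.1.subtypePerm (hp a a.2)
  map_one' := rfl
  map_mul' _ _ := rfl

theorem card_syl [Finite α] (P : Sylow 2 (Perm α)) : Nat.card P = s2 (Nat.card α) := by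
  rw [P.card_eq_multiplicity, Nat.card_perm, Nat.factorization_def _ Nat.prime_two, s2]

variable [Fintype α] [DecidableEq α]

theorem card_sylA [Nontrivial α] (P : Sylow 2 (alternatingGroup α)) : 2 * Nat.card P = s2 (Nat.card α) := by
  rw [P.card_eq_multiplicity, s2, ← Nat.card_perm, ← two_mul_nat_card_alternatingGroup, padicValNat.mul two_ne_zero Nat.card_pos.ne',
    Nat.factorization_def _ Nat.prime_two, padicValNat_self, pow_add, pow_one]

theorem nil_main (N : Subgroup (Perm α)) [IsNilpotent N] : ∃ f m, f + m = Nat.card α ∧ ∃ M : Subgroup (Perm α), IsNilpotent M ∧ N ≤ M ∧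
    Nat.card M ≤ s2 f * nilW m ∧ (2 ≤ f → ¬ M ≤ alternatingGroup α) ∧ ∀ g ∈ N, Odd (orderOf g) → #g.support ≤ m := by
  classical
  let p := fun x => ∀ g ∈ N, Odd (orderOf g) → g x = x
  have h1 : ∀ a ∈ N, ∀ x, p x → p (a x) := fun a ha x h g hg o => by
    have := h (a⁻¹ * g * a⁻¹⁻¹) (N.mul_mem (N.mul_mem (N.inv_mem ha) hg) (by simpa)) (by rwa [← MulAut.conj_apply, MulEquiv.orderOf_eq])
    simpa [symm_apply_eq] using this
  have hp : ∀ a ∈ N, ∀ x, p (a x) ↔ p x := fun a ha x => ⟨fun h => by simpa using h1 _ (N.inv_mem ha) _ h, h1 a ha x⟩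
  have hn : ∀ a ∈ N, ∀ x, ¬ p (a x) ↔ ¬ p x := fun a ha x => (hp a ha x).not
  obtain ⟨P, hP⟩ := IsPGroup.exists_le_sylow (p := 2) (P := (resH N p hp).range) (by
    rintro ⟨_, a, rfl⟩
    obtain ⟨k, hk⟩ := CfsgH2.exists_coprime_orderOf_pow (p := 2) a.1
    refine ⟨k, Subtype.ext ((map_pow _ _ _).symm.trans (Perm.ext fun x => Subtype.ext (x.2 _ (a ^ 2 ^ k).2 (Nat.coprime_two_right.1 hk))))⟩)
  haveI := Group.nilpotent_of_surjective _ (resH N (¬ p ·) hn).rangeRestrict_surjective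
  haveI := P.2.isNilpotent
  refine ⟨Nat.card {x // p x}, Nat.card {x // ¬ p x}, by rw [← Nat.card_sum]; exact Nat.card_congr (sumCompl p),
    (P.1.prod (resH N (¬ p ·) hn).range).map (Perm.subtypeCongrHom p), CfsgH1.isNilpotent_map (Group.nilpotent_of_mulEquiv (P.1.prodEquiv _).symm) _,
    fun a ha => ⟨(resH N p hp ⟨a, ha⟩, resH N (¬ p ·) hn ⟨a, ha⟩), ⟨hP ⟨_, rfl⟩, ⟨_, rfl⟩⟩, Perm.ext fun x => ?_⟩, ?_, fun l q => ?_, fun g hg o => ?_⟩
  · by_cases c : p x <;> simp [c] <;> rfl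
  · rw [card_map_of_injective (Perm.subtypeCongrHom_injective p), Nat.card_congr (P.1.prodEquiv _).toEquiv, Nat.card_prod, card_syl]
    refine Nat.mul_le_mul_left _ (nil_le_W _ fun x => ?_)
    obtain ⟨g, hg, o, n⟩ : ∃ g ∈ N, Odd (orderOf g) ∧ g x ≠ x := by simpa [p] using x.2
    exact ⟨_, ⟨⟨g, hg⟩, rfl⟩, o.of_dvd_nat ((orderOf_map_dvd _ _).trans (orderOf_coe _).symm.dvd), Subtype.ext_iff.ne.2 n⟩
  · haveI := Finite.one_lt_card_iff_nontrivial.1 l
    have : P.1 ≤ alternatingGroup _ := fun a ha => by simpa using q ⟨(a, 1), ⟨ha, one_mem _⟩, rfl⟩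
    have c := card_sylA (P.subtype this)
    rw [← card_syl P, Sylow.coe_subtype, Nat.card_congr (subgroupOfEquivOfLe this).toEquiv] at c
    have := @Nat.card_pos P.1 _ _
    omega
  rw [Nat.subtype_card (univ.filter (¬ p ·)) (by simp)]
  exact card_le_card fun x m => by simpa using fun h : p x => Perm.mem_support.1 m (h g hg o)

theorem nil_le (N : Subgroup (Perm α)) [IsNilpotent N] : Nat.card N ≤ nilH (Nat.card α) := by
  obtain ⟨f, m, e, M, -, l, c, -⟩ := nil_main N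
  exact (card_le_of_le l).trans (c.trans (e ▸ (nilN1 f m).1))

theorem nil_alt (N : Subgroup (Perm α)) [IsNilpotent N] (hN : N ≤ alternatingGroup α) (h : Nat.card α ∉ [0, 1, 3, 5, 6, 9]) :
    2 * Nat.card N < nilH (Nat.card α) ∨ ∃ M : Subgroup (Perm α), IsNilpotent M ∧ N ≤ M ⊓ alternatingGroup α ∧ ¬ M ≤ alternatingGroup α ∧
      2 * Nat.card (M ⊓ alternatingGroup α : Subgroup _) ≤ Nat.card M := by
  obtain ⟨f, m, e, M, n, l, c, o, -⟩ := nil_main N
  by_cases q : f < 2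
  · exact .inl ((Nat.mul_le_mul_left _ ((card_le_of_le l).trans c)).trans_lt (e ▸ nilN2 f m q (e ▸ h)))
  refine .inr ⟨M, n, le_inf l hN, o (not_lt.1 q), ?_⟩
  rw [← CfsgH2.card_mul_relIndex (inf_le_left : M ⊓ alternatingGroup α ≤ M), mul_comm]
  exact Nat.mul_le_mul_left _ ((Nat.two_le_iff _).2 ⟨CfsgH2.relIndex_ne_zero _ _, fun r => o (not_lt.1 q) ((relIndex_eq_one.1 r).trans inf_le_right)⟩)

open CfsgH2 in
theorem nil_eq (N : Subgroup (Perm α)) [IsNilpotent N] (h : Nat.card α % 4 = 3) (e : nilH (Nat.card α) ≤ Nat.card N) :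
    ∃ c : Perm α, c.IsThreeCycle ∧ ∃ Q, IsSylowIn 2 Q (centralizer {c}) ∧ N = Q ⊔ zpowers c := by
  haveI := Fact.mk Nat.prime_three
  obtain ⟨f, m, s, M, -, l, b, -, o⟩ := nil_main N
  obtain rfl : m = 3 := by_contra fun q => ((s ▸ (nilN1 f m).2 (s ▸ h) q).trans_le e).not_ge ((card_le_of_le l).trans b)
  replace e : Nat.card N = 3 * 2 ^ padicValNat 2 (Nat.card α - 3).factorial := (le_antisymm (nil_le N) e).trans (if_pos h)
  obtain ⟨c, hc⟩ := exists_prime_orderOf_dvd_card' (G := N) 3 (e ▸ dvd_mul_right _ _)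
  have c3 := (orderOf_coe c).trans hc
  have t : c.1.IsThreeCycle := by
    obtain ⟨k, hk⟩ := Perm.cycleType_prime_order (c3 ▸ Nat.prime_three : (orderOf c.1).Prime)
    have := o c c.2 (c3 ▸ by decide)
    rw [← Perm.sum_cycleType, hk, c3, Multiset.sum_replicate, smul_eq_mul] at this
    rw [Perm.IsThreeCycle, hk, c3, show k = 0 by omega]; rfl
  have f2 : ∀ k, k ≠ 0 → (k * 3).factorization 2 = padicValNat 2 k := fun k hk => by
    rw [Nat.factorization_def _ Nat.prime_two, padicValNat.mul hk three_ne_zero, padicValNat.eq_zero_of_not_dvd (n := 3) (by decide), add_zero]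
  obtain ⟨Q, hQ⟩ := IsSylowIn.exists_sylowIn 2 N
  obtain ⟨S, hS⟩ := IsSylowIn.exists_sylowIn 2 (centralizer {c.1})
  have q := hQ.card_eq
  rw [e, mul_comm, f2 _ (by positivity), padicValNat.prime_pow] at q
  refine ⟨c, t, Q, hS.of_card_le hQ.pgroup (fun x hx => mem_centralizer_singleton_iff.2 ?_) ?_, (eq_of_le_of_card_le (sup_le hQ.le (zpowers_le.2 c.2)) ?_).symm⟩
  · obtain ⟨k, hk⟩ := exists_orderOf_eq_pow hQ.pgroup hx
    exact congrArg Subtype.val (CfsgH1.commute_of_coprime_orderOf (x := ⟨x, hQ.le hx⟩) (y := c) (by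
      rw [← orderOf_coe, hk, hc]; exact Nat.Coprime.pow_left _ (by decide))).eq
  · rw [hS.card_eq, q, Perm.nat_card_centralizer, t.cycleType]
    simp [f2 _ (Nat.factorial_ne_zero _)]
  rw [e]
  exact Nat.le_of_dvd Nat.card_pos ((Nat.Coprime.pow_right _ (by decide)).mul_dvd_of_dvd_of_dvd
    (c3 ▸ Nat.card_zpowers c.1 ▸ card_dvd_of_le le_sup_right) (q ▸ card_dvd_of_le le_sup_left))

open CfsgH2 in
theorem nil_conj (N K : Subgroup (Perm α)) [IsNilpotent N] [IsNilpotent K] (h : Nat.card α % 4 = 3) (e : nilH (Nat.card α) ≤ Nat.card N)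
    (e' : nilH (Nat.card α) ≤ Nat.card K) : ∃ g, K = cj g N := by
  obtain ⟨c, t, Q, hQ, rfl⟩ := nil_eq N h e
  obtain ⟨d, u, R, hR, rfl⟩ := nil_eq K h e'
  obtain ⟨σ, rfl⟩ := isConj_iff.1 (Perm.isConj_iff_cycleType_eq.2 (t.cycleType.trans u.cycleType.symm))
  obtain ⟨g, hg, rfl⟩ := (cj_centralizer_singleton σ c ▸ hQ.cj σ).exists_cj_eq hR
  refine ⟨g * σ, ?_⟩
  rw [← cj_cj, cj_sup, cj_sup, cj_zpowers, cj_zpowers, mem_centralizer_singleton_iff.1 hg, mul_inv_cancel_right]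

omit [Fintype α] [DecidableEq α] in
theorem nil_ex {k : ℕ} {G : Type*} [Group G] [Finite G] (hG : IsPGroup 2 G) (f : G →* Perm (Fin k)) (hf : Function.Injective f) :
    ∃ M : Subgroup (Perm (Fin (k + 3))), IsNilpotent M ∧ Nonempty (M ≃* G × Multiplicative (ZMod 3)) ∧
      ((∀ g, Perm.sign (f g) = 1) → M ≤ alternatingGroup _) := by
  haveI := Fact.mk Nat.prime_three
  haveI := hG.isNilpotent
  let e : Multiplicative (ZMod 3) ≃* alternatingGroup (Fin 3) := mulEquivOfPrimeCardEq (p := 3) (by simp) (by rw [nat_card_alternatingGroup, Nat.card_fin]; rfl)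
  let φ := finSumFinEquiv.permCongrHom.toMonoidHom.comp ((Perm.sumCongrHom _ _).comp (f.prodMap ((alternatingGroup _).subtype.comp e.toMonoidHom)))
  have i : Function.Injective φ := finSumFinEquiv.permCongrHom.injective.comp (Perm.sumCongrHom_injective.comp (hf.prodMap (Subtype.val_injective.comp e.injective)))
  refine ⟨φ.range, Group.nilpotent_of_surjective _ φ.rangeRestrict_surjective, ⟨(MonoidHom.ofInjective i).symm⟩, fun s => ?_⟩
  rintro _ ⟨⟨x, y⟩, rfl⟩
  exact (Perm.sign_permCongr _ _).trans ((Perm.sign_sumCongr (f x) (e y).1).trans (by rw [s, (e y).2, mul_one]))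

end CfsgPm
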