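import Cfsg.Agent.H3.Hl1
import Cfsg.Agent.H3.Nil2
import Cfsg.Agent.H3.Sn2

set_option autoImplicit false

/-! Cycles in Hall subgroups of alternating groups. -/
namespace CfsgPm
open Equiv Equiv.Perm Subgroup CfsgH2 MulAction Cfsg Finset CfsgH1

variable {Ω : Type*} [Fintype Ω] [DecidableEq Ω]

theorem ex_cyc {U : Finset Ω} {k : ℕ} (h2 : 2 ≤ k) (h : k ≤ #U) : ∃ c : Perm Ω, c.IsCycle ∧ #c.support = k ∧ c.support ⊆ U := by
  obtain ⟨T, hT, rfl⟩ := exists_subset_card_eq h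
  have e : T.toList.formPerm.support = T := by
    rw [List.support_formPerm_of_nodup _ T.nodup_toList fun x e => by simp [← T.length_toList, e] at h2, T.toList_toFinset]
  exact ⟨_, List.isCycle_formPerm T.nodup_toList (by simpa), by rw [e], e.le.trans hT⟩

theorem syl_cyc {p a : ℕ} [hp : Fact p.Prime] {P : Subgroup (Perm Ω)} (hP : IsSylowIn p P ⊤) {U : Finset Ω} (hU : ∀ g ∈ P, ∀ x ∈ U, g x ∈ U) (ha : a ≠ 0) (h : p ^ a ≤ #U) :
    ∃ c ∈ P, c.IsCycle ∧ #c.support = p ^ a ∧ c.support ⊆ U := by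
  have m : ∀ {g}, g ∈ (ofSubtype : Perm U →* Perm Ω).range ↔ g.support ⊆ U := Perm.mem_range_ofSubtype_iff.trans (by simp)
  have hn : P ≤ normalizer ((ofSubtype : Perm U →* Perm Ω).range : Set _) := le_normalizer_iff.2 fun g hg k hk => m.2 fun z hz => by
    simpa using hU g hg _ (m.1 hk (show g⁻¹ z ∈ _ by simpa using hz))
  have S := (hP.mono le_sup_left le_top).inf_of_normalizer' le_sup_right (sup_le hn le_normalizer)
  obtain ⟨e, t, s, u⟩ := ex_cyc (Nat.one_lt_pow ha hp.1.one_lt) h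
  obtain ⟨k, -, k2⟩ := S.exists_cj_le (Q := zpowers e) (isPGroup_zpowers_of_orderOf (t.orderOf.trans s)) (zpowers_le.2 (m.2 u))
  have := k2 (conj_mem_cj k (mem_zpowers _))
  exact ⟨_, this.1, t.conj, card_support_conj.trans s, m.1 this.2⟩

theorem cov {q : ℕ} [hq : Fact q.Prime] {Q : Subgroup (Perm Ω)} (hQ : IsSylowIn q Q ⊤) : ∃ U : Finset Ω, #U < q ∧ (∀ x ∉ U, ∃ c ∈ Q, c.IsCycle ∧ #c.support = q ∧ c x ≠ x) ∧
    ∀ S : Finset Ω, (∀ c ∈ Q, c.IsCycle → #c.support = q → ∀ x ∈ S, c x ∈ S) → q ∣ #(S \ U) := by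
  classical
  let U : Finset Ω := {x | ∀ c ∈ Q, c.IsCycle → #c.support = q → c x = x}
  have hU : ∀ g ∈ Q, ∀ x ∈ U, g x ∈ U := fun g hg x hx => (mem_filter_univ _).2 fun c hc t s => by
    simpa [symm_apply_eq] using (mem_filter_univ _).1 hx _ (mul_mem (mul_mem (inv_mem hg) hc) (inv_mem (inv_mem hg))) t.conj (card_support_conj.trans s)
  refine ⟨U, not_le.1 fun h => ?_, by simp [U], fun S hS => ?_⟩
  · obtain ⟨c, a, b, d, e⟩ := syl_cyc hQ hU one_ne_zero ((pow_one q).trans_le h)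
    obtain ⟨x, hx, -⟩ := id b
    exact hx ((mem_filter_univ _).1 (e (mem_support.2 hx)) c a b (d.trans (pow_one q)))
  let K := closure {c | c ∈ Q ∧ c.IsCycle ∧ #c.support = q}
  have l : K ≤ Q := (closure_le _).2 fun _ h => h.1
  have i : K ≤ RS fun x _ => x ∈ S := (closure_le _).2 fun c h x _ => ⟨fun e => by simpa using perm_symm_on_of_perm_on_finset (hS c h.1 h.2.1 h.2.2) e, hS c h.1 h.2.1 h.2.2 x⟩
  rw [← Set.ncard_coe_finset]
  refine dvd_ncard_of_orbits (G := K) _ (fun g x hx => ?_) fun x hx => ?_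
  · simp only [coe_sdiff, Set.mem_diff, mem_coe] at hx ⊢
    exact ⟨(i g.2 x x).2 hx.1, fun e => hx.2 (by simpa [Subgroup.smul_def] using hU _ (inv_mem (l g.2)) _ e)⟩
  obtain ⟨_ | k, hk⟩ := (hQ.2.to_le l).card_orbit x
  · obtain ⟨c, a, b, d, e⟩ : ∃ c ∈ Q, c.IsCycle ∧ #c.support = q ∧ c x ≠ x := by simpa [U] using (mem_sdiff.1 hx).2
    exact (e ((Set.ncard_le_one_iff_subsingleton.1 hk.le) ⟨⟨c, subset_closure ⟨a, b, d⟩⟩, rfl⟩ (mem_orbit_self x))).elim
  exact (dvd_pow_self q k.succ_ne_zero).trans (hk ▸ dvd_rfl)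

theorem fixpow {g : Perm Ω} {k : ℕ} (h : k.Coprime (orderOf g)) {x : Ω} (e : (g ^ k) x = x) : g x = x := by
  obtain ⟨m, hm⟩ := exists_pow_eq_self_of_coprime h
  exact hm ▸ pow_apply_eq_self_of_apply_eq_self e m

theorem alt_orb (H : Subgroup (Perm Ω)) {c : Perm Ω} (hc : c ∈ H) (t : c.IsThreeCycle) {x : Ω} (hx : c x ≠ x) {D : Finset Ω}
    (hD : ∀ y, y ∈ D ↔ oq (closure {g | g ∈ H ∧ g.IsThreeCycle}) y = oq _ x) {g : Perm Ω} (hg : g ∈ alternatingGroup Ω) (s : g.support ⊆ D) : g ∈ H := by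
  set N := closure {g | g ∈ H ∧ IsThreeCycle g}
  let M := closure {g : Perm D | ofSubtype g ∈ H ∧ g.IsThreeCycle}
  have p : ∀ a ∈ N, ∀ y, a y ∈ D ↔ y ∈ D := fun a ha y => by rw [hD, hD, oq_ap ha]
  have r : ∀ c (h : c ∈ H ∧ c.IsThreeCycle), ∀ y ∈ D, c y ≠ y → ofSubtype (resH N _ p ⟨c, subset_closure h⟩) = c := fun c h y a b => ofSubtype_subtypePerm (p c (subset_closure h)) fun z e => by
    obtain ⟨i, rfl⟩ := h.2.isCycle.exists_zpow_eq b e
    exact (p _ (N.zpow_mem (subset_closure (by exact h)) i) y).2 a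
  have m : ∀ c (h : c ∈ H ∧ c.IsThreeCycle), ∀ y ∈ D, c y ≠ y → resH N _ p ⟨c, subset_closure h⟩ ∈ {g : Perm D | ofSubtype g ∈ H ∧ g.IsThreeCycle} := fun c h y a b =>
    ⟨(r c h y a b).symm ▸ h.1, cycleType_ofSubtype.symm.trans ((r c h y a b).symm ▸ h.2)⟩
  have a : ∀ g (h : g ∈ N), resH N _ p ⟨g, h⟩ ∈ M := fun g h => by
    induction h using closure_induction with
    | mem c h =>
      by_cases k : ∀ y ∈ D, c y = y
      · rw [show resH N _ p ⟨c, subset_closure h⟩ = 1 from Perm.ext fun y => Subtype.ext (k y y.2)]; exact one_mem M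
      push Not at k
      exact let ⟨y, a, b⟩ := k; subset_closure (m c h y a b)
    | one => exact one_mem M
    | mul g h _ _ a b => exact mul_mem a b
    | inv g _ a => exact inv_mem a
  haveI : IsPretransitive M D := ⟨fun y z => let ⟨g, h, e⟩ := oq_eq.1 (((hD _).1 z.2).trans ((hD _).1 y.2).symm); ⟨⟨_, a g h⟩, Subtype.ext e⟩⟩
  have k := m c ⟨hc, t⟩ x ((hD x).2 rfl) hx
  obtain ⟨u, rfl⟩ := (Perm.mem_range_ofSubtype_iff (p := (· ∈ D))).2 s
  exact (closure_le (H.comap ofSubtype)).2 (fun _ h => h.1) (alt_le_of_gen (N := M) (closure_mono fun g h => ⟨subset_closure h, h.2⟩) (subset_closure k) k.2 (by simpa using hg))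

theorem cyc_blk {ι : Type*} [DecidableEq ι] {f : Ω → ι} {c : Perm Ω} (t : c.IsCycle) (h : c ∈ RS fun x y => f x = f y) :
    (∀ x ∈ c.support, ∀ y ∈ c.support, f x = f y) ∨ ∀ x ∈ c.support, (∀ y, f y = f x → y ∈ c.support) ∧ #{y | f y = f x} ∣ #c.support ∧ #{y | f y = f x} < #c.support := by
  refine or_iff_not_imp_left.2 fun k => ?_
  have a : ∀ x ∈ c.support, ∀ y, f y = f x → y ∈ c.support := fun x hx y e => by_contra fun n => k fun u hu v hv => by
    have : ∀ u ∈ c.support, f u = f y := fun u hu => by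
      obtain ⟨i, rfl⟩ := t.exists_zpow_eq (mem_support.1 hx) (mem_support.1 hu)
      rw [← zpow_apply_eq_self_of_apply_eq_self (notMem_support.1 n) i]
      exact (zpow_mem h i x y).2 e.symm
    rw [this u hu, this v hv]
  have b : ∀ x ∈ c.support, ∀ y ∈ c.support, #{z | f z = f y} = #{z | f z = f x} := fun x hx y hy => by
    obtain ⟨i, rfl⟩ := t.exists_zpow_eq (mem_support.1 hx) (mem_support.1 hy)
    exact (card_equiv (c ^ i) fun z => by simpa using (zpow_mem h i z x).symm).symm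
  refine fun x hx => ⟨a x hx, ?_, card_lt_card ⟨fun y hy => a x hx y (by simpa using hy), fun s => k fun u hu v hv => ?_⟩⟩
  · rw [card_eq_sum_card_image f c.support]
    refine dvd_sum fun i hi => ?_
    obtain ⟨y, hy, rfl⟩ := mem_image.1 hi
    rw [← b x hx y hy]
    exact dvd_of_eq (congrArg _ (Finset.ext fun z => by simpa using a y hy z))
  exact ((mem_filter_univ _).1 (s hu)).trans ((mem_filter_univ _).1 (s hv)).symm

end CfsgPm
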