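import Cfsg.Agent.H3.Hl2

set_option autoImplicit false

/-! A Hall subgroup of an alternating group for at least two primes has order divisible by six. -/
namespace CfsgPm
open Equiv Equiv.Perm Subgroup CfsgH2 MulAction Cfsg Finset CfsgH1

variable {Ω : Type*} [Fintype Ω] [DecidableEq Ω]

theorem cyc_sub {c : Perm Ω} (t : c.IsCycle) (h : (#c.support).Prime) {S : Finset Ω} {i : ℕ} {z x : Ω} (n : (c ^ i) z ≠ z) (e : S.map (c ^ i).toEmbedding = S)
    (hx : x ∈ S) (a : c x ≠ x) : c.support ⊆ S := fun y hy => by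
  have : c ∈ RS fun x _ => x ∈ S := zpowers_le.2 (show c ^ i ∈ RS _ from fun x _ => by nth_rw 1 [← e]; simp) (mem_zpowers_pow_iff.2 (by
    rw [t.orderOf, Nat.gcd_comm]; exact h.coprime_iff_not_dvd.2 fun d => n (by rw [orderOf_dvd_iff_pow_eq_one.1 (t.orderOf ▸ d)]; rfl)))
  obtain ⟨j, rfl⟩ := t.exists_pow_eq a (mem_support.1 hy)
  exact (pow_mem this j x x).2 hx

theorem even_of {H : Subgroup (Perm Ω)} {c d : Perm Ω} (hc : c ∈ H) (hd : d ∈ H) (s : c.IsCycle) (t : d.IsCycle) (hq : (#c.support).Prime) (hp : (#d.support).Prime)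
    (l : #d.support < #c.support) {x : Ω} (a : c x ≠ x) (b : d x ≠ x) : 2 ∣ Nat.card H := by
  obtain o | o := hp.eq_two_or_odd'
  · exact o ▸ t.orderOf ▸ orderOf_dvd_natCard H hd
  obtain ⟨e, ⟨e1, e2, e3, ⟨x, x1, x2⟩, n⟩, m⟩ := Set.exists_min_image {e | e ∈ H ∧ e.IsCycle ∧ #e.support = #d.support ∧ (∃ x, d x ≠ x ∧ e x ≠ x) ∧ e.support ≠ d.support}
    (fun e => #(d.support ∪ e.support)) (Set.toFinite _) (by
      by_contra! k
      have : ∀ i, ∀ z ∈ d.support, (c ^ i) z ∈ d.support → d.support.map (c ^ i).toEmbedding = d.support := fun i z u v => by_contra fun n =>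
        k.subset ⟨mul_mem (mul_mem (pow_mem hc i) hd) (inv_mem (pow_mem hc i)), t.conj, card_support_conj, ⟨_, mem_support.1 v, by simpa using u⟩, by rwa [support_conj]⟩
      refine (card_le_card ?_).not_gt l
      by_cases r : c (d x) = d x
      · exact cyc_sub s hq (i := 1) a (this 1 (d x) (by simpa) (by simpa [r])) (mem_support.2 b) a
      obtain ⟨i, hi⟩ := s.exists_pow_eq a r
      exact cyc_sub s hq (hi ▸ b) (this i x (by simpa) (by simpa [hi])) (mem_support.2 b) a)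
  obtain ⟨y, y1, y2⟩ := not_subset.1 fun k => n (eq_of_subset_of_card_le k e3.ge)
  obtain ⟨w, w1, w2⟩ := not_subset.1 fun k => n (eq_of_subset_of_card_le k e3.le).symm
  have k : d.support ∪ e.support = insert y d.support := subset_antisymm (union_subset (subset_insert _ _) fun z hz => mem_insert.2 (or_iff_not_imp_left.2 fun r => by
    obtain ⟨i, rfl⟩ := e2.exists_pow_eq (mem_support.1 hz) (mem_support.1 y1)
    have := eq_of_subset_of_card_le (union_subset subset_union_left fun v hv => ?_) (m (e ^ i * d * (e ^ i)⁻¹) ⟨mul_mem (mul_mem (pow_mem e1 i) hd) (inv_mem (pow_mem e1 i)), t.conj, card_support_conj,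
      ⟨w, mem_support.1 w1, by nth_rw 1 2 [← pow_apply_eq_self_of_apply_eq_self (notMem_support.1 w2) i]; simpa using w1⟩,
      fun k => y2 (cyc_sub e2 (e3 ▸ hp) (Ne.symm r) (support_conj.symm.trans k) (mem_support.2 x1) x2 y1)⟩)
    · simpa [y2] using this.ge (mem_union_right _ y1)
    obtain ⟨u, hu, rfl⟩ := Finset.mem_map.1 (support_conj.le hv)
    by_cases j : e u = u
    · simpa [pow_apply_eq_self_of_apply_eq_self j] using .inl (mem_support.1 hu)
    exact mem_union_right _ (by simpa using j))) (insert_subset (mem_union_right _ y1) subset_union_left)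
  have e : orbit (zpowers d ⊔ zpowers e : Subgroup _) x = ↑(d.support ∪ e.support) := Set.Subset.antisymm (fun _ ⟨g, r⟩ => r ▸ by
    have : zpowers d ⊔ zpowers e ≤ RS fun y _ => y ∈ d.support ∪ e.support := sup_le (zpowers_le.2 fun y _ => by
      by_cases r : d y = y <;> simp [r]) (zpowers_le.2 fun y _ => by by_cases r : e y = y <;> simp [r])
    exact (this g.2 x x).2 (by simp [x1])) fun y hy => (mem_union.1 hy).elim
    (fun r => let ⟨i, hi⟩ := t.sameCycle x1 (mem_support.1 r); ⟨⟨_, mem_sup_left (zpow_mem_zpowers d i)⟩, hi⟩)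
    fun r => let ⟨i, hi⟩ := e2.sameCycle x2 (mem_support.1 r); ⟨⟨_, mem_sup_right (zpow_mem_zpowers e i)⟩, hi⟩
  refine .trans ?_ ((relIndex_dvd_card (stabilizer _ x) _).trans (card_dvd_of_le (sup_le (zpowers_le.2 hd) (zpowers_le.2 e1))))
  rw [← ncard_orbit_sub, e, k, Set.ncard_coe_finset, card_insert_of_notMem y2]
  exact o.add_one.two_dvd

theorem three_of (h6 : 6 ≤ Fintype.card Ω) (P : Sylow 2 (Perm Ω)) {H : Subgroup (Perm Ω)} (hP : P.1 ⊓ alternatingGroup Ω ≤ H) {c : Perm Ω} (hc : c ∈ H) (s : c.IsCycle)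
    (o : Odd (orderOf c)) : 3 ∣ Nat.card H := by
  have cov : ∀ x y, x ≠ y → (∃ t ∈ Tr P.1, t x ≠ x) ∨ ∃ t ∈ Tr P.1, t y ≠ y := fun x y n => by
    by_contra! k
    exact n (unc P k.1 k.2)
  by_cases k : ∀ t ∈ Tr P.1, c * t * c⁻¹ ∈ Tr P.1
  · obtain ⟨x, a, t, ht, b⟩ : ∃ x, c x ≠ x ∧ ∃ t ∈ Tr P.1, t x ≠ x := by
      obtain ⟨x, a, -⟩ := id s
      exact (cov x (c x) a.symm).elim (fun h => ⟨x, a, h⟩) fun h => ⟨c x, by simpa, h⟩
    have r : ∀ i, ∀ z, t ((c ^ i) z) ≠ (c ^ i) z → t z ≠ z → c ^ i * t * (c ^ i)⁻¹ = t := fun i z u v =>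
      tr_eq P.2 ((pow_mem (mem_normalizer_fintype k) i t).1 ht) ht (by simpa using v) u
    by_cases e : c (t x) = t x
    · simpa [e, a, sw_sw ht.2, eq_comm] using DFunLike.congr_fun (mul_inv_eq_iff_eq_mul.1 (r 1 (t x) (by simpa [e]) (by simpa))) (t x)
    obtain ⟨i, hi⟩ := s.exists_pow_eq a e
    have := DFunLike.congr_fun (mul_inv_eq_iff_eq_mul.1 (r i x (by simpa [hi]) b)) x
    exact (b (hi ▸ fixpow (k := 2) (Nat.coprime_two_left.2 (o.of_dvd_nat (orderOf_pow_dvd i))) (by simpa [sq, hi, sw_sw ht.2] using this))).elim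
  push Not at k
  obtain ⟨t, ht, k⟩ := k
  have c3 : 2 < Nat.card (Tr P.1) := by have := card_tr P; omega
  obtain ⟨x, y, n, e, t1, h1, a⟩ : ∃ x y, x ≠ y ∧ c * t * c⁻¹ = swap x y ∧ ∃ t ∈ Tr P.1, t x ≠ x := by
    obtain ⟨x, y, n, e⟩ := sw_conj ht.2 c
    exact (cov x y n).elim (fun h => ⟨x, y, n, e, h⟩) fun h => ⟨y, x, n.symm, e.trans (swap_comm _ _), h⟩
  have b : t1 x ≠ y := fun r => k (e ▸ r ▸ sw_eq h1.2 a ▸ h1)
  obtain ⟨t2, h2, u⟩ := ex_avoid P.2 (s := {x, y}) (card_le_two.trans_lt c3)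
  obtain ⟨t3, h3, v⟩ := ex_avoid P.2 (s := {c.symm x, c.symm (t1 x)}) (card_le_two.trans_lt c3)
  simp only [mem_insert, Finset.mem_singleton, forall_eq_or_imp, forall_eq] at u v
  have tx : t (c.symm x) = c.symm y := by simpa [eq_symm_apply] using DFunLike.congr_fun e x
  have u3 := (tr_fix P.2 h2 h1 (fun r => a (r ▸ u.1)) a).2
  have v3 := (tr_fix P.2 h3 ht (x := c.symm x) (fun r => n (c.symm.injective (v.1.symm.trans (r ▸ tx)))) (by simpa [tx] using n.symm)).2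
  have t1y : t1 y = y := by rw [sw_eq h1.2 a, swap_apply_of_ne_of_ne n.symm b.symm]
  have m : swap x y * (c * t3 * c⁻¹) * (t1 * t2) ∈ H := mul_mem (e ▸ (show c * (t * t3) * c⁻¹ = c * t * c⁻¹ * (c * t3 * c⁻¹) by group) ▸
    mul_mem (mul_mem hc (hP ⟨mul_mem ht.1 h3.1, sw_mul ht.2 h3.2⟩)) (inv_mem hc)) (hP ⟨mul_mem h1.1 h2.1, sw_mul h1.2 h2.2⟩)
  rw [tx] at v3
  by_contra d
  have := fixpow (x := x) ((Nat.prime_three.coprime_iff_not_dvd.2 d).coprime_dvd_right (orderOf_dvd_natCard H m)) (by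
    simp [pow_succ, u, v, u3, v3, t1y, sw_sw h1.2, swap_apply_of_ne_of_ne a b])
  simp [u, v, swap_apply_of_ne_of_ne a b, a] at this

end CfsgPm
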