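import Cfsg.Agent.H3.Hl3

set_option autoImplicit false

/-! The structure of Hall subgroups of alternating groups. -/
namespace CfsgPm
open Equiv Equiv.Perm Subgroup CfsgH2 MulAction Cfsg Finset CfsgH1

variable {Ω : Type*} [Fintype Ω] [DecidableEq Ω]

theorem mk_lab {ι : Type*} [DecidableEq ι] (b : Ω → ι) (R : Finset Ω) (u : Ω) (h1 : ∀ x y, #{z | b z = b x} = #{z | b z = b y} → x ∈ R → y ∈ R)
    (h2 : ∀ x ∉ R, ∀ y ∉ R, b x ≠ b u → b y ≠ b u → b x = b y) (h3 : ∀ x ∉ R, u ∉ R) (h4 : R = ∅ ∨ ∃ w ∈ R, #R < 2 * #{z | b z = b w}) :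
    ∃ f : Ω → Fin 4, (RS fun x y => b x = b y) ≤ GF f ∧ fb f 0 = #{x | x ∉ R ∧ b x = b u} ∧ fb f 1 = #{x | x ∉ R ∧ b x ≠ b u} ∧ fb f 2 + fb f 3 = #R ∧
      (R = ∅ ∨ fb f 3 < fb f 2 ∧ ∃ w ∈ R, fb f 2 = #{z | b z = b w}) := by
  let f : Ω → Fin 4 := fun x => if x ∈ R then if #R < 2 * #{z | b z = b x} then 2 else 3 else if b x = b u then 0 else 1
  have e : fb f 2 + fb f 3 = #R := by
    rw [← card_filter_add_card_filter_not (s := R) fun x => #R < 2 * #{z | b z = b x}]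
    refine congrArg₂ _ (congrArg card ?_) (congrArg card ?_) <;> ext x <;> simp only [f, mem_filter, mem_univ, true_and] <;> split_ifs <;> simp [*]
  refine ⟨f, fun g hg => ?_, ?_, ?_, e, h4.imp_right fun ⟨w, a, c⟩ => ?_⟩
  · have s : ∀ x, #{z | b z = b (g x)} = #{z | b z = b x} := fun x => (card_equiv g fun z => by simpa using (hg z x).symm).symm
    have r : ∀ x, g x ∈ R ↔ x ∈ R := fun x => ⟨h1 _ _ (s x), h1 _ _ (s x).symm⟩
    by_cases k : b (g u) = b u
    · exact .inl fun x => by simp only [f, r, s, ← hg x u, k]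
    refine .inr fun x => ?_
    simp only [f, r, s]
    split_ifs with a c d e e
    exacts [rfl, rfl, (k (((hg x u).2 e).symm.trans d)).elim, rfl, rfl, (e ((hg x u).1 (h2 _ (mt (r x).1 a) _ (mt (r u).1 (h3 x a)) d k))).elim]
  iterate 2 refine congrArg card ?_; ext x; simp only [f, mem_filter, mem_univ, true_and]; split_ifs <;> simp [*]
  have : fb f 2 = #{z | b z = b w} := congrArg card (Finset.ext fun x => by
    have i : ∀ x ∈ R, ({z | b z = b x} : Finset Ω) ⊆ R := fun x hx z hz => h1 x z (by simp only [(mem_filter_univ _).1 hz]) hx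
    simp only [f, mem_filter, mem_univ, true_and]
    refine ⟨fun e => by_contra fun n => ?_, fun e => by simp [e, c, i w a ((mem_filter_univ _).2 e)]⟩
    split_ifs at e with j k <;> try cases e
    have := card_le_card (union_subset (i x j) (i w a))
    rw [card_union_of_disjoint (disjoint_filter.2 fun z _ p q => n (p.symm.trans q))] at this
    omega)
  exact ⟨by omega, w, a, this⟩

variable {π : Set ℕ} {H : Subgroup (Perm Ω)} (hH : IsPiHallOf π H (alternatingGroup Ω)) (h5 : 5 ≤ Fintype.card Ω)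
include hH h5

theorem hall_cov {q : ℕ} (hq : q.Prime) (h : q ∈ π) (n : q ≠ 2) : ∃ U : Finset Ω, #U < q ∧ (∀ x ∉ U, ∃ c ∈ H, c.IsCycle ∧ #c.support = q ∧ c x ≠ x) ∧
    ∀ S : Finset Ω, (∀ c ∈ H, c.IsCycle → #c.support = q → ∀ x ∈ S, c x ∈ S) → q ∣ #(S \ U) := by
  haveI := Fact.mk hq
  haveI : Nontrivial Ω := Fintype.one_lt_card_iff_nontrivial.1 (by omega)
  obtain ⟨Q, hQ⟩ := IsSylowIn.exists_sylowIn q H
  obtain ⟨U, a, b, c⟩ := cov ((hQ.trans_of_not_dvd hH.1 (hH.2.2 q hq h)).trans_of_not_dvd le_top (by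
    rw [relIndex_top_right, alternatingGroup.index_eq_two]; exact mt (Nat.prime_dvd_prime_iff_eq hq Nat.prime_two).1 n))
  exact ⟨U, a, fun x hx => (b x hx).imp fun c h => ⟨hQ.1 h.1, h.2⟩, fun S h => c S fun c k => h c (hQ.1 k)⟩

omit h5 in
theorem hall_two (h : 2 ∈ π) : ∃ P : Sylow 2 (Perm Ω), P.1 ⊓ alternatingGroup Ω ≤ H := by
  obtain ⟨Q, hQ⟩ := IsSylowIn.exists_sylowIn 2 H
  obtain ⟨P, hP⟩ := hQ.2.exists_le_sylow
  exact ⟨P, ((hQ.trans_of_not_dvd hH.1 (hH.2.2 2 Nat.prime_two h)).eq_of_le P.2.to_inf_left (le_inf hP (hQ.1.trans hH.1)) inf_le_right).le.trans hQ.1⟩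

theorem hall_six {p q : ℕ} (hp : p.Prime) (hq : q.Prime) (l : p < q) (a : p ∈ π) (b : q ∈ π) (n : q ≤ Fintype.card Ω) : 2 ∈ π ∧ 3 ∈ π := by
  have := hp.two_le
  obtain ⟨U, u1, u2, -⟩ := hall_cov hH h5 hq b (by omega)
  obtain ⟨x, -, hx⟩ := exists_mem_notMem_of_card_lt_card (u1.trans_le n)
  obtain ⟨c, c1, c2, c3, -⟩ := u2 x hx
  have t : 2 ∈ π := by_contra fun k => by
    obtain ⟨V, v1, v2, -⟩ := hall_cov hH h5 hp a fun e => k (e ▸ a)
    obtain ⟨y, y1, y2⟩ := exists_mem_notMem_of_card_lt_card (s := V) (t := c.support) (by omega)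
    obtain ⟨d, d1, d2, d3, d4⟩ := v2 y y2
    exact k (hH.2.1 2 Nat.prime_two (even_of c1 d1 c2 d2 (c3 ▸ hq) (d3 ▸ hp) (by omega) (mem_support.1 y1) d4))
  refine ⟨t, by_contra fun k => k (hH.2.1 3 Nat.prime_three ?_)⟩
  obtain ⟨P, hP⟩ := hall_two hH t
  obtain e | e := h5.eq_or_lt
  swap
  · exact three_of e P hP c1 c2 (c2.orderOf ▸ c3 ▸ hq.odd_of_ne_two (by omega))
  obtain rfl : q = 5 := by
    have : q ≠ 3 := fun e => k (e ▸ b)
    have : q ≠ 4 := fun e => by simp [e] at hq; exact absurd hq (by decide)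
    omega
  haveI := alternatingGroup.isSimpleGroup (α := Ω) (by rwa [Nat.card_eq_fintype_card])
  haveI : Nontrivial Ω := Fintype.one_lt_card_iff_nontrivial.1 (by omega)
  have c : Nat.card (alternatingGroup Ω) = 60 := by rw [nat_card_alternatingGroup, Nat.card_eq_fintype_card, ← e]; rfl
  have i := CfsgH2.card_mul_relIndex hH.1
  have j : (H.subgroupOf (alternatingGroup Ω)).normalCore.index ∣ (H.relIndex (alternatingGroup Ω)).factorial := by
    rw [normalCore_eq_ker, index_ker, relIndex, index_eq_card, ← Nat.card_perm]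
    exact card_subgroup_dvd_card _
  have i2 := hH.2.2 2 Nat.prime_two t
  have i5 := hH.2.2 5 hq b
  obtain r | r := (normalCore_normal (H.subgroupOf (alternatingGroup Ω))).eq_bot_or_eq_top
  · rw [r, index_bot, c] at j
    have := Nat.le_of_dvd (by decide) (Dvd.intro_left _ (i.trans c))
    generalize H.relIndex _ = m at *
    interval_cases m <;> first | omega | exact absurd j (by decide)
  rw [relIndex, top_le_iff.1 (r.ge.trans (normalCore_le _)), index_top] at i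
  omega

end CfsgPm
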