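import Cfsg.Agent.H3.Hl4

set_option autoImplicit false

/-! The structure of Hall subgroups of alternating groups, continued. -/
namespace CfsgPm
open Equiv Equiv.Perm Subgroup CfsgH2 MulAction Cfsg Finset CfsgH1

variable {Ω : Type*} [Fintype Ω] [DecidableEq Ω] {π : Set ℕ} {H : Subgroup (Perm Ω)} (hH : IsPiHallOf π H (alternatingGroup Ω)) (h5 : 5 ≤ Fintype.card Ω)
include hH h5

theorem hall_blk (h2 : 2 ∈ π) (h3 : 3 ∈ π) {r : ℕ} (hr : r.Prime) (r1 : r ∉ π) : ∃ (b : Ω → ℕ) (P : Sylow 2 (Perm Ω)), H ≤ RS (fun x y => b x = b y) ∧ P.1 ≤ RS (fun x y => b x = b y) ∧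
    (∀ x, #{z | b z = b x} < r) ∧ ∀ c ∈ H, c.IsThreeCycle → ∀ x, b (c x) = b x := by
  classical
  let N := closure {g | g ∈ H ∧ IsThreeCycle g}
  obtain ⟨e, he⟩ := Countable.exists_injective_nat (orbitRel.Quotient N Ω)
  obtain ⟨P, hP⟩ := hall_two hH h2
  have hM : H ≤ RS fun x y => oq N x = oq N y := fun g hg x y => by
    simp only [oq_eq]
    exact ⟨fun ⟨a, h, e⟩ => ⟨_, normal_three H (inv_mem hg) h, by simp [e]⟩, fun ⟨a, h, e⟩ => ⟨_, normal_three H hg h, by simp [e]⟩⟩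
  have d : ∀ x, (∀ y, oq N y = oq N x → y = x) ∨ ∃ c ∈ H, c.IsThreeCycle ∧ c x ≠ x := fun x => or_iff_not_imp_right.2 fun k y e =>
    let ⟨a, h, e⟩ := oq_eq.1 e; e ▸ (closure_le (stabilizer _ x)).2 (fun c h => by_contra fun n => k ⟨c, h.1, h.2, n⟩) h
  have t3 : ∀ c ∈ H, c.IsThreeCycle → ∀ x, c x ≠ x → 3 ≤ #{y | oq N y = oq N x} := fun c a t x n => t.card_support.ge.trans (card_le_card fun y hy => by
    obtain ⟨i, rfl⟩ := t.isCycle.exists_zpow_eq n (mem_support.1 hy)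
    exact (mem_filter_univ _).2 (oq_ap (N.zpow_mem (subset_closure (by exact ⟨a, t⟩)) i) x))
  have c3 : 1 < Nat.card (Tr P.1) := by have := card_tr P; omega
  have hT : ∀ t ∈ Tr P.1, t ∈ RS fun x y => oq N x = oq N y := fun t ht => by
    have k : ∀ x, ¬ (∀ y, oq N y = oq N x → y = x) → oq N (t x) = oq N x := fun x n => by_contra fun q => by
      obtain ⟨c, c1, c2, c3'⟩ := (d x).resolve_left n
      obtain ⟨s, hs, u⟩ := ex_avoid P.2 (s := {x}) c3
      have m := hM (hP ⟨mul_mem ht.1 hs.1, sw_mul ht.2 hs.2⟩)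
      have v : (t * s) x = t x := by simp [u]
      have := card_le_card (s := ({y | oq N y = oq N x} : Finset Ω) ∪ ({y | oq N y = oq N (t x)} : Finset Ω)) (t := t.support ∪ s.support) fun y hy => support_mul_le t s (mem_support.2 fun e => by
        have := m y x
        simp only [e, v] at this
        simp only [mem_union, mem_filter_univ] at hy
        exact q (hy.elim (fun h => (this.2 h).symm.trans h) fun h => h.symm.trans (this.1 h)))
      rw [card_union_of_disjoint (disjoint_filter.2 fun z _ a b => q (b.symm.trans a)), ← card_equiv (t * s) (s := {y | oq N y = oq N x}) (t := {y | oq N y = oq N (t x)}) fun z => by simpa only [mem_filter_univ, v] using (m z x).symm] at this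
      have := t3 c c1 c2 x c3'
      have := card_union_le t.support s.support
      rw [card_support_eq_two.2 ht.2, card_support_eq_two.2 hs.2] at this
      omega
    have : ∀ x y, oq N x = oq N y → oq N (t x) = oq N (t y) := fun x y e => by
      by_cases n : ∀ z, oq N z = oq N x → z = x
      · rw [n y e.symm]
      exact (k x n).trans (e.trans (k y fun j => n (j x e ▸ j)).symm)
    exact fun x y => ⟨fun e => by simpa [sw_sw ht.2] using this _ _ e, this x y⟩
  refine ⟨e ∘ oq N, P, ?_, fun p hp => ?_, fun x => not_le.1 fun l => ?_, fun c a t x => congrArg e (oq_ap (subset_closure (by exact ⟨a, t⟩)) x)⟩ <;>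
    simp only [Function.comp, he.eq_iff] at *
  · exact hM
  · obtain ⟨t, ht⟩ := (Set.ncard_pos (s := Tr P.1)).1 (zero_lt_one.trans c3)
    obtain ⟨q, a, rfl | rfl⟩ := ex_even hp ht
    exacts [hM (hP a), (mul_mem_cancel_right (hT t ht)).1 (hM (hP a))]
  have := hr.two_le
  have n : r ≠ 2 := fun e => r1 (e ▸ h2)
  obtain ⟨g, g1, g2, g3⟩ := ex_cyc this l
  obtain k | ⟨c, c1, c2, c3⟩ := d x
  · exact absurd (card_le_one.2 fun a h b j => (k a ((mem_filter.1 h).2)).trans (k b ((mem_filter.1 j).2)).symm) (by omega : ¬ #{y | oq N y = oq N x} ≤ 1)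
  exact r1 (hH.2.1 r hr (g2 ▸ g1.orderOf ▸ orderOf_dvd_natCard H (alt_orb H c1 c2 c3 (fun y => mem_filter_univ y) (by
    rw [mem_alternatingGroup, g1.sign, g2, (hr.odd_of_ne_two n).neg_one_pow]; rfl) g3)))

theorem hall_str (h2 : 2 ∈ π) (h3 : 3 ∈ π) {r : ℕ} (hr : r.Prime) (r1 : r ∉ π) (r3 : ∀ p, p.Prime → p < r → p ∈ π) :
    ∃ f : Ω → Fin 4, H = GF f ⊓ alternatingGroup Ω ∧ fb f 0 = fb f 1 ∧ (∀ i, fb f i < r) ∧ (fb f 3 < fb f 2 ∨ fb f 2 + fb f 3 = 0) ∧
      (fb f 0 = 0 ∧ 2 ^ Nat.log 2 (Fintype.card Ω) < r ∨ 2 * fb f 0 = 2 ^ Nat.log 2 (Fintype.card Ω) ∧ r ≤ 2 * fb f 0 ∧ 4 ≤ fb f 0 ∧ fb f 0 % 3 = 1 ∧ 3 ∣ fb f 2 ∧ 3 ∣ fb f 3) := by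
  obtain ⟨b, P, hM, hP, lt, t3⟩ := hall_blk hH h5 h2 h3 hr r1
  have K : ∀ R : Finset Ω, (∀ g ∈ P.1, ∀ x ∈ R, g x ∈ R) → 2 ≤ #R → ∃ c ∈ RS fun x y => b x = b y, c.IsCycle ∧ #c.support = 2 ^ Nat.log 2 #R ∧ c.support ⊆ R ∧ #R < 2 * #c.support := fun R h l => by
    obtain ⟨c, a, t, s, u⟩ := syl_cyc (.of_sylow_top P) h (Nat.log_pos one_lt_two l).ne' (Nat.pow_log_le_self 2 (by omega))
    exact ⟨c, hP a, t, s, u, by rw [s, ← pow_succ']; exact Nat.lt_pow_succ_log_self one_lt_two _⟩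
  have W : ∀ c : Perm Ω, c.IsCycle → (∀ x ∈ c.support, ∀ y ∈ c.support, b x = b y) → ∀ w ∈ c.support, #c.support ≤ #{z | b z = b w} := fun c t h w hw =>
    card_le_card fun z hz => (mem_filter_univ _).2 (h z hz w hw)
  have F : ∀ f : Ω → Fin 4, (RS fun x y => b x = b y) ≤ GF f → fb f 0 = fb f 1 → (∀ i, fb f i < r) → H = GF f ⊓ alternatingGroup Ω := fun f l e s => by
    have := IsPiHall.eq_of_le ((isPiHallOf_iff_subgroupOf hH.1).1 hH) (K := (GF f).subgroupOf _) ((GF_pi e h2 r3 s).of_dvd (by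
      rw [← card_map_of_injective (alternatingGroup Ω).subtype_injective, subgroupOf_map_subtype]; exact card_dvd_of_le inf_le_left)) (subgroupOf_mono _ (hM.trans l))
    rw [← subgroupOf_map_subtype, ← this, subgroupOf_map_subtype, inf_eq_left.2 hH.1]
  obtain ⟨c, c1, c2, c3, -, c4⟩ := K univ (by simp) (by rw [card_univ]; omega)
  rw [card_univ] at c3 c4
  obtain ⟨x, hx, -⟩ := id c2
  rw [← mem_support] at hx
  obtain k | k := cyc_blk c2 c1
  · have := W c c2 k x hx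
    obtain ⟨f, f0, f1, f2, f3, e | ⟨f4, w, -, f5⟩⟩ := mk_lab b univ x (by simp) (by simp) (by simp) (.inr ⟨x, mem_univ _, by rw [card_univ]; omega⟩)
    · exact absurd (e ▸ mem_univ x) (notMem_empty x)
    simp only [mem_univ, not_true, false_and, filter_false, card_empty] at f1 f2
    have s : ∀ i, fb f i < r := fun i => by have := lt w; fin_cases i <;> simp only [Fin.zero_eta, Fin.mk_one, Fin.reduceFinMk] <;> omega
    exact ⟨f, F f f0 (by omega) s, by omega, s, .inl f4, .inl ⟨f1, c3 ▸ this.trans_lt (lt x)⟩⟩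
  obtain ⟨U, u1, -, u2⟩ := hall_cov hH h5 Nat.prime_three h3 (by decide)
  have v : ∀ x, 3 ∣ #(({z | b z = b x} : Finset Ω) \ U) := fun x => u2 _ fun c a _ s y hy => by simpa [t3 c a (card_support_eq_three_iff.1 s)] using hy
  have n3 : ∀ {a} (c : Perm Ω), #c.support = 2 ^ a → ∀ x, #{z | b z = b x} ∣ #c.support → ¬ 3 ∣ #{z | b z = b x} := fun c e x d t =>
    absurd (Nat.prime_three.dvd_of_dvd_pow (e ▸ t.trans d)) (by decide)
  have p : ∀ x, ¬ 3 ∣ #{z | b z = b x} → ∃ u ∈ U, b u = b x := fun x n => by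
    by_contra! q
    exact n (sdiff_eq_self_of_disjoint (disjoint_right.2 fun u a e => q u a ((mem_filter.1 e).2)) ▸ v x)
  obtain ⟨y, hy, n⟩ := exists_mem_notMem_of_card_lt_card (k x hx).2.2
  rw [mem_filter_univ] at n
  obtain ⟨u, a1, a2⟩ := p x (n3 c c3 x (k x hx).2.1)
  obtain ⟨w, b1, b2⟩ := p y (n3 c c3 y (k y hy).2.1)
  have nn : u ≠ w := fun e => n (b2 ▸ e ▸ a2)
  obtain rfl : {u, w} = U := eq_of_subset_of_card_le (insert_subset a1 (singleton_subset_iff.2 b1)) (by rw [card_pair nn]; omega)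
  have o : ∀ z, ¬ 3 ∣ #{t | b t = b z} → b z = b x ∨ b z = b y := fun z h => by have := p z h; grind
  let R : Finset Ω := {z | 3 ∣ #{t | b t = b z}}
  have m : ∀ z, z ∈ R ↔ z ∉ c.support := fun z => ⟨fun h j => n3 c c3 z (k z j).2.1 ((mem_filter.1 h).2), fun h => (mem_filter_univ _).2 (by_contra fun j =>
    h ((o z j).elim ((k x hx).1 z) ((k y hy).1 z)))⟩
  have s : ∀ g ∈ RS fun x y => b x = b y, ∀ x, #{z | b z = b (g x)} = #{z | b z = b x} := fun g hg x => (card_equiv g fun z => by simpa using (hg z x).symm).symm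
  have o' : ∀ z ∉ R, b z = b x ∨ b z = b y := fun z h => o z (by simpa [R] using h)
  obtain ⟨f, f0, f1, f2, f3, f4⟩ := mk_lab b R x (fun x y e => by simp [R, e]) (fun a h c j p q => ((o' a h).resolve_left p).trans ((o' c j).resolve_left q).symm)
    (fun _ _ h => (m x).1 h hx) (R.eq_empty_or_nonempty.imp_right fun ⟨z, hz⟩ => by
      obtain ⟨d, d1, d2, d3, d4, d5⟩ := K R (fun g h x => by simp [R, s g (hP h)]) ((Nat.le_of_dvd (card_pos.2 ⟨z, by simp⟩) ((mem_filter.1 hz).2)).trans' (by decide) |>.trans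
        (card_le_card fun t ht => by simpa [R, (mem_filter.1 ht).2] using hz))
      obtain ⟨t, ht, -⟩ := id d2
      rw [← mem_support] at ht
      obtain j | j := cyc_blk d2 d1
      · exact ⟨t, d4 ht, by have := W d d2 j t ht; omega⟩
      exact (n3 d d3 t (j t ht).2.1 ((mem_filter.1 (d4 ht)).2)).elim)
  have e0 : fb f 0 = #{z | b z = b x} := f1.trans (congrArg card (filter_congr fun z _ => and_iff_right_of_imp fun e h => (m z).1 h ((k x hx).1 z e)))
  have e1 : fb f 1 = #{z | b z = b y} := f2.trans (congrArg card (filter_congr fun z _ => ⟨fun h => (o' z h.1).resolve_left h.2, fun e =>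
    ⟨fun h => (m z).1 h ((k y hy).1 z e), fun j => n (e.symm.trans j)⟩⟩))
  have e2 : fb f 0 = fb f 1 := by
    obtain ⟨i, rfl⟩ := c2.exists_zpow_eq (mem_support.1 hx) (mem_support.1 hy)
    rw [e0, e1, s _ (zpow_mem c1 i)]
  have e3 := fb_sum f
  have e4 : #R + #c.support = Fintype.card Ω := by rw [show R = c.supportᶜ from Finset.ext fun z => (m z).trans mem_compl.symm, card_compl_add_card]
  have e5 := v x
  rw [sdiff_insert, sdiff_eq_self_of_disjoint (by simpa [b2]), card_erase_of_mem (by simpa)] at e5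
  have e6 := u2 R fun c a _ j y hy => by simpa [R, t3 c a (card_support_eq_three_iff.1 j)] using hy
  rw [sdiff_eq_self_of_disjoint (by simp [m, (k x hx).1 u a2, (k y hy).1 w b2])] at e6
  have e7 : 3 ∣ fb f 2 ∧ (fb f 3 < fb f 2 ∧ fb f 2 < r ∨ #R = 0) := f4.elim (fun e => by have := card_eq_zero.2 e; omega) fun ⟨a, z, h, j⟩ => ⟨j ▸ (mem_filter.1 h).2, .inl ⟨a, j ▸ lt z⟩⟩
  have e8 := lt x
  have t : ∀ i, fb f i < r := fun i => by fin_cases i <;> simp only [Fin.zero_eta, Fin.mk_one, Fin.reduceFinMk] <;> omega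
  refine ⟨f, F f f0 e2 t, e2, t, by omega, .inr ⟨by omega, ?_, by omega, by omega, e7.1, by omega⟩⟩
  obtain ⟨q, q1, q2, q3⟩ := Nat.exists_prime_lt_and_le_two_mul (fb f 0) (by omega)
  refine q3.trans' (not_lt.1 fun l => ?_)
  obtain ⟨V, v1, v2, -⟩ := hall_cov hH h5 q1 (r3 q q1 l) (by omega)
  obtain ⟨z, z1, z2⟩ := exists_mem_notMem_of_card_lt_card (s := V) (t := c.support) (by omega)
  obtain ⟨d, d1, d2, d3, d4⟩ := v2 z z2
  have : #{t | b t = b z} = fb f 0 := (o' z fun h => (m z).1 h z1).elim (fun e => by rw [e, e0]) fun e => by rw [e, e2, e1]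
  obtain j | j := cyc_blk d2 (hM d1)
  · have := W d d2 j z (mem_support.2 d4); omega
  have := j z (mem_support.2 d4)
  have := (Nat.dvd_prime q1).1 (d3 ▸ this.2.1)
  omega

end CfsgPm
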