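import Cfsg.Agent.H3.Hl5

set_option autoImplicit false

/-! Conjugacy of Hall subgroups of alternating groups. -/
namespace CfsgPm
open Equiv Equiv.Perm Subgroup CfsgH2 MulAction Cfsg Finset CfsgH1

section
variable {G : Type*} [Group G] [Finite G] {π : Set ℕ}

theorem dpi_small (h : (∀ r s : ℕ, r.Prime → s.Prime → r ∈ π → s ∈ π → r ∣ Nat.card G → s ∣ Nat.card G → r = s) ∨ ∀ r : ℕ, r.Prime → r ∣ Nat.card G → r ∈ π) :
    IsDPiGroup π G := fun H K hH hK => by
  rcases h with h | h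
  swap
  · have : IsPiSubgroup π (⊤ : Subgroup G) := fun p hp d => h p hp (card_top (G := G) ▸ d)
    exact ⟨1, by rw [hH.eq_of_le this le_top, hK.eq_of_le this le_top]; simp⟩
  by_cases c : ∃ p, p.Prime ∧ p ∈ π ∧ p ∣ Nat.card G
  · obtain ⟨p, hp, c, d⟩ := c
    have := Fact.mk hp
    have k : ∀ L : Subgroup G, IsPiSubgroup π L ↔ IsPGroup p L := fun L => ⟨fun e => IsPGroup.of_card
      (Nat.eq_prime_pow_of_unique_prime_dvd Nat.card_pos.ne' fun {q} hq j => h q p hq hp (e q hq j) c (j.trans L.card_subgroup_dvd_card) d), fun e => IsPiNum.of_isPGroup e c⟩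
    obtain ⟨g, hg⟩ := exists_smul_eq G (⟨H, (k H).1 hH.1, fun e l => (hH.eq_of_le ((k _).2 e) l).symm⟩ : Sylow p G)
      ⟨K, (k K).1 hK.1, fun e l => (hK.eq_of_le ((k _).2 e) l).symm⟩
    exact ⟨g, (congrArg (·.1) hg).symm⟩
  have k : ∀ L : Subgroup G, IsPiSubgroup π L → L = ⊥ := fun L e => Subgroup.card_eq_one.1 (Nat.eq_one_iff_not_exists_prime_dvd.2
    fun q hq d => c ⟨q, hq, e q hq d, d.trans L.card_subgroup_dvd_card⟩)
  exact ⟨1, by rw [k H hH.1, k K hK.1, Subgroup.map_bot]⟩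

theorem dpi_hall (h : IsDPiGroup π G) {H : Subgroup G} (hH : Maximal (IsPiSubgroup π) H) : IsPiHall π H := ⟨hH.1, fun p hp h' d => by
  have := Fact.mk hp
  obtain ⟨P⟩ : Nonempty (Sylow p G) := inferInstance
  obtain ⟨K, h1, hK⟩ := Finite.exists_le_maximal (show IsPiSubgroup π P.1 from IsPiNum.of_isPGroup P.2 h')
  obtain ⟨g, rfl⟩ := h H K hH hK
  exact P.not_dvd_index ((index_cj g H ▸ d : p ∣ (cj g H).index).trans (index_dvd_of_le h1))⟩

theorem dpi_cpi (h : IsDPiGroup π G) : IsCPiGroup π G := by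
  obtain ⟨H, -, hH⟩ := Finite.exists_le_maximal (show IsPiSubgroup π (⊥ : Subgroup G) from fun p hp h => (hp.ne_one (by simpa using h)).elim)
  have : ∀ K : Subgroup G, IsPiHall π K → Maximal (IsPiSubgroup π) K := fun K k => ⟨k.1, fun L a b => (IsPiHall.eq_of_le k a b).ge⟩
  exact ⟨⟨H, dpi_hall h hH⟩, fun H K a b => h H K (this H a) (this K b)⟩
end

variable {Ω : Type*} [Fintype Ω] [DecidableEq Ω] {π : Set ℕ}

theorem hall_mix (h : ¬ ((∀ r s : ℕ, r.Prime → s.Prime → r ∈ π → s ∈ π → r ∣ Nat.card (alternatingGroup Ω) → s ∣ Nat.card (alternatingGroup Ω) → r = s) ∨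
    ∀ r : ℕ, r.Prime → r ∣ Nat.card (alternatingGroup Ω) → r ∈ π)) : 5 ≤ Fintype.card Ω ∧ (∀ H, IsPiHallOf π H (alternatingGroup Ω) → 2 ∈ π ∧ 3 ∈ π) ∧
      ∃ r, r.Prime ∧ r ∉ π ∧ r ≤ Fintype.card Ω ∧ ∀ p, p.Prime → p < r → p ∈ π := by
  classical
  push Not at h
  obtain ⟨⟨p, q, hp, hq, a, b, c, d, n⟩, r, hr, e, f⟩ := h
  have l : ∀ p, p.Prime → p ∣ Nat.card (alternatingGroup Ω) → p ≤ Fintype.card Ω := fun p hp d =>
    hp.dvd_factorial.1 (by simpa [Fintype.card_perm] using d.trans (card_subgroup_dvd_card _))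
  have t : ∀ p < 5, p.Prime → p = 2 ∨ p = 3 := by decide
  have h5 : 5 ≤ Fintype.card Ω := by have := l p hp c; have := l q hq d; have := l r hr e; grind
  have x : ∃ r, r.Prime ∧ r ∉ π := ⟨r, hr, f⟩
  exact ⟨h5, fun H hH => n.lt_or_gt.elim (fun k => hall_six hH h5 hp hq k a b (l q hq d)) fun k => hall_six hH h5 hq hp k b a (l p hp c), _, (Nat.find_spec x).1, (Nat.find_spec x).2,
    (Nat.find_min' x ⟨hr, f⟩).trans (l r hr e), fun p hp k => by_contra fun j => Nat.find_min x k ⟨hp, j⟩⟩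

theorem card_GFA (h5 : 5 ≤ Fintype.card Ω) (f : Ω → Fin 4) : Nat.card (GF f ⊓ alternatingGroup Ω : Subgroup _) * 2 = Nat.card (GF f) := by
  haveI : Nontrivial Ω := Fintype.one_lt_card_iff_nontrivial.1 (by omega)
  obtain ⟨u, -, v, -, n, e⟩ := room f (T := univ) (by simp) univ (by simpa)
  rw [← CfsgH2.card_mul_relIndex (inf_le_left (a := GF f) (b := alternatingGroup Ω)), inf_relIndex_left, ((Nat.dvd_prime Nat.prime_two).1 ((relIndex_dvd_index_of_normal (alternatingGroup Ω) (GF f)).trans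
    alternatingGroup.index_eq_two.dvd)).resolve_left fun k => by simpa [n] using relIndex_eq_one.1 k (.inl (swap_GF e) : swap u v ∈ GF f)]

theorem epi_cpi (h : IsEPiGroup π (alternatingGroup Ω)) : IsCPiGroup π (alternatingGroup Ω) := by
  by_contra k
  obtain ⟨h5, a, r, r0, r1, -, r3⟩ := hall_mix (mt (dpi_cpi ∘ dpi_small) k)
  refine k ⟨h, fun H K x y => ?_⟩
  obtain ⟨h2, h3⟩ := a _ (isPiHallOf_map x)
  obtain ⟨f, f0, f1, f2, f3, f4⟩ := hall_str (isPiHallOf_map x) h5 h2 h3 r0 r1 r3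
  obtain ⟨g, g0, g1, g2, g3, g4⟩ := hall_str (isPiHallOf_map y) h5 h2 h3 r0 r1 r3
  have e : fb f 0 = fb g 0 := by omega
  have c := card_GFA h5 f
  have := fb_sum f
  have := fb_sum g
  rw [← f0, card_map_of_injective (subtype_injective _), IsPiHall.card_eq x y, ← card_map_of_injective (subtype_injective _), g0, card_GFA h5, card_GF f1, card_GF g1, ← f1, ← g1, e,
    mul_right_inj' (by split_ifs <;> decide), mul_assoc, mul_assoc _ _ (fb f 3).factorial, mul_right_inj' (by positivity)] at c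
  have : fb f 2 = fb g 2 := le_antisymm (not_lt.1 fun l => (fac_lt (by omega) (by omega) l).ne c) (not_lt.1 fun l => (fac_lt (by omega) (by omega) l).ne' c)
  obtain ⟨σ, s, t⟩ := GF_conj h5 (f := f) (g := g) fun i => by fin_cases i <;> simp only [Fin.zero_eta, Fin.mk_one, Fin.reduceFinMk] <;> omega
  refine ⟨⟨σ, s⟩, Subgroup.map_injective (subtype_injective _) ?_⟩
  rw [g0, ← t, show cj σ (GF f) ⊓ alternatingGroup Ω = _ by rw [← cj_eq_of_mem s, ← cj_inf, ← f0], cj, Subgroup.map_map, Subgroup.map_map]; rfl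

end CfsgPm
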