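import Cfsg.Agent.H3.Burnside

/-! Unambiguous short names for the inner product lemmas. -/

namespace CfsgH3

alias ip_add_left := CfsgH3.inner_add_left
alias ip_add_right := CfsgH3.inner_add_right
alias ip_smul_left := CfsgH3.inner_smul_left
alias ip_smul_right := CfsgH3.inner_smul_right
alias ip_neg_left := CfsgH3.inner_neg_left
alias ip_neg_right := CfsgH3.inner_neg_right
alias ip_sub_left := CfsgH3.inner_sub_left
alias ip_sub_right := CfsgH3.inner_sub_right
alias ip_zero_left := CfsgH3.inner_zero_left
alias ip_zero_right := CfsgH3.inner_zero_right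
alias ip_zsmul_left := CfsgH3.inner_zsmul_left
alias ip_zsmul_right := CfsgH3.inner_zsmul_right
alias ip_nsmul_left := CfsgH3.inner_nsmul_left
alias ip_nsmul_right := CfsgH3.inner_nsmul_right
alias ip_sum_left := CfsgH3.inner_sum_left
alias ip_sum_right := CfsgH3.inner_sum_right
alias ip_conj_symm := CfsgH3.inner_conj_symm
alias ip_eq_zero_symm := CfsgH3.inner_eq_zero_symm
alias ip_self_eq_zero := CfsgH3.inner_self_eq_zero
alias ip_self_im := CfsgH3.inner_self_im
alias ip_mul_left := CfsgH3.inner_mul_left
alias ip_conj_conj := CfsgH3.inner_conj_conj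
alias ip_one_right := CfsgH3.inner_one_right

end CfsgH3
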