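import Cfsg.Agent.H3.J1a

set_option autoImplicit false
set_option maxRecDepth 100000

/-! Order, exponent and simplicity of Janko's group `J₁`. -/
namespace CfsgPm.J1
open CfsgH7 Cfsg Subgroup Matrix Spor

noncomputable section

theorem os : ordc 30 6 ∧ ordc 6 10 ∧ ordc 940 15 ∧ ordc 2 7 ∧ ordc 14 11 ∧ ordc 24 19 ∧ ordc 424 3 ∧ ordc 3 5 := by decide +kernel

def le : Fin 8 → ℕ := ![1, 222, 175, 828, 670, 591, 2334, 2191]

theorem le_c : (∀ i j, ∃ k, mm (evc (le i)) (evc (le j)) = evc (le k)) ∧ (∀ i, mm (evc (le i)) (evc (le i)) = c1) ∧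
    ∀ i j, toM (evc (le i)) = toM (evc (le j)) → i = j := by decide +kernel

theorem mul_val (u v : ℕ) : (ev u * ev v).1.1 = toM (mm (evc u) (evc v)) := by rw [toM_mm, ← ev_val, ← ev_val]; rfl

theorem sq (i : Fin 8) : ev (le i) * ev (le i) = 1 := eq_of (by rw [mul_val, le_c.2.1, toM_c.1]; rfl)

def E : Subgroup J1 where
  carrier := Set.range fun i => ev (le i)
  one_mem' := ⟨0, rfl⟩
  mul_mem' := by
    rintro _ _ ⟨i, rfl⟩ ⟨j, rfl⟩
    obtain ⟨k, e⟩ := le_c.1 i j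
    exact ⟨k, eq_of (by rw [mul_val, e, ev_val])⟩
  inv_mem' := by
    rintro _ ⟨i, rfl⟩
    exact ⟨i, eq_inv_of_mul_eq_one_left (sq i)⟩

theorem card_E : Nat.card E = 8 :=
  (Nat.card_range_of_injective fun i j e => le_c.2.2 i j (by rw [← ev_val, ← ev_val]; exact congrArg (fun g : J1 => g.1.1) e)).trans (by simp)

theorem card : Nat.card J1 = 175560 := by
  have d : ∀ {w n : ℕ}, ordc w n → n ∣ Nat.card J1 := fun h => ord_ev h ▸ orderOf_dvd_natCard _
  refine card_le.antisymm (Nat.le_of_dvd Nat.card_pos ?_)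
  exact Nat.Coprime.mul_dvd_of_dvd_of_dvd (m := 8 * 15 * 7 * 11) (n := 19) (by norm_num) (Nat.Coprime.mul_dvd_of_dvd_of_dvd (by norm_num)
    (Nat.Coprime.mul_dvd_of_dvd_of_dvd (by norm_num) (Nat.Coprime.mul_dvd_of_dvd_of_dvd (by norm_num)
      (card_E ▸ card_subgroup_dvd_card E) (d os.2.2.1)) (d os.2.2.2.1)) (d os.2.2.2.2.1)) (d os.2.2.2.2.2.1)

theorem expo (g : J1) : orderOf g ∣ 43890 := by
  obtain ⟨a, b, h1, h2, e⟩ := (Nat.dvd_mul (m := 8) (n := 21945)).1 ((orderOf_dvd_natCard g).trans card.dvd)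
  refine ((by decide : ∀ d ∈ Nat.divisors 8, d ∣ 2 ∨ 4 ∣ d) a (Nat.mem_divisors.2 ⟨h1, by norm_num⟩)).elim
    (fun h => e ▸ mul_dvd_mul h h2) fun d => False.elim ?_
  replace d := (d.mul_right b).trans e.dvd
  haveI := Fact.mk Nat.prime_two
  have h := orderOf_pow_orderOf_div (orderOf_pos g).ne' d
  generalize g ^ (orderOf g / 4) = c at h
  obtain ⟨R, hR⟩ := (IsPGroup.of_card (n := 2) (G := zpowers c) (p := 2) (by rw [Nat.card_zpowers, h]; rfl)).exists_le_sylow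
  obtain ⟨u, rfl⟩ := MulAction.exists_smul_eq J1 (Sylow.ofCard (p := 2) E (by
    rw [card_E, card, Nat.factorization_def _ Nat.prime_two]; decide +kernel)) R
  obtain ⟨_, ⟨i, rfl⟩, e⟩ := hR (mem_zpowers c)
  have : c ^ 2 = 1 := by rw [← show MulAut.conj u (ev (le i)) = c from e, ← map_pow, pow_two, sq, map_one]
  exact absurd (h ▸ orderOf_dvd_of_pow_eq_one this) (by norm_num)

def tr (g w c q : ℕ) : Prop := mm (evc c) (mm (evc w) (evc g)) = mm (evc g) (evc w) ∧ ordc c q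
instance (g w c q : ℕ) : Decidable (tr g w c q) := by unfold tr; infer_instance

theorem trs : (∀ i, i = 0 ∨ tr (le i) (![0, 29, 28, 22, 14, 11, 88, 76] i) (![0, 188638, 43075, 27575, 34423, 242281, 29465, 271712] i) 7) ∧
    tr 424 6 296476 7 ∧ tr 3 2 2590 7 ∧ tr 14 3 7427 7 ∧ tr 24 2 2590 7 ∧ tr 2 25 50063 5 := by decide +kernel

theorem simple : IsSimpleGroup J1 := by
  haveI : Nontrivial J1 := Finite.one_lt_card_iff_nontrivial.1 (by rw [card]; norm_num)
  refine ⟨fun N hN => or_iff_not_imp_left.2 fun h => ?_⟩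
  have c := N.card_mul_index
  rw [card] at c
  have mem : ∀ {w p : ℕ}, ordc w p → p.Prime → ¬ p * p ∣ 175560 → p ∣ Nat.card N → ev w ∈ N := fun {w p} o hp n d => by
    rcases (Nat.dvd_prime hp).1 (ord_ev o ▸ orderOf_map_dvd (QuotientGroup.mk' N) (ev w)) with e | e
    · exact (QuotientGroup.eq_one_iff _).1 (orderOf_eq_one_iff.1 e)
    · exact (n (c ▸ mul_dvd_mul d (e ▸ orderOf_dvd_natCard _))).elim
  have st : ∀ {g w c q : ℕ}, tr g w c q → ev g ∈ N → q ∣ Nat.card N := fun {g w c q} t m => by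
    have e : ev c * (ev w * ev g) = ev g * ev w := eq_of (by
      rw [mul_val, ← t.1, toM_mm, ← mul_val, ← ev_val]; rfl)
    refine ord_ev t.2 ▸ orderOf_dvd_natCard N ?_
    rw [show ev c = ev g * (ev w * (ev g)⁻¹ * (ev w)⁻¹) by rw [← mul_assoc, ← mul_assoc, ← e]; group]
    exact mul_mem m (hN.conj_mem _ (inv_mem m) _)
  obtain ⟨-, -, -, o7, o11, o19, o3, o5⟩ := os
  obtain ⟨t2, t3, t5, t11, t19, t7⟩ := trs
  have d7 : 7 ∣ Nat.card N := by
    obtain ⟨p, hp, d⟩ := Nat.exists_prime_and_dvd (fun e => h (card_eq_one.1 e))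
    rcases (by decide +kernel : ∀ p ∈ Nat.primeFactorsList 175560, p = 2 ∨ p = 3 ∨ p = 5 ∨ p = 7 ∨ p = 11 ∨ p = 19) p
      ((Nat.mem_primeFactorsList (by norm_num)).2 ⟨hp, d.trans ⟨_, c.symm⟩⟩) with rfl | rfl | rfl | rfl | rfl | rfl
    · by_contra n
      have : N.subgroupOf E = ⊥ := eq_bot_iff.2 fun ⟨_, i, rfl⟩ m => (t2 i).elim (fun e => by subst e; rfl) fun t => (n (st t m)).elim
      have e := relIndex_dvd_index_of_normal N E
      rw [relIndex, this, index_bot, card_E] at e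
      exact absurd (c ▸ mul_dvd_mul d e) (by norm_num)
    exacts [st t3 (mem o3 hp (by norm_num) d), st t5 (mem o5 hp (by norm_num) d), d, st t11 (mem o11 hp (by norm_num) d),
      st t19 (mem o19 hp (by norm_num) d)]
  have x := mem o7 (by norm_num) (by norm_num) d7
  have y := mem o5 (by norm_num) (by norm_num) (st t7 x)
  refine eq_top_iff.2 fun g _ => ?_
  obtain ⟨a, ha, e⟩ := (closure_le (N.map (J1).subtype)).2 (by
    rintro _ (rfl | rfl)
    exacts [⟨_, x, mul_one _⟩, ⟨_, y, mul_one _⟩]) g.2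
  exact Subtype.ext e ▸ ha

end

end CfsgPm.J1
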