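import Mathlib

set_option autoImplicit false

/-! Numerical lemmas for nilpotent permutation groups. -/
namespace CfsgPm
open Nat

def NR (g m : ℕ) : Prop := ∀ p k : ℕ, p.Prime → p ^ k ∣ g → ∃ a, p ^ a ∣ m ∧ p ^ k ∣ (p ^ a)!

theorem NR.split {g m p : ℕ} (h : NR g m) (hg : g ≠ 0) (hm : m ≠ 0) (hp : p.Prime) :
    ∃ a k g' m', g = p ^ k * g' ∧ m = p ^ a * m' ∧ ¬ p ∣ m' ∧ NR g' m' ∧ (p - 1) * k < p ^ a := by
  haveI := Fact.mk hp
  obtain ⟨k, g', n1, rfl⟩ := exists_eq_pow_mul_and_not_dvd hg p hp.ne_one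
  obtain ⟨a, m', n2, rfl⟩ := exists_eq_pow_mul_and_not_dvd hm p hp.ne_one
  refine ⟨a, k, g', m', rfl, rfl, n2, fun q j hq e => ?_, ?_⟩
  · by_cases c : q = p
    · obtain rfl : j = 0 := by_contra fun n => n1 (c ▸ (dvd_pow_self q n).trans e)
      exact ⟨0, by simp⟩
    obtain ⟨b, b1, b2⟩ := h q j hq (e.mul_left _)
    exact ⟨b, (((coprime_primes hq hp).2 c).pow b a).dvd_of_dvd_mul_left b1, b2⟩
  obtain ⟨b, b1, b2⟩ := h p k hp (dvd_mul_right _ _)
  exact ((Nat.mul_le_mul_left _ ((padicValNat_dvd_iff_le (factorial_ne_zero _)).1 b2)).trans_lt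
    (sub_one_mul_padicValNat_factorial_lt_of_ne_zero p (pow_ne_zero _ hp.ne_zero))).trans_le
    (le_of_dvd (pow_pos hp.pos _) ((((hp.coprime_iff_not_dvd).2 n2).pow_left b).dvd_of_dvd_mul_right b1))

theorem NR.prime {g m p : ℕ} (h : NR g m) (hp : p.Prime) (d : p ∣ g) : p ∣ m := by
  obtain ⟨_ | a, a1, a2⟩ := h p 1 hp (by simpa)
  · simpa using a2.trans (one_dvd m)
  exact (dvd_pow_self p a.succ_ne_zero).trans a1

theorem NR.odd (m : ℕ) : ∀ g, NR g m → g ≠ 0 → Odd m → 3 * g ^ 2 ≤ 3 ^ m := by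
  induction m using Nat.strong_induction_on with | _ m ih =>
  intro g h hg o
  by_cases m1 : m = 1
  · obtain rfl : g = 1 := by_contra fun n => (minFac_prime n).not_dvd_one (m1 ▸ h.prime (minFac_prime n) (minFac_dvd g))
    simp [m1]
  have hp := minFac_prime m1
  have d := minFac_dvd m
  have p3 : 3 ≤ m.minFac := hp.two_le.lt_of_ne fun e => (not_even_iff_odd.2 o) (even_iff_two_dvd.2 (e ▸ d))
  obtain ⟨a, k, g', m', rfl, e, n, r, l⟩ := h.split hg o.pos.ne' hp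
  generalize m.minFac = p at *
  subst e
  have o' := (odd_mul.1 o).2
  have a1 : 1 < p ^ a := Nat.one_lt_pow (by rintro rfl; exact n (by simpa using d)) hp.one_lt
  have := ih m' (by nlinarith [o'.pos]) g' r (by rintro rfl; simp at hg) o'
  have t : p ^ 2 ≤ 3 ^ (p - 1) := by
    clear * - p3
    induction p, p3 using Nat.le_induction with
    | base => decide
    | succ p p3 ih => rw [show p + 1 - 1 = p - 1 + 1 by omega, pow_succ 3]; nlinarith
  calc _ = (p ^ 2) ^ k * (3 * g' ^ 2) := by ring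
    _ ≤ (3 ^ (p - 1)) ^ k * 3 ^ m' := Nat.mul_le_mul (Nat.pow_le_pow_left t k) this
    _ ≤ _ := by rw [← pow_mul, ← pow_add]; exact Nat.pow_le_pow_right (by decide) (by nlinarith [o'.pos])

theorem NR.gen {g m : ℕ} (h : NR g m) (hg : g ≠ 0) (hm : m ≠ 0) (n2 : ∀ a, m ≠ 2 ^ a) : 3 * g ^ 2 ≤ 3 ^ m := by
  obtain ⟨a, k, g', m', rfl, rfl, n, r, l⟩ := h.split hg hm prime_two
  have o : Odd m' := not_even_iff_odd.1 (mt even_iff_two_dvd.1 n)
  have := r.odd m' g' (by rintro rfl; simp at hg) o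
  have m3 : 3 ≤ m' := by obtain ⟨j, rfl⟩ := o; by_contra; obtain rfl : j = 0 := by omega
                         exact n2 a (by simp)
  calc _ = (2 ^ 2) ^ k * (3 * g' ^ 2) := by rw [← pow_mul, mul_comm 2, pow_mul]; ring
    _ ≤ (3 ^ 2) ^ k * 3 ^ m' := Nat.mul_le_mul (Nat.pow_le_pow_left (by decide) k) this
    _ ≤ _ := by rw [← pow_mul, ← pow_add]; exact Nat.pow_le_pow_right (by decide) (by nlinarith)

def nilT (m : ℕ) : ℕ := [0, 0, 0, 3, 0, 5, 6, 7, 0, 81, 10, 11, 24, 13, 14, 15].getD m 0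
def nilW (m : ℕ) : ℕ := if m < 16 then [1, 0, 0, 3, 0, 5, 9, 7, 15, 81, 25, 45, 243, 75, 405, 729].getD m 0 else sqrt (3 ^ (m - 1))

set_option synthInstance.maxSize 2000 in
theorem nilT1 : ∀ m < 16, m ≠ 0 → (∀ a < 4, m ≠ 2 ^ a) → nilT m ≠ 0 ∧ (∀ n < 16, n + m < 16 → nilT m * nilW n ≤ nilW (n + m)) ∧
    ∀ p < 16, ∀ a < 4, p.Prime → p ^ a ∣ m → ∀ k < 41, p ^ k ∣ (p ^ a)! → p ^ k ∣ nilT m := by decide +kernel

theorem nilW_sq (n : ℕ) : nilW n ^ 2 ≤ 3 ^ n := by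
  by_cases h : n < 16
  · revert n; decide +kernel
  rw [nilW, if_neg h]
  exact (sqrt_le' _).trans (Nat.pow_le_pow_right (by decide) (by omega))

theorem NR.step {g m : ℕ} (h : NR g m) (hg : g ≠ 0) (hm : m ≠ 0) (n2 : ∀ a, m ≠ 2 ^ a) (n : ℕ) : g * nilW n ≤ nilW (n + m) := by
  by_cases c : n + m < 16
  · obtain ⟨t0, t1, t2⟩ := nilT1 m (by omega) hm fun a _ => n2 a
    refine (Nat.mul_le_mul_right _ (le_of_dvd (Nat.pos_of_ne_zero t0) ((dvd_iff_prime_pow_dvd_dvd _ _).2 fun p k hp e => ?_))).trans (t1 n (by omega) c)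
    obtain ⟨_ | a, a1, a2⟩ := h p k hp e
    · exact a2.trans (one_dvd _)
    have l : p ^ (a + 1) < 16 := by have := le_of_dvd (Nat.pos_of_ne_zero hm) a1; omega
    refine t2 p ((le_self_pow a.succ_ne_zero p).trans_lt l) _ ((Nat.pow_lt_pow_iff_right one_lt_two).1 ((Nat.pow_le_pow_left hp.two_le _).trans_lt l)) hp a1 k
      ((Nat.pow_lt_pow_iff_right one_lt_two).1 ((Nat.pow_le_pow_left hp.two_le _).trans_lt ((le_of_dvd (factorial_pos _) a2).trans_lt
      ((factorial_le (le_of_lt_succ l)).trans_lt (by decide))))) a2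
  have := Nat.mul_le_mul (h.gen hg hm n2) (nilW_sq n)
  rw [nilW.eq_def (n + m), if_neg c, le_sqrt', ← Nat.mul_le_mul_left_iff three_pos, ← pow_succ', show (n + m - 1).succ = m + n by omega, pow_add]
  nlinarith

/-- the order of a Sylow 2-subgroup of the symmetric group -/
def s2 (n : ℕ) : ℕ := 2 ^ padicValNat 2 n !
def nilH (n : ℕ) : ℕ := if n % 4 = 3 then 3 * s2 (n - 3) else s2 n

theorem s2_mul (a b : ℕ) : s2 a * s2 b ≤ s2 (a + b) := by
  rw [s2, s2, ← pow_add, ← padicValNat.mul (factorial_ne_zero _) (factorial_ne_zero _)]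
  exact Nat.pow_le_pow_right two_pos ((padicValNat_dvd_iff_le (factorial_ne_zero _)).1 (pow_padicValNat_dvd.trans (factorial_mul_factorial_dvd_factorial_add a b)))

theorem s2_succ (n : ℕ) : s2 (n + 1) = 2 ^ padicValNat 2 (n + 1) * s2 n := by
  rw [s2, factorial_succ, padicValNat.mul n.succ_ne_zero (factorial_ne_zero _), pow_add, s2]

theorem s2_three (n : ℕ) : (n % 4 = 0 → s2 (n + 3) = 2 * s2 n) ∧ (n % 4 ≠ 0 → 4 * s2 n ≤ s2 (n + 3)) := by
  have e : s2 (n + 3) = 2 ^ padicValNat 2 ((n + 3) * (n + 2) * (n + 1)) * s2 n := by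
    rw [s2_succ, s2_succ, s2_succ, padicValNat.mul, padicValNat.mul] <;> first | positivity | ring
  have l : ∀ k, 2 ^ k ∣ (n + 3) * (n + 2) * (n + 1) ↔ k ≤ padicValNat 2 ((n + 3) * (n + 2) * (n + 1)) := fun k => padicValNat_dvd_iff_le (by positivity)
  have d : ∀ k, k ∣ 4 → (k ∣ (n + 3) * (n + 2) * (n + 1) ↔ k ∣ (n % 4 + 3) * (n % 4 + 2) * (n % 4 + 1)) := fun k hk =>
    ((((mod_modEq n 4).add_right 3).mul ((mod_modEq n 4).add_right 2)).mul ((mod_modEq n 4).add_right 1)).symm.dvd_iff hk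
  refine ⟨fun h => ?_, fun h => e ▸ Nat.mul_le_mul_right _ (Nat.pow_le_pow_right two_pos ((l 2).1 ((d 4 dvd_rfl).2 ?_)))⟩
  · have a := (l 1).1 ((d 2 (by decide)).2 (by rw [h]; decide))
    have b := mt (l 2).2 (mt (d 4 dvd_rfl).1 (by rw [h]; decide))
    rw [e, show padicValNat 2 _ = 1 by omega, pow_one]
  have := mod_lt n four_pos
  interval_cases n % 4 <;> simp at h ⊢

theorem s2_pos (n : ℕ) : 0 < s2 n := Nat.two_pow_pos _

theorem s2_le_H (n : ℕ) : s2 n ≤ nilH n ∧ (n % 4 = 3 → s2 n < nilH n) := by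
  unfold nilH
  split_ifs with h
  · have := (s2_three (n - 3)).1 (by omega)
    have := s2_pos (n - 3)
    rw [show n - 3 + 3 = n by omega] at *
    omega
  exact ⟨le_rfl, fun e => (h e).elim⟩

theorem s2_big (m : ℕ) : 4 * 3 ^ (m + 15) < s2 (m + 16) ^ 2 := by
  induction m using Nat.strong_induction_on with | _ m ih =>
  by_cases h : m < 8
  · clear ih; revert m; decide +kernel
  obtain ⟨m, rfl⟩ := Nat.exists_eq_add_of_le' (not_lt.1 h)
  have a := Nat.pow_le_pow_left (s2_mul (m + 16) 8) 2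
  rw [show s2 8 = 128 by decide +kernel] at a
  rw [show m + 8 + 15 = m + 15 + 8 by ring, show m + 8 + 16 = m + 16 + 8 by ring, pow_add]
  nlinarith [ih m (by omega)]

theorem nilW_big (m : ℕ) (h : 16 ≤ m) : 2 * nilW m < s2 m := by
  obtain ⟨m, rfl⟩ := Nat.exists_eq_add_of_le' h
  have : nilW (m + 16) ^ 2 ≤ 3 ^ (m + 15) := by rw [nilW, if_neg (by omega)]; exact sqrt_le' _
  exact lt_of_pow_lt_pow_left₀ 2 (Nat.zero_le _) (by nlinarith [s2_big m])

theorem nilN1 (f m : ℕ) : s2 f * nilW m ≤ nilH (f + m) ∧ ((f + m) % 4 = 3 → m ≠ 3 → s2 f * nilW m < nilH (f + m)) := by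
  by_cases h : m = 3
  · subst h
    refine ⟨?_, fun _ h => (h rfl).elim⟩
    have := (s2_three f).2
    rw [show nilW 3 = 3 from rfl, nilH]
    split_ifs with c
    · simp [mul_comm]
    omega
  have : nilW m ≤ s2 m := by
    by_cases c : m < 16
    · exact (by decide +kernel : ∀ m < 16, m ≠ 3 → nilW m ≤ s2 m) m c h
    have := nilW_big m (not_lt.1 c); omega
  have := (Nat.mul_le_mul_left _ this).trans (s2_mul f m)
  exact ⟨this.trans (s2_le_H _).1, fun e _ => this.trans_lt ((s2_le_H _).2 e)⟩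

set_option synthInstance.maxSize 2000 in
theorem nilN2 (f m : ℕ) (hf : f < 2) (h : f + m ∉ [0, 1, 3, 5, 6, 9]) : 2 * (s2 f * nilW m) < nilH (f + m) := by
  by_cases c : m < 16
  · revert f m; suffices ∀ f < 2, ∀ m < 16, f + m ∉ [0, 1, 3, 5, 6, 9] → 2 * (s2 f * nilW m) < nilH (f + m) from fun f m a b c => this f a m c b
    decide +kernel
  nlinarith [nilW_big m (not_lt.1 c), s2_mul f m, (s2_le_H (f + m)).1, s2_pos f]

end CfsgPm
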