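import Cfsg.Agent.H3.Ip
import Cfsg.Agent.H4.Lift

set_option autoImplicit false

/-! Extensions with the same prime graph. -/
namespace CfsgPm
open Cfsg CfsgH3 Subgroup SemidirectProduct Finset

theorem pg_sd {V G : Type} [CommGroup V] [Finite V] [Group G] [Finite G] (φ : G →* MulAut V) {p r : ℕ} (hp : p.Prime)
    (hV : ∀ v : V, v ^ p = 1) (fpf : ∀ c v, orderOf c = r → φ c v = v → v = 1) (pG : p ∣ Nat.card G)
    (ex : ∀ s : ℕ, s.Prime → s ≠ p → s ≠ r → s ∣ Nat.card G → ∃ g : G, orderOf g = p * s) :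
    (∀ s : ℕ, s.Prime → (s ∣ Nat.card G ↔ s ∣ Nat.card (V ⋊[φ] G))) ∧
      ∀ s u : ℕ, s.Prime → u.Prime → s ≠ u → ((∃ g : G, orderOf g = s * u) ↔ ∃ g : V ⋊[φ] G, orderOf g = s * u) := by
  haveI : Finite (V ⋊[φ] G) := Finite.of_equiv _ equivProd.symm
  have k : ∀ h : V ⋊[φ] G, h ^ orderOf h.right = inl (h ^ orderOf h.right).left := fun h => by
    refine SemidirectProduct.ext rfl ?_
    rw [right_inl, ← rightHom_eq_right, map_pow]; exact pow_orderOf_eq_one _
  have d1 : ∀ h : V ⋊[φ] G, orderOf h.right ∣ orderOf h := fun h => orderOf_map_dvd rightHom h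
  have d2 : ∀ h : V ⋊[φ] G, orderOf h ∣ orderOf h.right * p := fun h =>
    orderOf_dvd_of_pow_eq_one (by rw [pow_mul, k, ← map_pow, hV, map_one])
  have d3 : ∀ (h : V ⋊[φ] G) (s : ℕ), s.Prime → s ≠ p → s ∣ orderOf h → s ∣ orderOf h.right := fun h s hs n d =>
    ((Nat.coprime_primes hs hp).2 n).dvd_of_dvd_mul_right (d.trans (d2 h))
  have key : ∀ (s : ℕ) (h : V ⋊[φ] G), s.Prime → s ≠ p → orderOf h = p * s → ∃ g : G, orderOf g = p * s := fun s h hs n o => by
    have a := d3 h s hs n (o ▸ dvd_mul_left _ _)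
    by_cases e : s = r
    · obtain ⟨m, hm⟩ := a
      have := d1 h
      rw [o, hm, mul_comm p] at this
      rcases (Nat.dvd_prime hp).1 (Nat.dvd_of_mul_dvd_mul_left hs.pos this) with rfl | rfl
      · rw [mul_one] at hm
        have c : h * h ^ orderOf h.right = h ^ orderOf h.right * h := (Commute.self_pow h _).eq
        rw [k] at c
        have c := congrArg SemidirectProduct.left c
        simp only [mul_left, left_inl, right_inl, map_one, MulAut.one_apply] at c
        have := fpf _ _ (hm.trans e) (mul_left_cancel (c.trans (mul_comm _ _)))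
        have := orderOf_dvd_of_pow_eq_one ((k h).trans (by rw [this, map_one]))
        rw [o, hm] at this
        exact absurd (Nat.le_of_dvd hs.pos this) (by nlinarith [hp.two_le, hs.two_le])
      · exact ⟨_, hm.trans (mul_comm _ _)⟩
    · exact ex s hs n e (a.trans (orderOf_dvd_natCard _))
  refine ⟨fun s hs => ⟨fun d => d.trans (card_dvd_of_injective inr inr_injective), fun d => ?_⟩,
    fun s u hs hu n => ⟨fun ⟨g, e⟩ => ⟨inr g, (orderOf_injective inr inr_injective g).trans e⟩, fun ⟨h, o⟩ => ?_⟩⟩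
  · haveI := Fact.mk hs
    obtain ⟨h, o⟩ := exists_prime_orderOf_dvd_card' s d
    by_cases e : s = p
    · exact e ▸ pG
    · exact (d3 h s hs e o.symm.dvd).trans (orderOf_dvd_natCard _)
  · by_cases a : s = p
    · subst a; exact key u h hu n.symm o
    by_cases b : u = p
    · subst b; rw [mul_comm] at o ⊢; exact key s h hs n o
    exact ⟨h.right, Nat.dvd_antisymm (o ▸ d1 h) (((Nat.coprime_primes hs hu).2 n).mul_dvd_of_dvd_of_dvd
      (d3 h s hs a (o ▸ dvd_mul_right _ _)) (d3 h u hu b (o ▸ dvd_mul_left _ _)))⟩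

theorem pg_fun {G : Type} [Group G] [Finite G] {p r : ℕ} (hp : p.Prime) (hr : ¬ p ∣ r) (f : G → ZMod p) (f0 : f ≠ 0)
    (hf : ∀ x c, orderOf c = r → ∑ i ∈ range r, f (x * c ^ i) = 0) (pG : p ∣ Nat.card G)
    (ex : ∀ s : ℕ, s.Prime → s ≠ p → s ≠ r → s ∣ Nat.card G → ∃ g : G, orderOf g = p * s) (N : ℕ) :
    ∃ (H : Type) (_ : Group H) (_ : Finite H), N < Nat.card H ∧ (∀ s : ℕ, s.Prime → (s ∣ Nat.card G ↔ s ∣ Nat.card H)) ∧
      ∀ s u : ℕ, s.Prime → u.Prime → s ≠ u → ((∃ g : G, orderOf g = s * u) ↔ ∃ g : H, orderOf g = s * u) := by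
  haveI := Fact.mk hp
  let V : AddSubgroup (Fin (N + 1) → G → ZMod p) :=
    { carrier := {v | ∀ j x c, orderOf c = r → ∑ i ∈ range r, v j (x * c ^ i) = 0}
      add_mem' := fun {u v} hu hv j x c h => by simp only [Pi.add_apply, sum_add_distrib, hu j x c h, hv j x c h, add_zero]
      zero_mem' := fun _ _ _ _ => by simp
      neg_mem' := fun {u} hu j x c h => by simp only [Pi.neg_apply, sum_neg_distrib, hu j x c h, neg_zero] }
  letI : DistribMulAction G V :=
    { smul := fun a v => ⟨fun j x => v.1 j (x * a), fun j x c h => by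
        have := v.2 j (x * a) (a⁻¹ * c * a) (by rw [← h]; simpa using (MulAut.conj a⁻¹).orderOf_eq c)
        simpa only [inv_mul_cancel_left, mul_assoc, show ∀ i, (a⁻¹ * (c * a)) ^ i = a⁻¹ * (c ^ i * a) from fun i => by
          simpa [mul_assoc] using conj_pow (a := a⁻¹) (b := c) (i := i), mul_inv_cancel_left] using this⟩
      one_smul := fun v => Subtype.ext (funext₂ fun j x => congrArg (v.1 j) (mul_one x))
      mul_smul := fun a b v => Subtype.ext (funext₂ fun j x => congrArg (v.1 j) (mul_assoc x a b).symm)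
      smul_zero := fun _ => rfl
      smul_add := fun _ _ _ => rfl }
  let φ := ((MulAutMultiplicative V).symm.toMonoidHom.comp (DistribMulAction.toAddAut G V))
  haveI : Finite (Multiplicative V ⋊[φ] G) := Finite.of_equiv _ equivProd.symm
  refine ⟨Multiplicative V ⋊[φ] G, inferInstance, inferInstance, ?_, pg_sd φ hp (fun v => (show p • v.toAdd = 0 from
    Subtype.ext (funext₂ fun j x => by simp))) (fun c v o e => ?_) pG ex⟩
  · refine lt_of_lt_of_le (by simp) (Nat.card_le_card_of_injective (fun k : Fin (N + 1) => (inl (Multiplicative.ofAdd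
      (⟨Pi.single k f, fun j x c o => by by_cases e : j = k <;> simp [e, hf x c o]⟩ : V)) : Multiplicative V ⋊[φ] G)) fun k l e => ?_)
    by_contra n
    have := congrFun (congrArg Subtype.val (Multiplicative.ofAdd.injective (inl_injective e))) k
    exact f0 (by simpa [n] using this)
  · have e : c ∈ MulAction.stabilizer G v.toAdd := e
    refine Subtype.ext (funext₂ fun j x => ?_)
    have := v.toAdd.2 j x c o
    have k : ∀ i, v.toAdd.1 j (x * c ^ i) = v.toAdd.1 j x := fun i =>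
      congrFun₂ (congrArg Subtype.val ((MulAction.stabilizer G v.toAdd).pow_mem e i)) j x
    simp only [k, sum_const, card_range, nsmul_eq_mul] at this
    exact (mul_eq_zero.1 this).resolve_left (mt (ZMod.natCast_eq_zero_iff _ _).1 hr)

theorem sum_coset {G : Type*} [Group G] {χ : G → ℂ} (h : IsCharacter G χ) {c : G} {r : ℕ} (hc : c ^ r = 1)
    (h0 : ∑ i ∈ range r, χ (c ^ i) = 0) (x : G) : ∑ i ∈ range r, χ (x * c ^ i) = 0 := by
  obtain ⟨n, ρ, rfl⟩ := h
  rcases eq_or_ne r 0 with rfl | r0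
  · simp
  have r0 : (r : ℂ) ≠ 0 := Nat.cast_ne_zero.2 r0
  set E := ∑ i ∈ range r, ρ c ^ i with hE
  have a : ρ c * E = E := by
    have := mul_geom_sum (ρ c) r
    rwa [← map_pow, hc, map_one, sub_self, sub_mul, one_mul, sub_eq_zero] at this
  have b : ∀ j, ρ c ^ j * E = E := fun j => by
    induction j with
    | zero => simp
    | succ j ih => rw [pow_succ, mul_assoc, a, ih]
  have i : IsIdempotentElem ((r : ℂ)⁻¹ • E) := by
    have : E * E = (r : ℂ) • E := by
      conv_lhs => rw [hE, sum_mul, ← hE]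
      simp [b, Nat.cast_smul_eq_nsmul]
    rw [IsIdempotentElem, smul_mul_smul_comm, this, smul_smul, inv_mul_cancel_right₀ r0]
  have z : E = 0 := by
    have := LinearMap.IsIdempotentElem.eq_zero_of_trace_eq_zero i (by
      rw [map_smul, hE, map_sum]; simp only [← map_pow]; exact (congrArg _ h0).trans (smul_zero _))
    exact (smul_eq_zero.1 this).resolve_left (inv_ne_zero r0)
  have := congrArg (fun T => LinearMap.trace ℂ _ (ρ x * T)) (hE.symm.trans z)
  simpa only [mul_sum, map_sum, ← map_pow, ← map_mul, mul_zero, map_zero, Representation.character] using this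

theorem ex_add {K : Type*} [Field K] (p : ℕ) [Fact p.Prime] [CharP K p] {a : K} (h : a ≠ 0) : ∃ l : K →+ ZMod p, l a ≠ 0 := by
  letI := ZMod.algebra K p
  obtain ⟨l, hl⟩ := not_forall.1 (mt (Module.forall_dual_apply_eq_zero_iff (ZMod p) a).1 h)
  exact ⟨l.toAddMonoidHom, hl⟩

theorem pg_char {G : Type} [Group G] [Finite G] {p r d : ℕ} (hp : p.Prime) (hr : ¬ p ∣ r) {χ : G → ℂ} (h : IsCharacter G χ)
    (h1 : χ 1 = d) (hd : ¬ p ∣ d) (h0 : ∀ c, orderOf c = r → ∑ i ∈ range r, χ (c ^ i) = 0) (pG : p ∣ Nat.card G)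
    (ex : ∀ s : ℕ, s.Prime → s ≠ p → s ≠ r → s ∣ Nat.card G → ∃ g : G, orderOf g = p * s) (N : ℕ) :
    ∃ (H : Type) (_ : Group H) (_ : Finite H), N < Nat.card H ∧ (∀ s : ℕ, s.Prime → (s ∣ Nat.card G ↔ s ∣ Nat.card H)) ∧
      ∀ s u : ℕ, s.Prime → u.Prime → s ≠ u → ((∃ g : G, orderOf g = s * u) ↔ ∃ g : H, orderOf g = s * u) := by
  haveI := Fact.mk hp
  obtain ⟨M, hM⟩ := CfsgH4.exists_isPModular p
  haveI := hM.2.1
  haveI := CfsgH4.charP_Res hp hM.2.2
  obtain ⟨l, hl⟩ := ex_add p (mt (CfsgH4.red_natCast_eq_zero_iff (M := M)).1 hd)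
  refine pg_fun hp hr (fun g => l (CfsgH4.red M (χ g))) (fun e => hl (h1 ▸ congrFun e 1)) (fun x c o => ?_) pG ex N
  rw [← map_sum, ← CfsgH4.red_sum _ _ fun i _ => CfsgH4.mem_Loc_of_isIntegral M (h.isIntegral _),
    sum_coset h (o ▸ pow_orderOf_eq_one c) (h0 c o)]
  simp

end CfsgPm
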