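import Mathlib
import Cfsg.Prelude.Def_Sporadic_a

set_option autoImplicit false

namespace CfsgPm

open Finset Cfsg

variable {α : Type*} [Fintype α] [DecidableEq α] {L : Set (Finset α)}

/-- No three points of `S` are collinear. -/
def Arc (L : Set (Finset α)) (S : Finset α) : Prop := ∀ l ∈ L, #(l ∩ S) ≤ 2

open Classical in
/-- The lines through `a`. -/
noncomputable def Pen (L : Set (Finset α)) (a : α) : Finset (Finset α) := univ.filter fun l => l ∈ L ∧ a ∈ l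

open Classical in
/-- The points extending an arc. -/
noncomputable def Ext (L : Set (Finset α)) (S : Finset α) : Finset α := univ.filter fun x => x ∉ S ∧ Arc L (insert x S)

open Classical in
/-- The arcs of size `k`. -/
noncomputable def Arcs (L : Set (Finset α)) (k : ℕ) : Finset (Finset α) := univ.filter fun S => #S = k ∧ Arc L S

theorem mem_Pen {a : α} {l : Finset α} : l ∈ Pen L a ↔ l ∈ L ∧ a ∈ l := by simp [Pen]
theorem mem_Ext {S : Finset α} {x : α} : x ∈ Ext L S ↔ x ∉ S ∧ Arc L (insert x S) := by simp [Ext]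
theorem mem_Arcs {k : ℕ} {S : Finset α} : S ∈ Arcs L k ↔ #S = k ∧ Arc L S := by simp [Arcs]

omit [Fintype α] in
theorem Arc.mono {S T : Finset α} (h : Arc L T) (e : S ⊆ T) : Arc L S := fun l hl => (card_le_card (inter_subset_inter_left e)).trans (h l hl)

variable (hL : IsSteinerSystem 2 5 L)
include hL

omit [Fintype α] in
theorem ex2 {x y : α} (h : x ≠ y) : ∃ l ∈ L, x ∈ l ∧ y ∈ l := by
  simpa [insert_subset_iff] using (hL.2 {x, y} (card_pair h)).exists

omit [Fintype α] in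
theorem un2 {l m : Finset α} (hl : l ∈ L) (hm : m ∈ L) {x y : α} (h : x ≠ y) (a : x ∈ l) (b : y ∈ l) (c : x ∈ m) (d : y ∈ m) : l = m :=
  (hL.2 {x, y} (card_pair h)).unique ⟨hl, by simp [insert_subset_iff, *]⟩ ⟨hm, by simp [insert_subset_iff, *]⟩

theorem pencil {a : α} {S : Finset α} (ha : a ∉ S) : ∑ l ∈ Pen L a, #(l ∩ S) = #S := by
  rw [← card_biUnion fun l hl m hm n => disjoint_left.2 fun x h h' => n (un2 hL (mem_Pen.1 hl).1 (mem_Pen.1 hm).1
    (fun e : a = x => ha (e ▸ (mem_inter.1 h).2)) (mem_Pen.1 hl).2 (mem_inter.1 h).1 (mem_Pen.1 hm).2 (mem_inter.1 h').1)]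
  congr 1
  ext x
  simp only [mem_biUnion, mem_Pen, mem_inter]
  exact ⟨fun ⟨_, h⟩ => h.2.2, fun h => (ex2 hL fun e : a = x => ha (e ▸ h)).imp fun _ k => ⟨⟨k.1, k.2.1⟩, k.2.2, h⟩⟩

variable (hα : Fintype.card α = 21)
include hα

theorem card_pen (a : α) : #(Pen L a) = 5 := by
  have := pencil hL (a := a) (S := {a}ᶜ) (by simp)
  rw [sum_congr rfl (g := fun _ => 4) fun l hl => by
    rw [← sdiff_eq_inter_compl, sdiff_singleton_eq_erase, card_erase_of_mem (mem_Pen.1 hl).2, hL.1 l (mem_Pen.1 hl).1], card_compl, hα] at this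
  simp at this; omega

theorem pen_one {a : α} {S : Finset α} (ha : a ∉ S) (hS : #S = 5) (h : ∀ l ∈ Pen L a, #(l ∩ S) ≤ 1) : ∀ l ∈ Pen L a, #(l ∩ S) = 1 :=
  (sum_eq_sum_iff_of_le h).1 (by rw [pencil hL ha, hS, ← card_eq_sum_ones, card_pen hL hα])

theorem meet {l m : Finset α} (hl : l ∈ L) (hm : m ∈ L) : ∃ x, x ∈ m ∧ x ∈ l := by
  by_cases e : m ⊆ l
  · exact (card_pos.1 (hL.1 m hm ▸ Nat.succ_pos 4 : 0 < #m)).imp fun _ h => ⟨h, e h⟩
  obtain ⟨a, h1, h2⟩ := not_subset.1 e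
  simpa [Finset.Nonempty] using card_pos.1 (pen_one hL hα h2 (hL.1 l hl) (fun k hk => card_le_one.2 fun x hx y hy => by_contra fun n => h2
    (un2 hL (mem_Pen.1 hk).1 hl n (mem_inter.1 hx).1 (mem_inter.1 hy).1 (mem_inter.1 hx).2 (mem_inter.1 hy).2 ▸ (mem_Pen.1 hk).2))
    m (mem_Pen.2 ⟨hm, h1⟩)).ge

theorem tangent {S t : Finset α} (hS : Arc L S) (h4 : #S ≤ 4) {a : α} (ht : t ∈ L) (e : t ∩ S = {a}) :
    #(t ∩ Ext L S) + (#S - 1).choose 2 = 4 := by
  classical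
  have m : ∀ x, x ∈ t ∧ x ∈ S ↔ x = a := fun x => by simpa using Finset.ext_iff.1 e x
  have ha := (m a).2 rfl
  have := card_filter_add_card_filter_not (s := t.erase a) fun x => Arc L (insert x S)
  rw [card_erase_of_mem ha.1, hL.1 t ht] at this
  have K : ∀ P ∈ powersetCard 2 (S.erase a), ∀ l ∈ L, P ⊆ l → P = l ∩ S := fun P hP l hl h => eq_of_subset_of_card_le
    (subset_inter h ((mem_powersetCard.1 hP).1.trans (erase_subset _ _))) ((hS l hl).trans (mem_powersetCard.1 hP).2.ge)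
  have c := card_mul_eq_card_mul (s := powersetCard 2 (S.erase a)) (t := (t.erase a).filter fun x => ¬ Arc L (insert x S))
    (fun P x => ∃ l ∈ L, P ⊆ l ∧ x ∈ l) (m := 1) (n := 1) (fun P hP => by
      obtain ⟨l, ⟨h1, h2⟩, h3⟩ := hL.2 P (mem_powersetCard.1 hP).2
      obtain ⟨x, x1, x2⟩ := meet hL hα h1 ht
      have n : a ∉ l := fun h => notMem_erase a S ((mem_powersetCard.1 hP).1 (K P hP l h1 h2 ▸ mem_inter.2 ⟨h, ha.2⟩))
      have xa : x ≠ a := fun e => n (e ▸ x2)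
      refine card_eq_one.2 ⟨x, eq_singleton_iff_unique_mem.2 ⟨mem_filter.2 ⟨mem_filter.2 ⟨mem_erase.2 ⟨xa, x1⟩, fun h => ?_⟩, l, h1, h2, x2⟩,
        fun y hy => by_contra fun c => n ?_⟩⟩
      · have := h l h1
        rw [inter_insert_of_mem x2, ← K P hP l h1 h2, card_insert_of_notMem fun h => xa ((m x).1 ⟨x1, mem_of_mem_erase ((mem_powersetCard.1 hP).1 h)⟩),
          (mem_powersetCard.1 hP).2] at this
        omega
      · obtain ⟨y1, k, k1, k2, k3⟩ := mem_filter.1 hy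
        exact un2 hL ht h1 c (mem_of_mem_erase (mem_filter.1 y1).1) x1 (h3 k ⟨k1, k2⟩ ▸ k3) x2 ▸ ha.1) fun x hx => by
      obtain ⟨x1, x2⟩ := mem_filter.1 hx
      obtain ⟨x1, x3⟩ := mem_erase.1 x1
      obtain ⟨l, h1, h2⟩ : ∃ l ∈ L, 2 < #(l ∩ insert x S) := by simpa [Arc] using x2
      have xl : x ∈ l := by_contra fun n => by rw [inter_insert_of_notMem n] at h2; exact h2.not_ge (hS l h1)
      rw [inter_insert_of_mem xl] at h2
      have h3 : #(l ∩ S) = 2 := by have := card_insert_le x (l ∩ S); have := hS l h1; omega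
      have hP : l ∩ S ∈ powersetCard 2 (S.erase a) := mem_powersetCard.2 ⟨fun y hy => mem_erase.2 ⟨fun c => by
        rw [un2 hL h1 ht x1 xl (c ▸ (mem_inter.1 hy).1) x3 ha.1, e] at h3; simp at h3, (mem_inter.1 hy).2⟩, h3⟩
      refine card_eq_one.2 ⟨l ∩ S, eq_singleton_iff_unique_mem.2 ⟨mem_filter.2 ⟨hP, l, h1, inter_subset_left, xl⟩, fun Q hQ => ?_⟩⟩
      obtain ⟨q1, k, k1, k2, k3⟩ := mem_filter.1 hQ
      obtain ⟨b, hb⟩ : (Q ∩ (l ∩ S)).Nonempty := card_pos.1 (by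
        have := card_union_add_card_inter Q (l ∩ S)
        have := card_le_card (union_subset (mem_powersetCard.1 q1).1 (mem_powersetCard.1 hP).1)
        rw [card_erase_of_mem ha.2] at this
        have := (mem_powersetCard.1 q1).2
        omega)
      simp only [mem_inter] at hb
      rw [K Q q1 k k1 k2, un2 hL k1 h1 (fun c : x = b => x1 ((m x).1 ⟨x3, c ▸ hb.2.2⟩)) k3 (k2 hb.1) xl hb.2.1]
  rw [card_powersetCard, card_erase_of_mem ha.2, mul_one, mul_one] at c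
  rw [c]
  refine Eq.trans ?_ this
  congr 2
  ext x
  simp only [mem_inter, mem_Ext, mem_filter, mem_erase, Ne, ← m]
  tauto

theorem pen_ext {S l : Finset α} (hS : Arc L S) (h4 : #S ≤ 4) {a : α} (ha : a ∈ S) (hl : l ∈ Pen L a) :
    #(l ∩ Ext L S) + (4 - (#S - 1).choose 2) * #(l ∩ S.erase a) = 4 - (#S - 1).choose 2 := by
  obtain ⟨h1, h2⟩ := mem_Pen.1 hl
  have m := mem_inter.2 ⟨h2, ha⟩
  rw [inter_erase, card_erase_of_mem m]
  by_cases c : #(l ∩ S) ≤ 1
  · have := tangent hL hα hS h4 h1 (eq_singleton_iff_unique_mem.2 ⟨m, fun x hx => card_le_one.1 c x hx a m⟩)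
    rw [Nat.sub_eq_zero_of_le c]; omega
  rw [show #(l ∩ S) = 2 by have := hS l h1; omega, card_eq_zero.2 (eq_empty_of_forall_notMem fun x hx => ?_)]
  · simp
  obtain ⟨x1, x2⟩ := mem_inter.1 hx
  have := (mem_Ext.1 x2).2 l h1
  rw [inter_insert_of_mem x1, card_insert_of_notMem fun h => (mem_Ext.1 x2).1 (mem_inter.1 h).2] at this
  omega

theorem card_ext {S : Finset α} (hS : Arc L S) (h4 : #S ≤ 4) (h : S.Nonempty) :
    #(Ext L S) + (4 - (#S - 1).choose 2) * (#S - 1) = 5 * (4 - (#S - 1).choose 2) := by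
  obtain ⟨a, ha⟩ := h
  have := sum_congr rfl fun l hl => pen_ext hL hα hS h4 ha hl
  rwa [sum_add_distrib, ← mul_sum, pencil hL fun h => (mem_Ext.1 h).1 ha, pencil hL (notMem_erase a S), card_erase_of_mem ha, sum_const,
    card_pen hL hα] at this

theorem hyp_uniq {S : Finset α} (hS : S ∈ Arcs L 4) : ∃! H, H ∈ Arcs L 6 ∧ S ⊆ H := by
  obtain ⟨h4, hS⟩ := mem_Arcs.1 hS
  have c := card_ext hL hα hS h4.le (card_pos.1 (by omega))
  rw [h4] at c
  norm_num at c
  have d : Disjoint S (Ext L S) := disjoint_right.2 fun x h => (mem_Ext.1 h).1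
  have k : #(S ∪ Ext L S) = 6 := by rw [card_union_of_disjoint d]; omega
  refine ⟨S ∪ Ext L S, ⟨mem_Arcs.2 ⟨k, fun l hl => ?_⟩, subset_union_left⟩, fun H ⟨h1, h2⟩ => eq_of_subset_of_card_le (fun x hx =>
    mem_union.2 (or_iff_not_imp_left.2 fun n => mem_Ext.2 ⟨n, (mem_Arcs.1 h1).2.mono (insert_subset hx h2)⟩)) (k.trans (mem_Arcs.1 h1).1.symm).le⟩
  rw [inter_union_distrib_left]
  refine (card_union_le _ _).trans ?_
  rcases (l ∩ S).eq_empty_or_nonempty with e | ⟨a, ha⟩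
  · have := card_le_card (inter_subset_right (s₁ := l) (s₂ := Ext L S))
    rw [e, card_empty]; omega
  have := pen_ext hL hα hS h4.le (mem_inter.1 ha).2 (mem_Pen.2 ⟨hl, (mem_inter.1 ha).1⟩)
  rw [h4, inter_erase, card_erase_of_mem ha] at this
  have := card_pos.2 ⟨a, ha⟩
  norm_num at *
  omega

omit hL hα in
theorem arcs_mul {j k m : ℕ} (h : ∀ S ∈ Arcs L j, #((Arcs L k).filter (S ⊆ ·)) = m) : #(Arcs L j) * m = #(Arcs L k) * k.choose j :=
  card_mul_eq_card_mul (fun S T : Finset α => S ⊆ T) h fun T hT => by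
    rw [← (mem_Arcs.1 hT).1, ← card_powersetCard]
    congr 1
    ext S
    simp only [bipartiteBelow, mem_filter, mem_Arcs, mem_powersetCard]
    exact ⟨fun h => ⟨h.2, h.1.1⟩, fun h => ⟨⟨h.2, (mem_Arcs.1 hT).2.mono h.1⟩, h.1⟩⟩

omit hL hα in
theorem arcs_succ {j : ℕ} {S : Finset α} (hS : S ∈ Arcs L j) : #((Arcs L (j + 1)).filter (S ⊆ ·)) = #(Ext L S) := by
  refine (card_bij (fun x _ => insert x S) (fun x hx => mem_filter.2 ⟨mem_Arcs.2 ⟨by
    rw [card_insert_of_notMem (mem_Ext.1 hx).1, (mem_Arcs.1 hS).1], (mem_Ext.1 hx).2⟩, subset_insert _ _⟩)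
    (fun x hx y _ e => (insert_inj (mem_Ext.1 hx).1).1 e) fun T hT => ?_).symm
  obtain ⟨h1, h2⟩ := mem_filter.1 hT
  obtain ⟨x, h3, rfl⟩ := exists_eq_insert_iff.2 ⟨h2, by rw [(mem_Arcs.1 hS).1, (mem_Arcs.1 h1).1]⟩
  exact ⟨x, mem_Ext.2 ⟨h3, (mem_Arcs.1 h1).2⟩, rfl⟩

theorem card_arcs : #(Arcs L 4) = 2520 ∧ #(Arcs L 6) = 168 := by
  have h2 : #(Arcs L 2) = 210 := by
    rw [show Arcs L 2 = powersetCard 2 univ from Finset.ext fun S => by
      simpa [mem_Arcs, Arc] using fun h l _ => (card_le_card inter_subset_right).trans h.le, card_powersetCard, card_univ, hα]; rfl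
  have k : ∀ j, 1 ≤ j → j ≤ 4 → ∀ m, m + (4 - (j - 1).choose 2) * (j - 1) = 5 * (4 - (j - 1).choose 2) →
      #(Arcs L j) * m = #(Arcs L (j + 1)) * (j + 1).choose j := fun j a b m e => arcs_mul fun S hS => by
    obtain ⟨rfl, h⟩ := mem_Arcs.1 hS
    have := card_ext hL hα h b (card_pos.1 a)
    rw [arcs_succ hS]; omega
  have h3 := k 2 (by omega) (by omega) 16 rfl
  have h4 := k 3 (by omega) (by omega) 9 rfl
  have h6 := arcs_mul (L := L) (j := 4) (k := 6) (m := 1) fun S hS => card_eq_one_iff_existsUnique.2 (by simpa using hyp_uniq hL hα hS)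
  norm_num [Nat.choose] at h3 h4 h6
  omega

end CfsgPm
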