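import Mathlib
import Cfsg.Agent.H3.Pl4

set_option autoImplicit false

namespace CfsgPm

open Finset Cfsg Sum

/-- The fifteen synthemes. -/
def syn : Fin 15 → Fin 6 → Fin 6 := ![![1,0,3,2,5,4],![1,0,4,5,2,3],![1,0,5,4,3,2],![2,3,0,1,5,4],![2,4,0,5,1,3],![2,5,0,4,3,1],![3,2,1,0,5,4],
  ![3,4,5,0,1,2],![3,5,4,0,2,1],![4,2,1,5,0,3],![4,3,5,1,0,2],![4,5,3,2,0,1],![5,2,1,4,3,0],![5,3,4,1,2,0],![5,4,3,2,1,0]]

/-- The six totals. -/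
def tot : Fin 6 → List (Fin 15) := ![[0,4,8,10,12],[0,5,7,9,13],[1,3,7,11,12],[1,5,6,10,14],[2,3,8,9,14],[2,4,6,11,13]]

/-- The lines of the model plane. -/
def ln (a b : Fin 6) : Fin 6 ⊕ Fin 15 → Bool
  | inl i => a ≠ b ∧ (i = a ∨ i = b)
  | inr k => if a = b then k ∈ tot a else syn k a = b

/-- Disjoint synthemes. -/
def Dj (k m : Fin 15) : Bool := ∀ i, syn k i ≠ syn m i

theorem syn_all : ∀ a b c d e f : Fin 6, (∀ i, ![a,b,c,d,e,f] i ≠ i ∧ ![a,b,c,d,e,f] (![a,b,c,d,e,f] i) = i) →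
    ∃ k, ∀ i, syn k i = ![a,b,c,d,e,f] i := by decide +kernel

theorem syn_ne : ∀ k, (∀ i, syn k i ≠ i) ∧ ∃ i, 0 ≠ i ∧ syn k 0 ≠ i := by decide +kernel

theorem ln_card : ∀ a b, #{z | ln a b z} = 5 := by decide +kernel

theorem ln_uniq : ∀ a b x, ln a b x → ∀ y, x ≠ y ∧ ln a b y → ∀ a' b', ln a' b' x ∧ ln a' b' y → ∀ z, ln a b z = ln a' b' z := by decide +kernel

theorem tot_ex : ∀ k m, Dj k m → ∃ t, ln t t (inr k) ∧ ln t t (inr m) ∧ ∀ x, Dj x k ∧ Dj x m → ∀ y, Dj y x ∧ Dj y k ∧ Dj y m → ln t t (inr x) := by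
  decide +kernel

end CfsgPm
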