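import Mathlib
import Cfsg.Agent.H3.Pl5

set_option autoImplicit false

namespace CfsgPm

open Finset Cfsg Sum

variable {α : Type*} [Fintype α] [DecidableEq α] {L : Set (Finset α)}

omit [Fintype α] in
theorem three {e : Fin 6 → α} (he : Function.Injective e) (hA : Arc L (univ.image e)) {l : Finset α} (hl : l ∈ L) {i j k : Fin 6}
    (a : e i ∈ l) (b : e j ∈ l) (c : e k ∈ l) (n : i ≠ j) (m : i ≠ k) : j = k := by_contra fun o =>
  (hA l hl).not_gt (two_lt_card_iff.2 ⟨e i, e j, e k, by simp [a], by simp [b], by simp [c], he.ne n, he.ne m, he.ne o⟩)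

variable (hL : IsSteinerSystem 2 5 L) (hα : Fintype.card α = 21)
include hL hα

theorem two {e : Fin 6 → α} (he : Function.Injective e) (hA : Arc L (univ.image e)) {l : Finset α} (hl : l ∈ L) {i : Fin 6} (a : e i ∈ l) :
    ∃ j, j ≠ i ∧ e j ∈ l := by
  obtain ⟨x, hx⟩ := card_pos.1 (pen_one hL hα (notMem_erase (e i) (univ.image e)) (by
    rw [card_erase_of_mem (by simp), card_image_of_injective _ he]; rfl) (fun m hm => by
      rw [inter_erase, card_erase_of_mem (by simp [(mem_Pen.1 hm).2])]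
      have := hA m (mem_Pen.1 hm).1; omega) l (mem_Pen.2 ⟨hl, a⟩)).ge
  simp only [mem_inter, mem_erase, mem_image, mem_univ, true_and] at hx
  obtain ⟨h1, h2, j, rfl⟩ := hx
  exact ⟨j, fun c => h2 (c ▸ rfl), h1⟩

theorem model {e : Fin 6 → α} (he : Function.Injective e) (hA : Arc L (univ.image e)) :
    ∃ d : Fin 6 ⊕ Fin 15 ≃ α, (∀ i, d (inl i) = e i) ∧ ∀ l ∈ L, ∃ a b, ∀ z, d z ∈ l ↔ ln a b z := by
  classical
  have K : ∀ p, (∀ i, e i ≠ p) → ∃ k, ∀ i, ∃ l ∈ L, p ∈ l ∧ e i ∈ l ∧ e (syn k i) ∈ l := fun p hp => by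
    choose l h1 h2 h3 using fun i => ex2 hL (hp i)
    choose f h4 h5 using fun i => two hL hα he hA (h1 i) (h2 i)
    have e6 : ![f 0, f 1, f 2, f 3, f 4, f 5] = f := funext fun i => by fin_cases i <;> rfl
    obtain ⟨k, hk⟩ := syn_all (f 0) (f 1) (f 2) (f 3) (f 4) (f 5) fun i => by
      rw [e6]
      exact ⟨h4 i, three he hA (h1 i) (h5 i) (un2 hL (h1 (f i)) (h1 i) (hp (f i)) (h2 _) (h3 _) (h5 i) (h3 i) ▸ h5 (f i)) (h2 i) (h4 _).symm (h4 i)⟩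
    exact ⟨k, fun i => ⟨l i, h1 i, h3 i, h2 i, by rw [hk, e6]; exact h5 i⟩⟩
  choose! κ hκ using K
  let c : α → Fin 6 ⊕ Fin 15 := fun p => if h : ∃ i, e i = p then inl h.choose else inr (κ p)
  have c1 : ∀ i, c (e i) = inl i := fun i => by
    have h : ∃ j, e j = e i := ⟨i, rfl⟩
    simp only [c, dif_pos h, he h.choose_spec]
  have c2 : ∀ p, (∀ i, e i ≠ p) → c p = inr (κ p) := fun p h => dif_neg (not_exists.2 h)
  have cs : ∀ p, (∃ i, e i = p) ∨ ∀ i, e i ≠ p := fun p => or_iff_not_imp_left.2 not_exists.1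
  have sec : ∀ p q, (∀ i, e i ≠ p) → (∀ i, e i ≠ q) → ∀ i, syn (κ p) i = syn (κ q) i → ∃ l ∈ L, p ∈ l ∧ q ∈ l ∧ e i ∈ l ∧ e (syn (κ p) i) ∈ l :=
    fun p q hp hq i h => by
      obtain ⟨l, h1, h2, h3, h4⟩ := hκ p hp i
      obtain ⟨m, k1, k2, k3, k4⟩ := hκ q hq i
      exact ⟨l, h1, h2, un2 hL k1 h1 (he.ne ((syn_ne (κ p)).1 i)) (h ▸ k4) k3 h4 h3 ▸ k2, h3, h4⟩
  have ci : Function.Injective c := fun p q h => by
    rcases cs p with ⟨i, rfl⟩ | hp <;> rcases cs q with ⟨j, rfl⟩ | hq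
    · rw [c1, c1] at h; rw [inl_injective h]
    · rw [c1, c2 q hq] at h; cases h
    · rw [c1, c2 p hp] at h; cases h
    rw [c2 p hp, c2 q hq, inr.injEq] at h
    by_contra n
    obtain ⟨i, i1, i2⟩ := (syn_ne (κ p)).2
    obtain ⟨l, h1, h2, h3, h4, h5⟩ := sec p q hp hq 0 (h ▸ rfl)
    obtain ⟨m, k1, k2, k3, k4, -⟩ := sec p q hp hq i (h ▸ rfl)
    exact i2 (three he hA h1 h4 h5 (un2 hL k1 h1 n k2 k3 h2 h3 ▸ k4) ((syn_ne _).1 0).symm i1)
  let C := Equiv.ofBijective c ((Fintype.bijective_iff_injective_and_card c).2 ⟨ci, by simp [hα]⟩)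
  refine ⟨C.symm, fun i => C.symm_apply_eq.2 (c1 i).symm, fun l hl => ?_⟩
  suffices h : ∃ a b, ∀ p ∈ l, ln a b (c p) by
    obtain ⟨a, b, h⟩ := h
    have : l.image C = ({z | ln a b z} : Finset (Fin 6 ⊕ Fin 15)) := eq_of_subset_of_card_le (fun z hz => by
      obtain ⟨p, hp, rfl⟩ := mem_image.1 hz
      exact mem_filter.2 ⟨mem_univ _, h p hp⟩) (by rw [ln_card, card_image_of_injective _ C.injective, hL.1 l hl])
    exact ⟨a, b, fun z => by simpa [← C.eq_symm_apply] using Finset.ext_iff.1 this z⟩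
  by_cases o : ∃ a, e a ∈ l
  · obtain ⟨a, ha⟩ := o
    obtain ⟨b, n, hb⟩ := two hL hα he hA hl ha
    refine ⟨a, b, fun p hp => ?_⟩
    rcases cs p with ⟨i, rfl⟩ | h
    · simpa [c1, ln, n.symm] using or_iff_not_imp_left.2 fun k => three he hA hl ha hp hb (Ne.symm k) n.symm
    obtain ⟨m, k1, k2, k3, k4⟩ := hκ p h a
    simpa [c2 p h, ln, n.symm] using three he hA hl ha (un2 hL k1 hl (h a) k3 k2 ha hp ▸ k4) hb ((syn_ne _).1 a).symm n.symm
  have h : ∀ p ∈ l, ∀ i, e i ≠ p := fun p hp i k => o ⟨i, k ▸ hp⟩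
  have D : ∀ p ∈ l, ∀ q ∈ l, p ≠ q → Dj (κ p) (κ q) := fun p hp q hq n => decide_eq_true fun i k => by
    obtain ⟨m, k1, k2, k3, k4, -⟩ := sec p q (h p hp) (h q hq) i k
    exact o ⟨i, un2 hL k1 hl n k2 k3 hp hq ▸ k4⟩
  obtain ⟨p, hp, q, hq, n⟩ := one_lt_card.1 (by rw [hL.1 l hl]; omega : 1 < #l)
  obtain ⟨t, t1, t2, t3⟩ := tot_ex _ _ (D p hp q hq n)
  refine ⟨t, t, fun x hx => c2 x (h x hx) ▸ ?_⟩
  by_cases xp : x = p
  · exact xp ▸ t1
  by_cases xq : x = q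
  · exact xq ▸ t2
  obtain ⟨y, hy, y1⟩ := exists_mem_notMem_of_card_lt_card (s := {x, p, q}) (t := l) (card_le_three.trans_lt (by rw [hL.1 l hl]; omega))
  simp only [mem_insert, mem_singleton, not_or] at y1
  exact t3 _ ⟨D x hx p hp xp, D x hx q hq xq⟩ _ ⟨D y hy x hx y1.1, D y hy p hp y1.2.1, D y hy q hq y1.2.2⟩

theorem plane_iso {β : Type*} [Fintype β] [DecidableEq β] {L' : Set (Finset β)} (hL' : IsSteinerSystem 2 5 L') (hβ : Fintype.card β = 21)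
    {e : Fin 6 → α} (he : Function.Injective e) (hA : Arc L (univ.image e)) {e' : Fin 6 → β} (he' : Function.Injective e') (hA' : Arc L' (univ.image e')) :
    ∃ g : α ≃ β, (∀ i, g (e i) = e' i) ∧ (fun b => b.image g) '' L = L' := by
  obtain ⟨d, d1, d2⟩ := model hL hα he hA
  obtain ⟨d', d1', d2'⟩ := model hL' hβ he' hA'
  have K : ∀ l ∈ L, ∀ l' ∈ L', ∀ x y, x ≠ y → d x ∈ l → d y ∈ l → d' x ∈ l' → d' y ∈ l' → l.image (d.symm.trans d') = l' :=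
    fun l hl l' hl' x y n a b a' b' => by
      obtain ⟨i, j, h⟩ := d2 l hl
      obtain ⟨i', j', h'⟩ := d2' l' hl'
      ext z
      obtain ⟨z, rfl⟩ := d'.surjective z
      rw [h', ← ln_uniq i j x ((h x).1 a) y ⟨n, (h y).1 b⟩ i' j' ⟨(h' x).1 a', (h' y).1 b'⟩, ← h]
      simp [d.symm_apply_eq]
  refine ⟨d.symm.trans d', fun i => by simp [← d1, d1'], Set.ext fun l' => ⟨?_, fun hl' => ?_⟩⟩
  · rintro ⟨l, hl, rfl⟩
    obtain ⟨p, hp, q, hq, n⟩ := one_lt_card.1 (by rw [hL.1 l hl]; omega : 1 < #l)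
    obtain ⟨m, h1, h2, h3⟩ := ex2 hL' ((d.symm.trans d').injective.ne n)
    exact Set.mem_of_eq_of_mem (K l hl m h1 _ _ (d.symm.injective.ne n) (by simpa) (by simpa) h2 h3) h1
  obtain ⟨p, hp, q, hq, n⟩ := one_lt_card.1 (by rw [hL'.1 l' hl']; omega : 1 < #l')
  obtain ⟨m, h1, h2, h3⟩ := ex2 hL ((d'.symm.trans d).injective.ne n)
  exact ⟨m, h1, K m h1 l' hl' _ _ (d'.symm.injective.ne n) h2 h3 (by simpa) (by simpa)⟩

omit hL hα [Fintype α] in
theorem enum6 {H : Finset α} (h : #H = 6) : ∃ e : Fin 6 ≃ H, univ.image (fun i => (e i : α)) = H :=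
  ⟨(H.equivFinOfCardEq h).symm, Finset.ext fun x => by
    simp only [mem_image, mem_univ, true_and]
    exact ⟨fun ⟨i, k⟩ => k ▸ Subtype.prop _, fun k => ⟨H.equivFinOfCardEq h ⟨x, k⟩, by simp⟩⟩⟩

end CfsgPm
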