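import Cfsg.Agent.H3.Pm1
import Cfsg.Agent.H3.Perm
import Cfsg.Agent.H3.Galois
import Cfsg.Prelude.Def_Perm

/-! Permutation characters and the centralizer ring. -/
set_option autoImplicit false
namespace CfsgPm
open MulAction Subgroup CfsgH8 Finset Cfsg CfsgH3 Module LinearMap
open scoped ComplexConjugate

section Eig
variable {G : Type*} [Group G] {V : Type*} [AddCommGroup V] [Module ℂ V] [FiniteDimensional ℂ V]

theorem eig_decomp (ρ : Representation ℂ G V) (T : End ℂ V) (hT : ∀ g, Commute T (ρ g)) :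
    ∃ (s : Finset ℂ) (ψ : ℂ → G → ℂ), (∀ μ, IsCharacter G (ψ μ)) ∧ (∀ μ ∈ s, T.HasEigenvalue μ) ∧
      ∀ (k : ℕ) g, trace ℂ V (ρ g * T ^ k) = ∑ μ ∈ s, μ ^ k * ψ μ g := by
  have hds := DirectSum.isInternal_submodule_of_iSupIndep_of_iSup_eq_top
    T.independent_maxGenEigenspace T.iSup_maxGenEigenspace_eq_top
  have hf : {μ | T.maxGenEigenspace μ ≠ ⊥}.Finite := WellFoundedGT.finite_ne_bot_of_iSupIndep T.independent_maxGenEigenspace
  let U : ∀ μ, Subrepresentation ρ := fun μ => ⟨T.maxGenEigenspace μ, fun g _ h => T.mapsTo_maxGenEigenspace_of_comm (hT g) μ h⟩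
  refine ⟨hf.toFinset, fun μ => (U μ).toRepresentation.character, fun μ => isCharacter_rep _, fun μ h =>
    (End.hasUnifEigenvalue_iff_hasUnifEigenvalue_one (k := ⊤) (by simp)).1 (hf.mem_toFinset.1 h), fun k g => ?_⟩
  have hc : ∀ k : ℕ, Commute T (ρ g * T ^ k) := fun k => (hT g).mul_right ((Commute.refl T).pow_right k)
  rw [trace_eq_sum_trace_restrict' hds hf fun μ => T.mapsTo_maxGenEigenspace_of_comm (hc k) μ]
  refine sum_congr rfl fun μ _ => ?_
  induction k with
  | zero => simp only [pow_zero, mul_one, one_mul]; rfl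
  | succ k ih =>
    have h1 := T.mapsTo_maxGenEigenspace_of_comm (Commute.refl T) μ
    have := trace_comp_eq_mul_of_commute_of_isNilpotent μ (restrict_commute (hc k).symm
      (T.mapsTo_maxGenEigenspace_of_comm (hc k) μ) h1) (by
        convert T.isNilpotent_restrict_maxGenEigenspace_sub_algebraMap μ using 1
        ext; simp; rfl)
    rw [ih, ← mul_assoc, ← pow_succ'] at this
    rw [← this]; congr 1

theorem isIntegral_of_eig {T : End ℂ V} (hT : IsIntegral ℤ T) {μ : ℂ} (h : T.HasEigenvalue μ) : IsIntegral ℤ μ := by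
  obtain ⟨p, hp, h0⟩ := hT
  obtain ⟨v, hv⟩ := h.exists_hasEigenvector
  have := End.aeval_apply_of_hasEigenvector (p := p.map (algebraMap ℤ ℂ)) hv
  rw [Polynomial.aeval_map_algebraMap, Polynomial.aeval_def, h0, LinearMap.zero_apply, eq_comm, smul_eq_zero,
    Polynomial.eval_map] at this
  exact ⟨p, hp, this.resolve_right hv.2⟩

theorem inner_zero_of_sum [Fintype G] {ι : Type*} {s : Finset ι} {ψ : ι → G → ℂ} (h : ∀ i, IsCharacter G (ψ i))
    {χ : G → ℂ} (hχ : IsCharacter G χ) (h0 : classInner (∑ i ∈ s, ψ i) χ = 0) {i : ι} (hi : i ∈ s) :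
    classInner (ψ i) χ = 0 := by
  choose n hn using fun i => (h i).inner_nat hχ
  simp only [inner_sum_left, hn] at h0 ⊢
  exact_mod_cast (sum_eq_zero_iff.1 (by exact_mod_cast h0 : ∑ i ∈ s, n i = 0)) i hi

/-- in a multiplicity free representation, equivariant maps are determined by traces -/
theorem eq_zero_of_mf [Fintype G] (ρ : Representation ℂ G V)
    (h : ∀ χ, IsIrrCharacter G χ → classInner ρ.character χ = 0 ∨ classInner ρ.character χ = 1)
    (T : End ℂ V) (hT : ∀ g, Commute T (ρ g)) (h0 : ∀ g, trace ℂ V (ρ g * T) = 0) : T = 0 := by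
  classical
  let Φ : ρ.IntertwiningMap ρ →ₗ[ℂ] G → ℂ :=
    ⟨⟨fun X g => trace ℂ V (ρ g * X.toLinearMap), fun X Y => by ext; simp [mul_add]⟩, fun c X => by ext; simp⟩
  obtain ⟨m, hm, -⟩ := (isCharacter_rep ρ).exists_coeff
  have h1 : finrank ℂ (ρ.IntertwiningMap ρ) = Fintype.card {χ : IrrCharacter G // m χ = 1} := by
    have := (isCharacter_rep ρ).classFun.inner_eq_sum ρ.character
    rw [inner_rep, sum_congr rfl (g := fun χ => if m χ = 1 then 1 else 0) fun χ _ => by
      rw [χ.2.isChar.inner_comm (isCharacter_rep ρ)]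
      rcases h χ χ.2 with e | e <;> rw [e] <;> rw [hm] at e
      · simp [show m χ = 0 by exact_mod_cast e]
      · simp [show m χ = 1 by exact_mod_cast e], sum_boole, ← Fintype.card_subtype] at this
    exact_mod_cast this
  have h2 : ∀ χ : {χ : IrrCharacter G // m χ = 1}, (χ.1.1 : G → ℂ) ∈ range Φ := fun ⟨χ, hχ⟩ => by
    refine ⟨(χ.1 1 / Nat.card G) • ⟨repSum ρ fun g => conj (χ.1 g), repSum_comm ρ (isClassFunction_conj χ.2.classFun)⟩, ?_⟩
    ext g
    rw [map_smul, Pi.smul_apply]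
    change _ * trace ℂ V (ρ g * repSum ρ _) = _
    rw [trace_mul_comm, trace_repSum_mul]
    simp_rw [(isCharacter_rep ρ).classFun.apply_eq_sum (_ * g), mul_sum, mul_left_comm (conj _)]
    rw [sum_comm]
    simp_rw [← mul_sum, fun ψ : IrrCharacter G => ψ.2.sum_mul_apply_mul (isClassFunction_conj χ.2.classFun) g]
    rw [sum_eq_single χ (fun ψ _ hψ => ?_) (by simp), χ.2.sum_conj_mul, hm, hχ]
    · field_simp [χ.2.one_ne_zero, card_ne_zero_complex G]; simp
    · have := ψ.2.inner_of_ne χ.2 fun e => hψ (Subtype.ext e)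
      rw [classInner, mul_eq_zero, or_iff_right (inv_ne_zero (card_ne_zero_complex G))] at this
      simp [mul_comm (conj _), this]
  have h3 : LinearIndependent ℂ fun χ : {χ : IrrCharacter G // m χ = 1} => (⟨_, h2 χ⟩ : range Φ) :=
    LinearIndependent.of_comp (range Φ).subtype (linearIndependent_irr.comp _ Subtype.val_injective)
  have h4 := h3.fintype_card_le_finrank
  have h5 := Φ.finrank_range_add_finrank_ker
  have h6 : ker Φ = ⊥ := Submodule.finrank_eq_zero.1 (by omega)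
  exact congrArg (·.toLinearMap) (ker_eq_bot'.1 h6 ⟨T, hT⟩ (funext h0))

theorem comm_of_mf [Fintype G] (ρ : Representation ℂ G V)
    (h : ∀ χ, IsIrrCharacter G χ → classInner ρ.character χ = 0 ∨ classInner ρ.character χ = 1)
    (S T : End ℂ V) (hS : ∀ g, Commute S (ρ g)) (hT : ∀ g, Commute T (ρ g)) : S * T = T * S :=
  sub_eq_zero.1 (eq_zero_of_mf ρ h _ (fun g => ((hS g).mul_left (hT g)).sub_left ((hT g).mul_left (hS g))) fun g => by
    rw [mul_sub, map_sub, ← mul_assoc _ T, trace_mul_comm ℂ _ S, ← mul_assoc, ← mul_assoc, (hS g).eq, sub_self])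

theorem mf_of_comm [Fintype G] (ρ : Representation ℂ G V)
    (h : ∀ S T : End ℂ V, (∀ g, Commute S (ρ g)) → (∀ g, Commute T (ρ g)) → S * T = T * S)
    (χ : G → ℂ) (hχ : IsIrrCharacter G χ) : classInner ρ.character χ = 0 ∨ classInner ρ.character χ = 1 := by
  obtain ⟨n, σ, hσ, rfl⟩ := hχ
  rw [inner_rep]
  suffices finrank ℂ (σ.IntertwiningMap ρ) ≤ 1 by
    rcases Nat.le_one_iff_eq_zero_or_eq_one.1 this with e | e <;> simp [e]
  rcases subsingleton_or_nontrivial (σ.IntertwiningMap ρ) with hs | hs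
  · simp [finrank_zero_of_subsingleton]
  obtain ⟨i, hi⟩ := exists_ne (0 : σ.IntertwiningMap ρ)
  have c : ∀ (j : σ.IntertwiningMap ρ) g v, j.toLinearMap (σ g v) = ρ g (j.toLinearMap v) := fun j g v =>
    LinearMap.congr_fun (j.isIntertwining' g) v
  obtain ⟨p0, hp0⟩ := exists_leftInverse_of_injective i.toLinearMap
    ((eq_bot_or_top_of_irreducible σ (ker i.toLinearMap) fun g v hv => by rw [mem_ker, c, hv, map_zero]).resolve_right
      fun e => hi (Representation.IntertwiningMap.ext (ker_eq_top.1 e)))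
  let p : V →ₗ[ℂ] Fin n → ℂ := (Nat.card G : ℂ)⁻¹ • ∑ g, σ g ∘ₗ p0 ∘ₗ ρ g⁻¹
  have p1 : ∀ v, p (i.toLinearMap v) = v := fun v => by
    have : ∀ g, σ g (p0 (ρ g⁻¹ (i.toLinearMap v))) = v := fun g => by
      rw [← c, show p0 (i.toLinearMap _) = _ from LinearMap.congr_fun hp0 _, id_apply, ← End.mul_apply, ← map_mul]; simp
    simp only [p, LinearMap.smul_apply, LinearMap.sum_apply, comp_apply, this, sum_const, card_univ, ← Nat.card_eq_fintype_card,
      ← Nat.cast_smul_eq_nsmul ℂ, smul_smul, inv_mul_cancel₀ (card_ne_zero_complex G), one_smul]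
  have p2 : ∀ g v, p (ρ g v) = σ g (p v) := fun g v => by
    simp only [p, LinearMap.smul_apply, LinearMap.sum_apply, comp_apply, map_smul, map_sum]
    rw [← Equiv.sum_comp (Equiv.mulLeft g)]
    simp [← End.mul_apply, ← map_mul]
  refine finrank_le_one i fun j => ?_
  obtain ⟨a, ha⟩ := exists_scalar_of_commute σ (p ∘ₗ j.toLinearMap) fun g => LinearMap.ext fun v => by
    simp only [comp_apply, c, p2]
  have k : ∀ j : σ.IntertwiningMap ρ, ∀ g, Commute (j.toLinearMap ∘ₗ p) (ρ g) := fun j g => by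
    refine LinearMap.ext fun v => ?_
    simp only [End.mul_apply, comp_apply, c, p2]
  refine ⟨a, Representation.IntertwiningMap.ext (LinearMap.ext fun v => ?_)⟩
  have := LinearMap.congr_fun (h _ _ (k i) (k j)) (i.toLinearMap v)
  simp only [End.mul_apply, comp_apply, p1, show ∀ v, p (j.toLinearMap v) = a • v from LinearMap.congr_fun ha, map_smul] at this
  exact this
end Eig

section Perm
variable {G : Type*} [Group G] {Ω : Type*} [MulAction G Ω] [Fintype Ω] [DecidableEq Ω]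

theorem trace_perm (M : Matrix Ω Ω ℂ) (g : G) :
    trace ℂ _ (permRep ℂ G Ω g * Matrix.toLin' M) = ∑ x, M (g⁻¹ • x) x := by
  rw [trace_eq_matrix_trace ℂ (Pi.basisFun ℂ Ω), Matrix.trace]
  refine sum_congr rfl fun x _ => ?_
  simp [toMatrix_apply, permRep]

omit [DecidableEq Ω] in
theorem perm_character : (permRep ℂ G Ω).character = fun g : G => (Nat.card (fixedBy Ω g) : ℂ) := by
  classical
  ext g
  have := trace_perm (1 : Matrix Ω Ω ℂ) g
  rw [Matrix.toLin'_one, ← End.one_eq_id, mul_one] at this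
  rw [Representation.character, this, ← fx, fx_eq_filter]
  simp only [Matrix.one_apply, inv_smul_eq_iff, sum_boole]; simp only [eq_comm]

theorem commute_perm {M : Matrix Ω Ω ℂ} :
    (∀ g : G, Commute (Matrix.toLin' M) (permRep ℂ G Ω g)) ↔ ∀ (g : G) x y, M (g • x) (g • y) = M x y := by
  refine ⟨fun h g x y => ?_, fun h g => LinearMap.ext fun v => funext fun x => ?_⟩
  · have : ∑ z, M (g • x) z * (Pi.single y 1 : Ω → ℂ) (g⁻¹ • z) = ∑ z, M (g⁻¹ • g • x) z * (Pi.single y 1 : Ω → ℂ) z :=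
      congr_fun (LinearMap.congr_fun (h g).eq (Pi.single y 1)) (g • x)
    simpa [Pi.single_apply, inv_smul_eq_iff] using this
  · change ∑ z, M x z * v (g⁻¹ • z) = ∑ z, M (g⁻¹ • x) z * v z
    rw [← Equiv.sum_comp (toPerm g)]
    exact sum_congr rfl fun y _ => by rw [← h g (g⁻¹ • x)]; simp

open Classical in
/-- adjacency matrix of an orbital -/
noncomputable def adj (G : Type*) [Group G] {Ω : Type*} [MulAction G Ω] (a b : Ω) : Matrix Ω Ω ℂ :=
  fun x y => if (x, y) ∈ orbit G (a, b) then 1 else 0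

omit [Fintype Ω] [DecidableEq Ω] in
theorem adj_inv (a b : Ω) (g : G) (x y : Ω) : adj G a b (g • x) (g • y) = adj G a b x y := by
  simp only [adj, ← Prod.smul_mk, ← orbit_eq_iff, orbit_smul]

theorem adj_int (a b : Ω) : IsIntegral ℤ (Matrix.toLin' (adj G a b)) := by
  classical
  let M : Matrix Ω Ω ℤ := fun x y => if (x, y) ∈ orbit G (a, b) then 1 else 0
  have := (Matrix.isIntegral M).map (((Matrix.toLinAlgEquiv' (R := ℂ) (n := Ω)).toRingEquiv.toRingHom.comp
    (Int.castRingHom ℂ).mapMatrix).toIntAlgHom)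
  convert this using 1
  change _ = Matrix.toLin' _
  congr 1; ext x y; change _ = ((M x y : ℤ) : ℂ); simp [M, adj]

omit [DecidableEq Ω] in
theorem adj_row [IsPretransitive G Ω] (a b x : Ω) : ∑ y, adj G a b x y = Nat.card (orbit (stabilizer G a) b) := by
  classical
  obtain ⟨g, rfl⟩ := exists_smul_eq G a x
  rw [← Equiv.sum_comp (toPerm g)]
  simp only [toPerm_apply, adj_inv]
  simp only [adj, sum_boole, Nat.card_eq_fintype_card, Fintype.card_subtype]
  congr 2; ext y
  simp only [mem_filter, mem_univ, true_and]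
  exact ⟨fun ⟨g, h⟩ => ⟨⟨g, congrArg Prod.fst h⟩, congrArg Prod.snd h⟩, fun ⟨g, h⟩ => ⟨g, Prod.ext g.2 h⟩⟩

omit [DecidableEq Ω] in
theorem avg_trace [Fintype G] [IsPretransitive G Ω] [Nonempty Ω] (M : Matrix Ω Ω ℂ) {d : ℂ} (h : ∀ x, ∑ y, M x y = d) :
    classInner (fun g : G => ∑ x, M (g⁻¹ • x) x) (fun _ => 1) = d := by
  classical
  have h1 : ∀ x y : Ω, (#{g : G | g⁻¹ • x = y} : ℂ) * Fintype.card Ω = Nat.card G := fun x y => by
    obtain ⟨t, rfl⟩ := exists_smul_eq G y x
    rw [← (stabilizer G y).card_mul_index, ← card_eq_index, ← card_filter_sub, Nat.card_eq_fintype_card]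
    norm_cast; congr 1
    exact card_bij (fun g _ => g⁻¹ * t) (by simp [mul_smul]) (by simp) fun g hg => ⟨t * g⁻¹, by simpa [mul_smul] using hg, by group⟩
  have h2 : (Fintype.card Ω : ℂ) ≠ 0 := by simp
  rw [inner_one_right, sum_comm, inv_mul_eq_iff_eq_mul₀ (card_ne_zero_complex G)]
  refine mul_right_cancel₀ h2 ?_
  simp_rw [fun x => (sum_fiberwise_of_maps_to (s := univ) (t := univ) (g := fun g : G => g⁻¹ • x) (by simp)
    (fun g => M (g⁻¹ • x) x)).symm]
  rw [sum_comm, sum_mul, sum_congr rfl (g := fun _ => Nat.card G * d) fun y _ => by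
    rw [← h y, sum_mul, mul_sum]
    exact sum_congr rfl fun x _ => by
      rw [sum_congr rfl (g := fun _ => M y x) fun g hg => by rw [(mem_filter.1 hg).2], sum_const, nsmul_eq_mul, ← h1 x y]; ring]
  simp [mul_comm]

/-- multiplicities in the permutation character -/
theorem perm_coeff [Fintype G] [IsPretransitive G Ω] [Nonempty Ω] : ∃ m : IrrCharacter G → ℕ,
    (∀ χ : IrrCharacter G, classInner (fun g : G => (Nat.card (fixedBy Ω g) : ℂ)) χ = m χ) ∧ m ⟨_, isIrr_one⟩ = 1 ∧
    ∑ χ, m χ * deg χ = Nat.card Ω ∧ ∑ χ, m χ ^ 2 = Nat.card (orbitRel.Quotient G (Ω × Ω)) := by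
  have hc : IsCharacter G fun g : G => (Nat.card (fixedBy Ω g) : ℂ) := isChar_permChar
  obtain ⟨m, h1, h2⟩ := hc.exists_coeff
  refine ⟨m, h1, ?_, ?_, ?_⟩
  · have := h1 ⟨_, isIrr_one⟩
    rw [inner_one_right, ← Nat.cast_sum, sum_fx_trans, inv_mul_cancel₀ (card_ne_zero_complex G)] at this
    exact_mod_cast this.symm
  · have := congrFun h2 1
    simp only [Finset.sum_apply, Pi.smul_apply, deg_spec, smul_eq_mul, fx_one] at this
    exact_mod_cast this.symm
  · have := hc.classFun.inner_eq_sum fun g : G => (Nat.card (fixedBy Ω g) : ℂ)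
    simp only [fun χ : IrrCharacter G => χ.2.isChar.inner_comm hc, h1] at this
    simp only [classInner, map_natCast, ← sq, ← Nat.cast_pow, ← Nat.cast_sum, sum_fx_sq, Nat.cast_mul] at this
    rw [mul_comm, mul_inv_cancel_right₀ (card_ne_zero_complex G)] at this
    exact_mod_cast this.symm

/-- Frame–Wielandt divisibility -/
theorem dvd_subdegree [Fintype G] [IsPretransitive G Ω] (f : ℕ) (hf : ∀ χ : G → ℂ, IsIrrCharacter G χ → χ ≠ (fun _ => 1) →
    classInner (fun g : G => (Nat.card (fixedBy Ω g) : ℂ)) χ ≠ 0 → ∃ m : ℕ, χ 1 = (f : ℂ) * m) {a b : Ω} (hab : b ≠ a) :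
    f ∣ Nat.card (orbit (stabilizer G a) b) := by
  classical
  have : Nonempty Ω := ⟨a⟩
  obtain ⟨s, ψ, h1, h2, h3⟩ := eig_decomp (permRep ℂ G Ω) _ (commute_perm.2 (adj_inv a b))
  have h4 : (fun g : G => (Nat.card (fixedBy Ω g) : ℂ)) = ∑ μ ∈ s, ψ μ := by
    rw [← perm_character]; ext g; simpa [Representation.character] using h3 0 g
  have h5 : ∀ μ ∈ s, ∃ k : ℕ, ψ μ 1 = classInner (ψ μ) (fun _ => 1) + f * k := fun μ hμ => by
    have : ∀ χ : IrrCharacter G, ∃ k : ℕ, χ ≠ ⟨_, isIrr_one⟩ → classInner (ψ μ) χ * χ.1 1 = f * k := fun χ => by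
      by_cases h : classInner (fun g : G => (Nat.card (fixedBy Ω g) : ℂ)) χ = 0
      · exact ⟨0, fun _ => by simp [inner_zero_of_sum h1 χ.2.isChar (h4 ▸ h) hμ]⟩
      by_cases h' : χ = ⟨_, isIrr_one⟩
      · exact ⟨0, fun h => absurd h' h⟩
      obtain ⟨m, hm⟩ := hf χ χ.2 (fun e => h' (Subtype.ext e)) h
      obtain ⟨n, hn⟩ := (h1 μ).inner_nat χ.2.isChar
      exact ⟨n * m, fun _ => by rw [hm, hn]; push_cast; ring⟩
    choose k hk using this
    refine ⟨∑ χ ∈ univ.erase ⟨_, isIrr_one⟩, k χ, ?_⟩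
    rw [(h1 μ).classFun.apply_eq_sum, ← add_sum_erase _ _ (mem_univ ⟨_, isIrr_one⟩), mul_one, Nat.cast_sum, mul_sum,
      sum_congr rfl fun χ h => hk χ (mem_erase.1 h).1]
  choose! k hk using h5
  have h6 := avg_trace (G := G) _ (adj_row (G := G) a b)
  have h7 : ∀ g : G, ∑ x, adj G a b (g⁻¹ • x) x = ∑ μ ∈ s, μ * ψ μ g := fun g => by simpa [trace_perm] using h3 1 g
  have h8 := h7 1
  rw [sum_eq_zero (f := fun x => adj G a b (1⁻¹ • x) x) fun x _ => if_neg fun ⟨g, h⟩ => hab (smul_left_cancel g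
    ((congrArg Prod.snd h).trans (by simpa using (congrArg Prod.fst h).symm))),
    sum_congr rfl fun μ h => by rw [hk μ h, mul_add], sum_add_distrib] at h8
  rw [show (fun g : G => ∑ x, adj G a b (g⁻¹ • x) x) = ∑ μ ∈ s, μ • ψ μ by ext g; simp [h7], inner_sum_left] at h6
  simp only [CfsgH3.inner_smul_left] at h6
  rw [h6] at h8
  rcases Nat.eq_zero_or_pos f with rfl | hp
  · simpa using h8.symm
  refine nat_dvd_of_isIntegral_div hp.ne' ?_
  rw [show (Nat.card (orbit (stabilizer G a) b) : ℂ) / f = -∑ μ ∈ s, μ * k μ by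
    rw [div_eq_iff (by exact_mod_cast hp.ne'), eq_neg_of_add_eq_zero_left h8.symm, neg_mul, sum_mul]
    simp only [mul_comm, mul_left_comm]]
  exact (IsIntegral.sum _ fun μ h => (isIntegral_of_eig (adj_int a b) (h2 μ h)).mul (isIntegral_natCast _)).neg
end Perm

end CfsgPm
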