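import Cfsg.Agent.H3.Pm3
import Cfsg.Agent.H1.Basic

set_option autoImplicit false

namespace CfsgPm

open MulAction Subgroup CfsgH8 CfsgH1

variable {G : Type*} [Group G] {Ω : Type*} [MulAction G Ω]

theorem card_stab_two [Finite G] [Finite Ω] {a b c : Ω} (h : (orbit (stabilizer G a) b).ncard = (orbit (stabilizer G a) c).ncard) :
    Nat.card (stabilizer G a ⊓ stabilizer G b : Subgroup G) = Nat.card (stabilizer G a ⊓ stabilizer G c : Subgroup G) :=
  Nat.eq_of_mul_eq_mul_left ((Set.ncard_pos).2 ⟨c, mem_orbit_self c⟩) (by rw [ncard_orbit_mul, ← h, ncard_orbit_mul])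

/-- Wielandt 10.4: a 3/2-transitive group is primitive or Frobenius. -/
theorem prim_of_half [Finite G] [Finite Ω] [FaithfulSMul G Ω] [IsPretransitive G Ω]
    (hhalf : ∀ a b c : Ω, b ≠ a → c ≠ a → (orbit (stabilizer G a) b).ncard = (orbit (stabilizer G a) c).ncard)
    {a a' : Ω} (ha : a ≠ a') (hne : stabilizer G a ⊓ stabilizer G a' ≠ ⊥) : IsPreprimitive G Ω := by
  refine prim_of_rel fun r hr hi => or_iff_not_imp_left.2 fun h1 => by_contra fun h2 => hne ?_
  have K : ∀ b c, r a b → b ≠ a → ¬ r a c → stabilizer G a ⊓ stabilizer G c = stabilizer G a ⊓ stabilizer G b := fun b c hb hba hc => by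
    have hca : ∀ z, r a z → z ≠ c := fun z hz e => hc (e ▸ hz)
    let S : Subgroup G := stabilizer G c ⊓
      { carrier := {g | r a (g • a)}, one_mem' := by simpa using hr.1 a
        mul_mem' := fun {g h} hg hh => hr.3 hg (by simpa [mul_smul] using hi g _ _ hh)
        inv_mem' := fun {g} hg => hr.2 (by simpa using hi g⁻¹ _ _ hg) }
    have e1 : ∀ z, r a z → S ⊓ stabilizer G z = stabilizer G c ⊓ stabilizer G z := fun z hz =>
      le_antisymm (inf_le_inf_right _ inf_le_left) fun g hg => ⟨⟨hg.1, hr.3 hz (hr.2 (by simpa [mem_stabilizer_iff.1 hg.2] using hi g _ _ hz))⟩, hg.2⟩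
    have e2 : ∀ z, r a z → (orbit S z).ncard = (orbit S a).ncard := fun z hz => Nat.eq_of_mul_eq_mul_right Nat.card_pos (by
      rw [ncard_orbit_mul, e1 z hz, card_stab_two (hhalf c z a (hca z hz) (hca a (hr.1 a))), ← e1 a (hr.1 a), ncard_orbit_mul])
    have e3 : (orbit S a).ncard ∣ {z | r a z}.ncard :=
      dvd_ncard_of_orbits (G := S) _ (fun g z hz => hr.3 g.2.2 (hi g _ _ hz)) fun z hz => (e2 z hz).symm.dvd
    have e4 : (orbit S a).ncard ∣ ({z | r a z} \ {a}).ncard := by
      refine Dvd.dvd.trans ?_ (dvd_ncard_of_orbits (G := stabilizer G a) (d := (orbit (stabilizer G c) a).ncard) _ (fun g z hz =>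
        ⟨by simpa [mem_stabilizer_iff.1 g.2, Subgroup.smul_def] using hi g _ _ hz.1, fun e => hz.2 (smul_left_cancel g (e.trans g.2.symm))⟩)
        fun z hz => by rw [ncard_orbit_symm, hhalf a c z (hca a (hr.1 a)).symm hz.2])
      rw [ncard_orbit_sub, ncard_orbit_sub, ← inf_relIndex_right, ← inf_relIndex_right _ (stabilizer G c), inf_comm, inf_comm _ (stabilizer G c),
        ← e1 a (hr.1 a), ← relIndex_mul_relIndex _ S _ inf_le_left inf_le_left]
      exact dvd_mul_right _ _
    rw [← Set.ncard_diff_singleton_add_one (show a ∈ {z | r a z} from hr.1 a), Nat.dvd_add_right e4, Nat.dvd_one, ← e2 b hb,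
      ncard_orbit_sub, relIndex_eq_one] at e3
    exact eq_of_le_of_card_le (le_inf inf_le_left fun g hg => e3 ((e1 a (hr.1 a)).ge ⟨hg.2, hg.1⟩).1)
      (card_stab_two (hhalf a b c hba (hca a (hr.1 a)).symm)).le
  push Not at h1 h2
  obtain ⟨x, y, h1, h3⟩ := h1
  obtain ⟨g, rfl⟩ := exists_smul_eq G a x
  obtain ⟨c, hc⟩ : ∃ c, ¬ r a c := by
    by_contra! h
    obtain ⟨x, y, h2⟩ := h2
    exact h2 (hr.3 (hr.2 (h x)) (h y))
  have hb : r a (g⁻¹ • y) := by simpa using hi g⁻¹ _ _ h1
  have hb' : g⁻¹ • y ≠ a := fun e => h3 (by simp [← e])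
  have all : ∀ x, x ≠ a → stabilizer G a ⊓ stabilizer G x = stabilizer G a ⊓ stabilizer G c := fun x hx => by
    by_cases h : r a x
    exacts [(K x c h hx hc).symm, (K _ x hb hb' h).trans (K _ c hb hb' hc).symm]
  refine eq_bot_iff.2 fun k hk => eq_of_smul_eq_smul (α := Ω) fun x => ?_
  rcases eq_or_ne x a with rfl | hx
  exacts [hk.1.trans (one_smul _ _).symm, (((all a' ha.symm).trans (all x hx).symm).le hk).2.trans (one_smul _ _).symm]

/-- In a primitive group with a regular subgroup `N`, the point stabiliser normalises no proper subgroup of `N`. -/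
theorem irred_of_regular (hprim : IsPreprimitive G Ω) {N L : Subgroup G} {a : Ω} (hN : stabilizer N a = ⊥) (hL : L ≤ N)
    (h : stabilizer G a ≤ normalizer (L : Set G)) : L = ⊥ ∨ L = N := by
  refine or_iff_not_imp_left.2 fun h0 => le_antisymm hL fun n hn => ?_
  obtain ⟨⟨l, hl⟩, h1⟩ := ne_bot_iff_exists_ne_one.1 h0
  obtain ⟨u, hu, k, hk, rfl⟩ := (mem_sup_of_le_normalizer h).1 ((top_of_move hprim (a := a) (g := l) (fun e => h1 (Subtype.ext
    (eq_of_regular hN (hL hl) N.one_mem (e.trans (one_smul _ _).symm)))) le_sup_right (mem_sup_left hl)).ge (mem_top n))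
  exact eq_of_regular hN (hL hu) hn (by rw [mul_smul, hk]) ▸ hu

theorem fix_regular {N : Subgroup G} [hn : N.Normal] {a : Ω} (hN : stabilizer N a = ⊥) {n g : G} (h : n ∈ N) (hg : g • a = a) :
    g • n • a = n • a ↔ g * n = n * g := by
  refine ⟨fun e => mul_inv_eq_iff_eq_mul.1 (eq_of_regular hN (hn.conj_mem n h g) h ?_), fun e => by rw [← mul_smul, e, mul_smul, hg]⟩
  rw [mul_smul, mul_smul, inv_smul_eq_iff.2 hg.symm, e]

end CfsgPm
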