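import Cfsg.Agent.H3.Pm4

set_option autoImplicit false

namespace CfsgPm

open MulAction Subgroup CfsgH8 Finset Matrix

variable {G : Type*} [Group G] {Ω : Type*} [MulAction G Ω]

theorem rank_two [Finite Ω] [Nontrivial Ω] (h2 : IsMultiplyPretransitive G Ω 2) : Nat.card (orbitRel.Quotient G (Ω × Ω)) = 2 := by
  refine le_antisymm ?_ two_le_rank
  obtain ⟨a, b, hab⟩ := exists_pair_ne Ω
  have := isPretransitive_of_is_two_pretransitive (G := G) (α := Ω)
  rw [← Set.ncard_univ, show (Set.univ : Set (orbitRel.Quotient G (Ω × Ω))) = {Quotient.mk'' (a, a), Quotient.mk'' (a, b)} from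
    (Set.eq_univ_of_forall fun o => Quotient.inductionOn' o fun ⟨x, y⟩ => (eq_or_ne x y).imp (fun e => Quotient.sound' (by
      obtain ⟨g, h⟩ := exists_smul_eq G a x; exact ⟨g, by simp [h, e]⟩)) fun e => Quotient.sound' (by
      obtain ⟨g, h1, h3⟩ := mt_two h2 hab e; exact ⟨g, by simp [h1, h3]⟩)).symm]
  exact Set.ncard_insert_le _ _ |>.trans (by simp)

/-- `Ω` with the action twisted by an automorphism. -/
def Tw (_ : MulAut G) (Ω : Type*) := Ω

instance (β : MulAut G) : MulAction G (Tw β Ω) := MulAction.compHom Ω β.toMonoidHom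
instance (β : MulAut G) [h : Finite Ω] : Finite (Tw β Ω) := h

theorem sum_tw [Fintype G] [Finite Ω] (β : MulAut G) :
    ∑ g : G, fx Ω g * fx Ω (β g) = Nat.card (orbitRel.Quotient G (Ω × Tw β Ω)) * Nat.card G := by
  rw [← sum_fx]; exact sum_congr rfl fun g _ => (fx_prod (Δ := Tw β Ω) g).symm

theorem fx_aut [Finite G] [Finite Ω] [Nontrivial Ω] (h2 : IsMultiplyPretransitive G Ω 2) (β : MulAut G)
    (h : 2 ≤ Nat.card (orbitRel.Quotient G (Ω × Tw β Ω))) (g : G) : fx Ω (β g) = fx Ω g := by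
  have := Fintype.ofFinite G
  have h1 := sum_fx_sq (G := G) (Ω := Ω)
  have h3 := (β.toEquiv.sum_comp fun g => fx Ω g ^ 2).trans h1
  have h4 := (sum_tw (Ω := Ω) β).ge.trans' (Nat.mul_le_mul_right _ h)
  rw [rank_two h2] at h1 h3
  zify at h1 h3 h4 ⊢
  have h5 : ∑ g : G, ((fx Ω (β g) : ℤ) - fx Ω g) ^ 2 = 0 := le_antisymm (by
    simp only [sub_sq, sum_add_distrib, sum_sub_distrib, mul_assoc, ← mul_sum, mul_comm (fx Ω (β _) : ℤ)]
    simp only [MulEquiv.toEquiv_eq_coe, EquivLike.coe_coe] at h3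
    linarith) (sum_nonneg fun _ _ => sq_nonneg _)
  exact sub_eq_zero.1 (pow_eq_zero_iff two_ne_zero |>.1 ((sum_eq_zero_iff_of_nonneg fun _ _ => sq_nonneg _).1 h5 g (mem_univ g)))

theorem rank_tw [Finite G] [Finite Ω] [Nontrivial Ω] (h2 : IsMultiplyPretransitive G Ω 2) (β : MulAut G)
    (h : ∀ g : G, fx Ω (β g) = fx Ω g) : Nat.card (orbitRel.Quotient G (Ω × Tw β Ω)) = 2 := by
  have := Fintype.ofFinite G
  have h1 := sum_tw (Ω := Ω) β
  simp only [h, ← sq, sum_fx_sq, rank_two h2] at h1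
  exact (Nat.eq_of_mul_eq_mul_right Nat.card_pos h1).symm

open Classical in
/-- Incidence matrix of an orbit of the twisted action on pairs. -/
noncomputable def inc (β : MulAut G) (o ω : Ω) : Matrix Ω Ω ℤ := fun x y => if ∃ g : G, g • o = x ∧ β g • ω = y then 1 else 0

theorem inc_inv (β : MulAut G) (o ω : Ω) (g : G) (x y : Ω) : inc β o ω (g • x) (β g • y) = inc β o ω x y := by
  classical exact if_congr ⟨fun ⟨h, h1, h2⟩ => ⟨g⁻¹ * h, by simp [mul_smul, h1, h2]⟩, fun ⟨h, h1, h2⟩ => ⟨g * h, by simp [mul_smul, h1, h2]⟩⟩ rfl rfl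

theorem inc_sq (β : MulAut G) (o ω x y : Ω) : inc β o ω x y * inc β o ω x y = inc β o ω x y := by
  unfold inc; split_ifs <;> simp

variable [Fintype Ω]

theorem inc_row [IsPretransitive G Ω] (β : MulAut G) (o ω x : Ω) :
    ∑ y, inc β o ω x y = (orbit ((stabilizer G o).map β.toMonoidHom) ω).ncard := by
  classical
  obtain ⟨g, rfl⟩ := exists_smul_eq G o x
  rw [← Equiv.sum_comp (MulAction.toPerm (β g))]
  simp only [toPerm_apply, inc_inv]
  simp only [inc, sum_boole, Set.ncard_eq_toFinset_card', Nat.cast_inj]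
  congr 1; ext y
  simp only [mem_filter, mem_univ, true_and, Set.mem_toFinset]
  exact ⟨fun ⟨h, h1, h2⟩ => ⟨⟨_, h, h1, rfl⟩, h2⟩, fun ⟨⟨_, h, h1, rfl⟩, h2⟩ => ⟨h, h1, h2⟩⟩

theorem inc_col [IsPretransitive G Ω] (β : MulAut G) (o ω y : Ω) :
    ∑ x, inc β o ω x y = (orbit ((stabilizer G o).map β.toMonoidHom) ω).ncard := by
  have h : ∀ z, ∑ x, inc β o ω x z = ∑ x, inc β o ω x y := fun z => by
    obtain ⟨g, rfl⟩ := exists_smul_eq G y z
    obtain ⟨g, rfl⟩ := β.surjective g
    rw [← Equiv.sum_comp (MulAction.toPerm g)]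
    simp only [toPerm_apply, inc_inv]
  have := sum_comm (s := univ) (t := univ) (f := inc β o ω)
  simp only [h, inc_row, sum_const, card_univ, nsmul_eq_mul] at this
  exact (mul_left_cancel₀ (by have : Nonempty Ω := ⟨o⟩; simp) this).symm

theorem inc_pair [Nontrivial Ω] (h2 : IsMultiplyPretransitive G Ω 2) (β : MulAut G) (o ω : Ω) :
    ∃ l : ℤ, ∀ x x', x ≠ x' → ∑ y, inc β o ω x y * inc β o ω x' y = l := by
  obtain ⟨a, b, hab⟩ := exists_pair_ne Ω
  refine ⟨∑ y, inc β o ω a y * inc β o ω b y, fun x x' h => ?_⟩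
  obtain ⟨g, rfl, rfl⟩ := mt_two h2 hab h
  rw [← Equiv.sum_comp (MulAction.toPerm (β g))]
  simp only [toPerm_apply, inc_inv]

omit [Fintype Ω] in
theorem inc_span {β : MulAut G} (h : Nat.card (orbitRel.Quotient G (Ω × Tw β Ω)) = 2) (o ω : Ω) (M : Ω → Ω → ℤ)
    (hM : ∀ (g : G) x y, M (g • x) (β g • y) = M x y) : ∃ s t : ℤ, ∀ x y, M x y = s * inc β o ω x y + t := by
  obtain ⟨q, hq, hu⟩ := (Nat.card_eq_two_iff' (Quotient.mk'' (o, ω) : orbitRel.Quotient G (Ω × Tw β Ω))).1 h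
  obtain ⟨⟨u, v⟩, rfl⟩ := Quotient.mk''_surjective q
  refine ⟨M o ω - M u v, M u v, fun x y => ?_⟩
  unfold inc
  split_ifs with e
  · obtain ⟨g, rfl, rfl⟩ := e; simp [hM]
  · obtain ⟨g, e⟩ := Quotient.exact' (hu (Quotient.mk'' (x, y)) fun e' => by
      obtain ⟨g, e'⟩ := Quotient.exact' e'; exact e ⟨g, congrArg Prod.fst e', congrArg Prod.snd e'⟩)
    rw [← hM g u v, show g • u = x from congrArg Prod.fst e, show β g • (show Ω from v) = y from congrArg Prod.snd e]; simp

omit [Fintype Ω] in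
theorem rank_tw_le [IsPretransitive G Ω] (β : MulAut G) (o ω : Ω) : Nat.card (orbitRel.Quotient G (Ω × Tw β Ω)) = 1 ↔
    orbit ((stabilizer G o).map β.toMonoidHom) ω = Set.univ := by
  rw [Nat.card_eq_one_iff_unique, Set.eq_univ_iff_forall]
  refine ⟨fun ⟨h, _⟩ y => ?_, fun h => ⟨⟨?_⟩, ⟨Quotient.mk'' (o, ω)⟩⟩⟩
  · obtain ⟨g, e⟩ := Quotient.exact' (h.1 (Quotient.mk'' (o, y)) (Quotient.mk'' (o, ω)))
    exact ⟨⟨_, g, congrArg Prod.fst e, rfl⟩, congrArg Prod.snd e⟩
  · suffices k : ∀ q : orbitRel.Quotient G (Ω × Tw β Ω), q = Quotient.mk'' (o, ω) from fun a b => (k a).trans (k b).symm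
    refine fun q => Quotient.inductionOn' q fun ⟨x, y⟩ => Quotient.sound' ?_
    obtain ⟨g, rfl⟩ := exists_smul_eq G o x
    obtain ⟨⟨_, k, h1, rfl⟩, h2⟩ := h ((β g)⁻¹ • (show Ω from y))
    refine ⟨g * k, Prod.ext (show (g * k) • o = g • o by rw [mul_smul, h1]) (show β (g * k) • ω = y from ?_)⟩
    rw [map_mul, mul_smul]; exact (eq_inv_smul_iff.1 h2)

theorem feit_arith {n k x : ℤ} (h0 : 0 < k) (h1 : k < n) (h2 : n ∣ k - x) (h3 : k * (n - k) = x ^ 2 * (n - 1)) : k = 1 ∨ k = n - 1 := by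
  obtain ⟨j, hj⟩ := h2
  obtain rfl : x = k - n * j := by linarith
  have h4 : (k - n * j) ^ 2 ≤ k := by nlinarith
  have h5 : (k - n * j) ^ 2 ≤ n - k := by nlinarith
  rcases le_or_gt j 0 with h | h
  · left; nlinarith [mul_self_le_mul_self h0.le (show k ≤ k - n * j by nlinarith)]
  · right; nlinarith [mul_self_le_mul_self (sub_pos.2 h1).le (show n - k ≤ n * j - k by nlinarith)]

/-- Feit: the square of `α` fixes the conjugacy class of point stabilisers. -/
theorem feit_sq [Finite G] [Nontrivial Ω] (h2 : IsMultiplyPretransitive G Ω 2) (α : MulAut G) (o ω : Ω)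
    (hk : (orbit ((stabilizer G o).map α.toMonoidHom) ω).ncard.Coprime (Fintype.card Ω)) :
    ∃ v : Ω, ∀ g : G, g • o = o → (α * α) g • v = v := by
  classical
  have := isPretransitive_of_is_two_pretransitive (G := G) (α := Ω)
  have hn := Fintype.one_lt_card (α := Ω)
  have lt : ∀ (β : MulAut G) (v : Ω), Nat.card (orbitRel.Quotient G (Ω × Tw β Ω)) ≠ 1 →
      (orbit ((stabilizer G o).map β.toMonoidHom) v).ncard < Fintype.card Ω := fun β v h =>
    Nat.card_eq_fintype_card (α := Ω) ▸ Set.ncard_lt_card (mt (rank_tw_le β o v).2 h)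
  have pos : ∀ (β : MulAut G) (v : Ω), 0 < (orbit ((stabilizer G o).map β.toMonoidHom) v).ncard := fun β v =>
    (Set.ncard_pos).2 ⟨v, mem_orbit_self v⟩
  have h1 : ∀ g : G, fx Ω (α g) = fx Ω g := fx_aut h2 α (by
    have : Nonempty (Ω × Tw α Ω) := ⟨(o, o)⟩
    have := card_orb_pos (G := G) (Ω := Ω × Tw α Ω)
    have : Nat.card (orbitRel.Quotient G (Ω × Tw α Ω)) ≠ 1 := fun e => by
      rw [(rank_tw_le α o ω).1 e, Set.ncard_univ, Nat.card_eq_fintype_card, Nat.coprime_self] at hk; omega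
    omega)
  have r1 := rank_tw h2 α h1
  have r2 := rank_tw h2 (α * α) fun g => (h1 _).trans (h1 g)
  have key : ∀ v : Ω, (orbit ((stabilizer G o).map (α * α).toMonoidHom) v).ncard = 1 ∨
      (orbit ((stabilizer G o).map (α * α).toMonoidHom) v).ncard = Fintype.card Ω - 1 := fun v => by
    obtain ⟨s, t, h⟩ := inc_span r1 o ω (fun y w => ∑ x, inc α o ω x y * inc (α * α) o v x w) fun g y w => by
      obtain ⟨g, rfl⟩ := α.surjective g
      rw [← Equiv.sum_comp (MulAction.toPerm g)]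
      simp only [toPerm_apply, ← MulAut.mul_apply, inc_inv]
    obtain ⟨l, hl⟩ := inc_pair h2 α o ω
    have a1 := lt α ω (by omega)
    have a2 := lt (α * α) v (by omega)
    have a3 := pos α ω
    have a4 := pos (α * α) v
    have e1 := sum_congr rfl fun w (_ : w ∈ univ) => h o w
    rw [sum_comm] at e1
    simp only [← mul_sum, inc_row, ← sum_mul, inc_col, sum_add_distrib, sum_const, card_univ, nsmul_eq_mul] at e1
    have e0 : ∀ x x', ∑ y, inc α o ω x y * inc α o ω x' y =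
        (if x = x' then (orbit ((stabilizer G o).map α.toMonoidHom) ω).ncard - l else 0) + l := fun x x' => by
      split_ifs with e
      exacts [by simp [e, inc_sq, inc_row], by simp [hl x x' e]]
    have e2 := sum_congr rfl fun x (_ : x ∈ univ) => e0 o x
    rw [sum_comm] at e2
    simp only [← mul_sum, inc_row, ← sum_mul, inc_col, sum_add_distrib, sum_const, card_univ, nsmul_eq_mul, sum_ite_eq,
      mem_univ, if_true] at e2
    have e3 : ∑ y, (s * inc α o ω y o + t) * (s * inc α o ω y o + t) =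
        ∑ x, ∑ x', inc (α * α) o v x o * inc (α * α) o v x' o * ∑ y, inc α o ω x y * inc α o ω x' y := by
      simp only [← h, sum_mul_sum]
      rw [sum_comm]
      refine sum_congr rfl fun x _ => sum_comm.trans (sum_congr rfl fun x' _ => ?_)
      rw [mul_sum]; exact sum_congr rfl fun y _ => by ring
    simp only [e0, mul_add, add_mul, mul_mul_mul_comm s _ s, inc_sq, mul_ite, mul_zero, sum_add_distrib, sum_ite_eq, mem_univ,
      if_true, ← mul_sum, ← sum_mul, inc_col, sum_const, card_univ, nsmul_eq_mul] at e3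
    rw [Nat.coprime_comm, ← Nat.isCoprime_iff_coprime] at hk
    zify [hn.le] at a1 a2 a3 a4 hn ⊢
    generalize ((orbit ((stabilizer G o).map α.toMonoidHom) ω).ncard : ℤ) = k at *
    generalize ((orbit ((stabilizer G o).map (α * α).toMonoidHom) v).ncard : ℤ) = m at *
    generalize (Fintype.card Ω : ℤ) = n at *
    refine feit_arith (x := s) a4 a2 (hk.dvd_of_dvd_mul_left ⟨t, by linarith⟩) (mul_left_cancel₀ (a := k * (n - k))
      (mul_pos a3 (sub_pos.2 a1)).ne' ?_)
    have e4 : (k - l) * (n - 1) = k * (n - k) := by linarith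
    have e5 : (k - l) * (m * (n - m)) = s ^ 2 * (k * (n - k)) := by
      linear_combination -n * e3 - (k * m + s * k + n * t) * e1 + m ^ 2 * e2
    rw [← e4]; linear_combination (n - 1) * e5 - s ^ 2 * (n - 1) * e4
  obtain ⟨v, hv⟩ : ∃ v : Ω, (orbit ((stabilizer G o).map (α * α).toMonoidHom) v).ncard = 1 := by
    by_contra! h
    have := dvd_ncard_of_orbits (G := (stabilizer G o).map (α * α).toMonoidHom) (d := Fintype.card Ω - 1) (Set.univ : Set Ω)
      (fun _ _ _ => trivial) fun v _ => ((key v).resolve_left (h v)).symm.dvd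
    rw [Set.ncard_univ, Nat.card_eq_fintype_card] at this
    have := Nat.le_of_dvd (by omega) (Nat.dvd_sub this (dvd_refl _))
    have := (key o).resolve_left (h o)
    have := h o
    omega
  rw [ncard_orbit_sub, relIndex_eq_one] at hv
  exact ⟨v, fun g hg => hv ⟨g, hg, rfl⟩⟩

theorem perm_of_fix [IsPretransitive G Ω] {β : MulAut G} {o v : Ω} (h : ∀ g : G, g • o = o → β g • v = v) :
    ∃ σ : Equiv.Perm Ω, ∀ (g : G) x, σ (g • x) = β g • σ x := by
  choose f hf using exists_smul_eq G o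
  have h1 : ∀ (g : G) x, β (f (g • x)) • v = β g • β (f x) • v := fun g x => by
    rw [← mul_smul, ← map_mul, ← inv_smul_eq_iff, ← mul_smul, ← map_inv, ← map_mul]
    exact h _ (by simp [mul_smul, hf, inv_smul_eq_iff])
  refine ⟨Equiv.ofBijective (fun x => β (f x) • v) (Finite.injective_iff_bijective.1 (Finite.injective_iff_surjective.2 fun y => ?_)), h1⟩
  obtain ⟨g, rfl⟩ := exists_smul_eq G (β (f o) • v) y
  obtain ⟨g, rfl⟩ := β.surjective g
  exact ⟨g • o, h1 g o⟩

theorem feit_aut [Finite G] (h2 : IsMultiplyPretransitive G Ω 2) (α : MulAut G) (hα : Odd (orderOf α)) (o ω : Ω)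
    (hk : (orbit ((stabilizer G o).map α.toMonoidHom) ω).ncard.Coprime (Fintype.card Ω)) :
    ∃ σ : Equiv.Perm Ω, ∀ (g : G) x, σ (g • x) = α g • σ x := by
  rcases subsingleton_or_nontrivial Ω with h | h
  · exact ⟨1, fun _ _ => Subsingleton.elim _ _⟩
  have := isPretransitive_of_is_two_pretransitive (G := G) (α := Ω)
  obtain ⟨v, hv⟩ := feit_sq h2 α o ω hk
  obtain ⟨σ, hσ⟩ := perm_of_fix hv
  have h1 : ∀ (j : ℕ) (g : G) x, (σ ^ j) (g • x) = ((α * α) ^ j) g • (σ ^ j) x := fun j => by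
    induction j with
    | zero => simp
    | succ j ih => intro g x; simp only [pow_succ, Equiv.Perm.mul_apply, hσ, ih, MulAut.mul_apply]
  obtain ⟨j, hj⟩ := hα
  refine ⟨σ ^ (j + 1), fun g x => ?_⟩
  rw [h1, ← sq, ← pow_mul, show 2 * (j + 1) = orderOf α + 1 by omega, pow_succ, pow_orderOf_eq_one, one_mul]

end CfsgPm
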