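import Cfsg.Agent.H3.Sy2
import Cfsg.Agent.H3.Sn1
import Cfsg.Agent.H3.Burnside
import Cfsg.Agent.Lead.GenFitting

set_option autoImplicit false

/-! Quasisimple normal subgroups of permutation groups containing a three-cycle. -/
namespace CfsgPm
open Equiv Equiv.Perm Subgroup CfsgH2 MulAction Cfsg CfsgLead Finset

theorem qs_dich {G : Type*} [Group G] {L : Subgroup G} (hL : IsQuasisimple L) {d : G} (hd : d ∈ normalizer (L : Set G)) :
    L ≤ centralizer {d} ∨ L ≤ closure {x | ∃ l ∈ L, x = l * d * l⁻¹} := by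
  set N := closure {x | ∃ l ∈ L, x = l * d * l⁻¹}
  have n : L ≤ normalizer (N : Set G) := by
    have k : ∀ l ∈ L, ∀ x ∈ N, l * x * l⁻¹ ∈ N := fun l hl => cj_le_iff.1 (map_le_iff_le_comap.2 ((closure_le _).2 (by
      rintro _ ⟨m, hm, rfl⟩; exact subset_closure ⟨l * m, mul_mem hl hm, by simp [mul_assoc]⟩)))
    exact fun l hl x => ⟨k l hl x, fun h => by simpa [mul_assoc] using k _ (inv_mem hl) _ h⟩
  refine (qs_normal hL inf_le_left (le_normalizer_inf le_normalizer n)).symm.imp (fun h => ?_) fun h => h.ge.trans inf_le_right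
  rw [← centralizer_closure, ← zpowers_eq_closure, ← commutator_eq_bot_iff_le_centralizer]
  exact commutator_eq_bot_of_perfect (qs_perfect hL) (eq_bot_iff.2 (h.le.trans' (commutator_mono (le_inf (commutator_le_of_le_normalizer_right (zpowers_le.2 hd))
    ((commutator_le_of_le_normalizer_left (H := N) n).trans' (commutator_mono (zpowers_le.2 (subset_closure ⟨1, one_mem _, by simp⟩)) le_rfl))) le_rfl)))

theorem qs_cent {G : Type*} [Group G] {L : Subgroup G} (hL : IsQuasisimple L) {d : G} (hd : d ∈ normalizer (L : Set G))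
    (h : ∀ l ∈ L, Commute d (l * d * l⁻¹)) : L ≤ centralizer {d} := (qs_dich hL hd).resolve_right fun q => by
  haveI := isMulCommutative_closure (k := {x | ∃ l ∈ L, x = l * d * l⁻¹}) (by
    rintro _ ⟨l, hl, rfl⟩ _ ⟨m, hm, rfl⟩
    simpa [mul_assoc] using ((h _ (mul_mem (inv_mem hl) hm)).map (MulAut.conj l)).eq)
  exact qs_commutator_ne_bot hL (commutator_eq_bot_iff_le_centralizer.2 fun x hx y hy => setLike_mul_comm (q hy) (q hx))

variable {Ω : Type*} [Fintype Ω] [DecidableEq Ω] {L H : Subgroup (Perm Ω)} (hL : IsQuasisimple L) (hn : H ≤ normalizer (L : Set (Perm Ω)))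
  (hc : H ⊓ centralizer (L : Set (Perm Ω)) ≤ L)
include hL hn hc

theorem qs_three {c : Perm Ω} (hm : c ∈ H) (h3 : c.IsThreeCycle) :
    ∃ D : Finset Ω, Nonempty (L ≃* alternatingGroup D) ∧ (∀ g ∈ L, g.support ⊆ D) ∧ ∀ x ∈ D, ∃ g ∈ L, g x ≠ x := by
  obtain ⟨x, hx, -⟩ := id h3.isCycle
  have q := (qs_dich hL (hn hm)).resolve_left fun q => by
    have k : ∀ l ∈ L, ∃ i : ℤ, ∀ y ∈ c.support, l y = (c ^ i) y := fun l hl => by
      have e : Commute l c := mem_centralizer_singleton_iff.1 (q hl)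
      obtain ⟨i, hi⟩ := h3.isCycle.sameCycle hx (mem_support.1 ((mem_support_iff_of_commute e x).2 (mem_support.2 hx)))
      refine ⟨i, fun y hy => ?_⟩
      obtain ⟨j, rfl⟩ := h3.isCycle.sameCycle hx (mem_support.1 hy)
      rw [← mul_apply, (e.zpow_right j).eq, mul_apply, ← hi, ← mul_apply, zpow_mul_comm, mul_apply]
    refine hx ((qs_perfect hL).ge.trans (commutator_le.2 fun l hl m hm => ?_ : _ ≤ stabilizer _ x) (hc ⟨hm, fun l hl => mem_centralizer_singleton_iff.1 (q hl)⟩))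
    obtain ⟨i, hi⟩ := k _ (inv_mem hl)
    obtain ⟨j, hj⟩ := k _ (inv_mem hm)
    have := mem_support.2 hx
    show l (m (l⁻¹ (m⁻¹ x))) = x
    rw [← eq_inv_iff_eq, ← eq_inv_iff_eq, hj x this, hi x this, hi _ (by simpa), hj _ (by simpa), ← mul_apply, zpow_mul_comm, mul_apply]
  set S := {x | ∃ l ∈ L, x = l * c * l⁻¹}
  have cN : c ∈ closure S := subset_closure ⟨1, one_mem _, by simp⟩
  classical
  let D := univ.filter (· ∈ orbit (closure S) x)
  have s : S ⊆ (ofSubtype : Perm D →* Perm Ω).range := by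
    rintro _ ⟨l, hl, rfl⟩
    refine Perm.mem_range_ofSubtype_iff.2 fun y hy => ?_
    obtain ⟨j, hj⟩ := h3.isCycle.sameCycle hx (show c (l⁻¹ y) ≠ l⁻¹ y by simpa [eq_inv_iff_eq] using hy)
    simpa [D] using ⟨⟨l * c ^ j, mul_mem (q hl) (zpow_mem cN j)⟩, by simp [Subgroup.smul_def, hj]⟩
  have r := (closure_le _).2 s
  have e : (closure S).comap (ofSubtype : Perm D →* Perm Ω) = closure (ofSubtype ⁻¹' S) := by
    rw [← comap_map_eq_self_of_injective ofSubtype_injective (closure _), MonoidHom.map_closure, Set.image_preimage_eq_of_subset s]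
  have t : ∀ g : Perm D, ofSubtype g ∈ S → g.IsThreeCycle := fun g ⟨l, _, h⟩ => cycleType_ofSubtype.symm.trans (h ▸ (cycleType_conj.trans h3))
  haveI : IsPretransitive ((closure S).comap (ofSubtype : Perm D →* Perm Ω)) D := ⟨fun y z => by
    obtain ⟨g, hg⟩ := (mem_filter_univ _).1 y.2
    obtain ⟨h, hh⟩ := (mem_filter_univ _).1 z.2
    obtain ⟨u, hu⟩ := r (h * g⁻¹).2
    refine ⟨⟨u, show _ ∈ closure S from hu ▸ (h * g⁻¹).2⟩, Subtype.ext ((ofSubtype_apply_coe u y).symm.trans ?_)⟩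
    rw [hu, ← hg, ← hh]; simp [Subgroup.smul_def]⟩
  obtain ⟨u, hu⟩ := r cN
  have a := alt_le_of_gen (e.le.trans (closure_mono fun g hg => ⟨subset_closure hg, t g hg⟩)) (show _ ∈ closure S from hu ▸ cN) (t u ⟨1, one_mem _, by simp [hu]⟩)
  have b : closure S ≤ alternatingGroup Ω ⊓ normalizer (L : Set (Perm Ω)) := (closure_le _).2 (by
    rintro _ ⟨l, hl, rfl⟩
    exact ⟨alternatingGroup.normal.conj_mem _ h3.mem_alternatingGroup _, mul_mem (mul_mem (le_normalizer hl) (hn hm)) (le_normalizer (inv_mem hl))⟩)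
  have i : Nonempty (L ≃* L.comap (ofSubtype : Perm D →* Perm Ω)) :=
    ⟨((equivMapOfInjective _ _ ofSubtype_injective).trans (.subgroupCongr (map_comap_eq_self (q.trans r)))).symm⟩
  have h5 : 5 ≤ Nat.card D := by_contra fun h => by
    haveI : Group.IsSolvable (Perm D) := CfsgH3.isSolvable_of_card_dvd_pow_mul_pow Nat.prime_two Nat.prime_three (a := 3) (b := 1) (by rw [Nat.card_perm]; exact Nat.factorial_dvd_factorial (show _ ≤ 4 by omega))
    exact qs_not_solvable hL (Group.isSolvable_of_isSolvable_injective (f := i.some.toMonoidHom) i.some.injective)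
  haveI := alternatingGroup.isSimpleGroup h5
  have f : L.comap (ofSubtype : Perm D →* Perm Ω) = alternatingGroup D := le_antisymm (fun g hg => (sign_ofSubtype g).symm.trans (b (q hg)).1) (subgroupOf_eq_top.1
    ((Normal.eq_bot_or_eq_top ⟨fun g hg h => show ofSubtype _ ∈ L by simpa using conj_mem_of_mem_normalizer (b (a h.2)).2 hg⟩).resolve_left fun z => qs_ne_bot hL (eq_bot_iff.2 fun g hg => by
      obtain ⟨g, rfl⟩ := r (q hg)
      simpa using congrArg (fun g => ofSubtype g.1) (mem_bot.1 (z.le (show (⟨g, (sign_ofSubtype g).symm.trans (b (q hg)).1⟩ : alternatingGroup D) ∈ _ from hg))))))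
  refine ⟨D, f ▸ i, fun g hg => Perm.mem_range_ofSubtype_iff.1 (r (q hg)), fun y hy => ?_⟩
  haveI := alternatingGroup.isPretransitive_of_three_le_card D (by omega)
  obtain ⟨z, hz⟩ := @exists_ne D (Finite.one_lt_card_iff_nontrivial.1 (by omega)) ⟨y, hy⟩
  obtain ⟨g, hg⟩ := exists_smul_eq (alternatingGroup D) ⟨y, hy⟩ z
  exact ⟨_, f.ge g.2, fun h => hz (Subtype.ext (hg ▸ (ofSubtype_apply_coe g.1 ⟨y, hy⟩).symm.trans h))⟩

theorem qs_main {c : Perm Ω} (hm : c ∈ H) (h3 : c.IsThreeCycle) {p k : ℕ} [hp : Fact p.Prime] {S G : Subgroup (Perm Ω)} (hS : IsSylowIn p S G) (l : S ≤ H)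
    (ex : ∀ U : Finset Ω, k < #U → ∃ e ∈ G, orderOf e = p ∧ e.support ⊆ U) :
    ∃ m, m ≤ Fintype.card Ω ∧ Fintype.card Ω ≤ m + k ∧ Nonempty (L ≃* alternatingGroup (Fin m)) := by
  obtain ⟨D, ⟨i⟩, a, b⟩ := qs_three hL hn hc hm h3
  refine ⟨#D, card_le_univ _, by_contra fun q => ?_, ⟨i.trans D.equivFin.altCongrHom⟩⟩
  obtain ⟨e, he, o, s⟩ := ex Dᶜ (by rw [card_compl]; omega)
  have v : ∀ h ∈ H, ∀ x ∈ D, h x ∈ D := fun h hh x hx => by
    obtain ⟨g, hg, n⟩ := b x hx
    exact a _ (conj_mem_of_mem_normalizer (hn hh) hg) (by simpa using n)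
  let K := (fixingSubgroup (Perm Ω) (D : Set Ω))
  have := (hS.mono (K := G ⊓ normalizer (K : Set _)) (le_inf hS.le fun h hh => mem_normalizer_of_conj_mem fun g hg x => by
    simpa [← eq_inv_iff_eq] using hg ⟨_, v _ (inv_mem (l hh)) _ x.2⟩) inf_le_left).inf_of_normalizer inf_le_right
  have eK : e ∈ K := fun x => notMem_support.1 fun h => mem_compl.1 (s h) x.2
  refine this.eq_bot_iff.1 (eq_bot_iff.2 fun d ⟨hd, k⟩ => ?_) (o ▸ Subgroup.orderOf_dvd_natCard _ ⟨⟨he, le_normalizer eK⟩, eK⟩)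
  have f : ∀ x, d x = x ∨ x ∉ D := fun x => or_iff_not_imp_right.2 fun h => k ⟨x, not_not.1 h⟩
  have := a d (hc ⟨l hd, fun g hg => (Perm.Disjoint.commute fun x => (f x).symm.imp_left fun h => notMem_support.1 (mt (a g hg ·) h)).eq⟩)
  exact Perm.ext fun x => (f x).elim id fun h => notMem_support.1 (mt (this ·) h)

end CfsgPm
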