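import Mathlib

set_option autoImplicit false

/-! Two primes in `(n/2, n]` for `n ≥ 11`. -/
namespace CfsgPm
open Nat

theorem cb_le (n : ℕ) (hn : 2 < n) (q : ℕ) (h : ∀ p : ℕ, p.Prime → n < p → p ≤ 2 * n → p = q) :
    centralBinom n ≤ 2 * n * ((2 * n) ^ sqrt (2 * n) * 4 ^ (2 * n / 3)) := by
  have n_pos : 0 < n := (Nat.zero_le _).trans_lt hn
  have n2_pos : 1 ≤ 2 * n := mul_pos (zero_lt_two' ℕ) n_pos
  let S := {p ∈ Finset.range (2 * n / 3 + 1) | Nat.Prime p}
  let f x := x ^ n.centralBinom.factorization x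
  have f1 : ∀ x, ¬ x.Prime → f x = 1 := fun x h => by
    dsimp only [f]; rw [factorization_eq_zero_of_not_prime n.centralBinom h, _root_.pow_zero]
  have f2 : ∀ x, 1 ≤ f x := fun x => by
    by_cases h : x.Prime
    · exact Nat.one_le_pow _ _ h.pos
    · exact (f1 x h).ge
  have fq : ∀ p, f p ≤ 2 * n := fun p => pow_factorization_choose_le (mul_pos two_pos n_pos)
  have a : centralBinom n ≤ ∏ x ∈ insert q S, f x := by
    rw [← n.prod_pow_factorization_centralBinom, ← Finset.prod_filter_ne_one]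
    refine Finset.prod_le_prod_of_subset_of_one_le' (fun x hx => ?_) fun x _ _ => f2 x
    obtain ⟨h1, h2⟩ := Finset.mem_filter.1 hx
    have px : x.Prime := by_contra fun c => h2 (f1 x c)
    rw [Finset.mem_range] at h1
    by_cases c : n < x
    · exact Finset.mem_insert.2 (.inl (h x px c (by omega)))
    · refine Finset.mem_insert_of_mem (Finset.mem_filter.2 ⟨Finset.mem_range.2 (by_contra fun d => h2 ?_), px⟩)
      rw [factorization_centralBinom_of_two_mul_self_lt_three_mul hn (not_lt.1 c) (by omega), Nat.pow_zero]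
  have b : ∏ x ∈ insert q S, f x ≤ 2 * n * ∏ x ∈ S, f x := by
    by_cases c : q ∈ S
    · rw [Finset.insert_eq_of_mem c]; exact Nat.le_mul_of_pos_left _ n2_pos
    · rw [Finset.prod_insert c]; exact Nat.mul_le_mul_right _ (fq q)
  refine a.trans (b.trans (Nat.mul_le_mul_left _ ?_))
  rw [← Finset.prod_filter_mul_prod_filter_not S (· ≤ sqrt (2 * n))]
  apply mul_le_mul'
  · refine (Finset.prod_le_prod' fun p _ => fq p).trans ?_
    have : (Finset.Icc 1 (sqrt (2 * n))).card = sqrt (2 * n) := by rw [card_Icc, Nat.add_sub_cancel]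
    rw [Finset.prod_const]
    refine pow_right_mono₀ n2_pos ((Finset.card_le_card fun x hx => ?_).trans this.le)
    obtain ⟨h1, h2⟩ := Finset.mem_filter.1 hx
    exact Finset.mem_Icc.mpr ⟨(Finset.mem_filter.1 h1).2.one_lt.le, h2⟩
  · refine le_trans ?_ (primorial_le_four_pow (2 * n / 3))
    refine (Finset.prod_le_prod' fun p hp => (?_ : f p ≤ p)).trans ?_
    · obtain ⟨h1, h2⟩ := Finset.mem_filter.1 hp
      refine (pow_right_mono₀ (Finset.mem_filter.1 h1).2.one_lt.le ?_).trans (pow_one p).le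
      exact Nat.factorization_choose_le_one (sqrt_lt'.mp <| not_le.1 h2)
    refine Finset.prod_le_prod_of_subset_of_one_le' (Finset.filter_subset _ _) ?_
    exact fun p hp _ => (Finset.mem_filter.1 hp).2.one_lt.le

theorem cb_ineq (m : ℕ) (hm : 722 ≤ m) : m * (2 * m * ((2 * m) ^ sqrt (2 * m) * 4 ^ (2 * m / 3))) ≤ 4 ^ m := by
  have s1 := Nat.sqrt_le' (2 * m)
  have s2 := Nat.lt_succ_sqrt' (2 * m)
  have s3 : 38 ≤ sqrt (2 * m) := Nat.le_sqrt'.2 (by omega)
  generalize sqrt (2 * m) = s at *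
  obtain ⟨k, hk, k1, k2⟩ : ∃ k, 6 ≤ k ∧ 6 * k + 2 ≤ s ∧ s + 1 ≤ 6 * k + 8 := ⟨(s - 2) / 6, by omega, by omega, by omega⟩
  have p : 6 * k + 8 ≤ 2 ^ k := by
    clear k1 k2
    induction k, hk using Nat.le_induction with
    | base => norm_num
    | succ j _ ih => rw [pow_succ]; omega
  have q : 2 * m ≤ 4 ^ k := by
    have : 4 ^ k = (2 ^ k) ^ 2 := by rw [← pow_mul, mul_comm, pow_mul]; norm_num
    rw [this]
    exact s2.le.trans (Nat.pow_le_pow_left (k2.trans p) 2)
  have r : k * (s + 2) + 2 * m / 3 ≤ m := by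
    have : 6 * (k * (s + 2)) + 4 ≤ s ^ 2 := by nlinarith
    omega
  calc _ ≤ 4 ^ k * (4 ^ k * ((4 ^ k) ^ s * 4 ^ (2 * m / 3))) := by gcongr; omega
    _ = 4 ^ (k * (s + 2) + 2 * m / 3) := by ring
    _ ≤ _ := Nat.pow_le_pow_right (by norm_num) r

theorem two_small : ∀ n < 1444, 11 ≤ n → ∃ p ∈ [7, 11, 13, 19, 23, 37, 43, 73, 83, 139, 163, 277, 317, 547, 631, 1093, 1259],
    ∃ q ∈ [7, 11, 13, 19, 23, 37, 43, 73, 83, 139, 163, 277, 317, 547, 631, 1093, 1259], p < q ∧ n < 2 * p ∧ q ≤ n := by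
  decide +kernel

theorem two_primes (n : ℕ) (hn : 11 ≤ n) : ∃ p q : ℕ, p.Prime ∧ q.Prime ∧ p < q ∧ n < 2 * p ∧ q ≤ n := by
  rcases lt_or_ge n 1444 with h | h
  · obtain ⟨p, hp, q, hq, e⟩ := two_small n h hn
    have : ∀ p ∈ [7, 11, 13, 19, 23, 37, 43, 73, 83, 139, 163, 277, 317, 547, 631, 1093, 1259], Nat.Prime p := by
      simp only [List.mem_cons, List.not_mem_nil, or_false, forall_eq_or_imp, forall_eq]; norm_num
    exact ⟨p, q, this p hp, this q hq, e⟩
  · by_contra c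
    obtain ⟨q, hq, q1, q2⟩ := Nat.exists_prime_lt_and_le_two_mul (n / 2) (by omega)
    have := cb_le (n / 2) (by omega) q fun p hp p1 p2 => by
      rcases lt_trichotomy p q with e | e | e
      · exact (c ⟨p, q, hp, hq, e, by omega, by omega⟩).elim
      · exact e
      · exact (c ⟨q, p, hq, hp, e, by omega, by omega⟩).elim
    exact (Nat.four_pow_lt_mul_centralBinom (n / 2) (by omega)).not_ge
      ((Nat.mul_le_mul_left _ this).trans (cb_ineq _ (by omega)))

end CfsgPm
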