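import Cfsg.Agent.H3.Ram
import Cfsg.Agent.H1.Cores

set_option autoImplicit false

/-! Groups with the order and spectrum of an alternating group. -/
namespace CfsgPm
open Subgroup Cfsg CfsgH1

variable {G : Type*} [Group G] [Finite G]

theorem ord_pq (K : Subgroup G) [K.Normal] {r s : ℕ} (hr : r.Prime) (hs : s.Prime) (ne : r ≠ s) (h1 : r ∣ Nat.card K)
    (h2 : s ∣ K.index) (h3 : ¬ s ∣ r ^ (Nat.card K).factorization r - 1) : ∃ g : G, orderOf g = r * s := by
  haveI := Fact.mk hr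
  haveI := Fact.mk hs
  obtain ⟨P⟩ : Nonempty (Sylow r K) := inferInstance
  have e := P.normalizer_sup_eq_top
  have c : Nat.card (P.1.map K.subtype) = r ^ (Nat.card K).factorization r := by
    rw [card_map_of_injective K.subtype_injective, P.card_eq_multiplicity]
  generalize P.1.map K.subtype = R at e c
  rw [← relIndex_top_right, ← e, relIndex_sup_right] at h2
  obtain ⟨x, hx⟩ := exists_prime_orderOf_dvd_card' s (h2.trans (relIndex_dvd_card _ _))
  have p : IsPGroup s (zpowers (R.normalizerMonoidHom x)) := by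
    rintro ⟨_, k, rfl⟩
    refine ⟨1, Subtype.ext ?_⟩
    show (R.normalizerMonoidHom x ^ k) ^ s ^ 1 = 1
    rw [pow_one, ← zpow_natCast, ← zpow_mul, mul_comm, zpow_mul, zpow_natCast, ← map_pow, ← hx, pow_orderOf_eq_one, map_one, one_zpow]
  obtain ⟨y, y1, y2⟩ : ∃ y : R, y ≠ 1 ∧ R.normalizerMonoidHom x y = y := by
    by_contra! n
    have := p.card_modEq_card_fixedPoints R
    have u : ∀ a : MulAction.fixedPoints (zpowers (R.normalizerMonoidHom x)) R, a.1 = 1 := fun a =>
      by_contra fun h => n a h (a.2 ⟨_, mem_zpowers _⟩)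
    have v : Nat.card (MulAction.fixedPoints (zpowers (R.normalizerMonoidHom x)) R) = 1 :=
      Nat.card_eq_one_iff_unique.2 ⟨⟨fun a b => Subtype.ext ((u a).trans (u b).symm)⟩, ⟨⟨1, fun g => map_one g.1⟩⟩⟩
    rw [c, v] at this
    exact h3 ((Nat.modEq_iff_dvd' (Nat.one_le_pow _ _ hr.pos)).1 this.symm)
  have d : r ∣ orderOf y := by
    obtain ⟨k, -, hk⟩ := (Nat.dvd_prime_pow hr).1 (c ▸ orderOf_dvd_natCard y)
    exact hk ▸ dvd_pow_self r fun h => y1 (orderOf_eq_one_iff.1 (by rw [hk, h, pow_zero]))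
  have m : Commute (y : G) x := (mul_inv_eq_iff_eq_mul.1 (congrArg Subtype.val y2)).symm
  have o : orderOf ((y : G) ^ (orderOf y / r)) = r := by
    rw [← orderOf_coe] at d ⊢; exact orderOf_pow_orderOf_div (orderOf_pos _).ne' d
  rw [← orderOf_coe] at hx
  exact ⟨_, by rw [(m.pow_left _).orderOf_mul_eq_mul_orderOf_of_coprime (by rw [o, hx]; exact (Nat.coprime_primes hr hs).2 ne), o, hx]⟩

theorem chief_p {p : ℕ} (hp : p.Prime) (h1 : p ∣ Nat.card G) (h2 : ¬ p ^ 2 ∣ Nat.card G) :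
    ∃ (N H : Subgroup G) (_ : N.Normal), H.Normal ∧ N < H ∧ IsSimpleGroup (H ⧸ N.subgroupOf H) ∧ ¬ p ∣ Nat.card N ∧ p ∣ Nat.card H := by
  haveI := Fact.mk hp
  obtain ⟨x, hx⟩ := exists_prime_orderOf_dvd_card' p h1
  let H := normalClosure {x}
  have xH : x ∈ H := subset_normalClosure rfl
  have dH : p ∣ Nat.card H := hx ▸ orderOf_dvd_natCard H xH
  have dN : ¬ p ∣ Nat.card ↥(pPrimeCore p G ⊓ H) := fun h => not_dvd_card_pPrimeCore p G (h.trans (card_dvd_of_le inf_le_left))
  have lt : pPrimeCore p G ⊓ H < H := inf_le_right.lt_of_ne fun e => dN (e.symm ▸ dH)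
  refine ⟨pPrimeCore p G ⊓ H, H, inferInstance, inferInstance, lt, ?_, dN, dH⟩
  haveI : Nontrivial (H ⧸ (pPrimeCore p G ⊓ H).subgroupOf H) :=
    QuotientGroup.nontrivial_iff.2 fun e => lt.not_ge (subgroupOf_eq_top.1 e)
  refine ⟨fun T hT => ?_⟩
  by_cases d : p ∣ Nat.card (T.comap (QuotientGroup.mk' _))
  · refine .inr (comap_injective (QuotientGroup.mk'_surjective _) ?_)
    rw [comap_top]
    generalize hU : T.comap (QuotientGroup.mk' _) = U at d
    haveI : U.Normal := hU ▸ hT.comap _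
    have i : ¬ p ∣ U.index := fun h => h2 ((sq p ▸ Nat.mul_dvd_mul d h).trans (U.card_mul_index ▸ card_subgroup_dvd_card H))
    have k : ∀ y : H, orderOf y = p → y ∈ U := fun y hy => by
      rw [← QuotientGroup.eq_one_iff, ← orderOf_eq_one_iff]
      exact Nat.eq_one_of_dvd_coprimes ((Nat.Prime.coprime_iff_not_dvd hp).2 i) (hy ▸ orderOf_map_dvd (QuotientGroup.mk' U) y)
        (orderOf_dvd_natCard _)
    have : H ≤ U.map H.subtype := (closure_le _).2 fun y hy => by
      obtain ⟨_, rfl, c⟩ := Group.mem_conjugatesOfSet_iff.1 hy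
      obtain ⟨g, rfl⟩ := isConj_iff.1 c
      exact ⟨⟨_, (inferInstance : H.Normal).conj_mem _ xH g⟩, k _ (by
        rw [orderOf_mk, ← MulAut.conj_apply, MulEquiv.orderOf_eq, hx]), rfl⟩
    exact top_le_iff.1 fun y _ => by obtain ⟨z, hz, e⟩ := this y.2; exact Subtype.ext e ▸ hz
  · refine .inl (eq_bot_iff.2 fun y hy => ?_)
    obtain ⟨y, rfl⟩ := QuotientGroup.mk'_surjective _ y
    haveI := hT.comap (QuotientGroup.mk' _)
    exact (QuotientGroup.eq_one_iff _).2 ⟨map_pPrimeCore_le_of_isSubnormal (Normal.isSubnormal inferInstance)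
      ⟨y, le_pPrimeCore ((Nat.Prime.coprime_iff_not_dvd hp).2 d).symm hy, rfl⟩, y.2⟩

theorem ord_sec {N H : Subgroup G} [N.Normal] (c : IsMulCommutative (H ⧸ N.subgroupOf H)) {r s : ℕ} (hr : r.Prime) (hs : s.Prime)
    (ne : r ≠ s) (h1 : r ∣ Nat.card (H ⧸ N.subgroupOf H)) (h2 : s ∣ Nat.card (H ⧸ N.subgroupOf H)) : ∃ g : G, orderOf g = r * s := by
  haveI := Fact.mk hr
  haveI := Fact.mk hs
  obtain ⟨x, hx⟩ := exists_prime_orderOf_dvd_card' r h1
  obtain ⟨y, hy⟩ := exists_prime_orderOf_dvd_card' s h2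
  have o := (show Commute x y from c.1.1 x y).orderOf_mul_eq_mul_orderOf_of_coprime (by rw [hx, hy]; exact (Nat.coprime_primes hr hs).2 ne)
  obtain ⟨z, e⟩ := QuotientGroup.mk'_surjective _ (x * y)
  have d := orderOf_map_dvd (QuotientGroup.mk' (N.subgroupOf H)) z
  rw [e, o, hx, hy, ← orderOf_coe] at d
  exact ⟨_, orderOf_pow_orderOf_div (orderOf_pos _).ne' d⟩

theorem card_sec {N H : Subgroup G} (h : N ≤ H) : Nat.card H = Nat.card (H ⧸ N.subgroupOf H) * Nat.card N := by
  rw [card_eq_card_quotient_mul_card_subgroup (N.subgroupOf H), Nat.card_congr (subgroupOfEquivOfLe h).toEquiv]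

theorem ex_dvd_lcm {p : ℕ} (hp : p.Prime) (s : Multiset ℕ) (h : p ∣ s.lcm) : ∃ a ∈ s, p ∣ a := by
  induction s using Multiset.induction_on with
  | empty => exact absurd (Nat.dvd_one.1 h) hp.ne_one
  | cons a s ih =>
    rw [Multiset.lcm_cons] at h
    rcases (Nat.Prime.dvd_mul hp).1 (h.trans (Nat.lcm_dvd_mul a _)) with h | h
    · exact ⟨a, Multiset.mem_cons_self _ _, h⟩
    · obtain ⟨b, hb, h⟩ := ih h
      exact ⟨b, Multiset.mem_cons_of_mem hb, h⟩

theorem perm_pq {n r s : ℕ} (hr : r.Prime) (hs : s.Prime) (ne : r ≠ s) (g : Equiv.Perm (Fin n)) (h : orderOf g = r * s) : r + s ≤ n := by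
  obtain ⟨a, ha, d⟩ := ex_dvd_lcm hr g.cycleType (by rw [g.lcm_cycleType, h]; exact dvd_mul_right _ _)
  obtain ⟨b, hb, e⟩ := ex_dvd_lcm hs g.cycleType (by rw [g.lcm_cycleType, h]; exact dvd_mul_left _ _)
  have l := g.sum_cycleType_le
  rw [Fintype.card_fin] at l
  have a2 := Equiv.Perm.two_le_of_mem_cycleType ha
  have b2 := Equiv.Perm.two_le_of_mem_cycleType hb
  by_cases c : b = a
  · subst c
    have := Nat.le_of_dvd (by omega) (((Nat.coprime_primes hr hs).2 ne).mul_dvd_of_dvd_of_dvd d e)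
    have := Multiset.single_le_sum (fun _ _ => Nat.zero_le _) _ ha
    nlinarith [hr.two_le, hs.two_le]
  · obtain ⟨t, ht⟩ := Multiset.exists_cons_of_mem ha
    rw [ht] at l hb
    have := Multiset.single_le_sum (fun _ _ => Nat.zero_le _) _ ((Multiset.mem_cons.1 hb).resolve_left c)
    rw [Multiset.sum_cons] at l
    have := Nat.le_of_dvd (by omega) d
    have := Nat.le_of_dvd (by omega) e
    omega

theorem alt_no {n : ℕ} (hs : Set.range (orderOf : G → ℕ) = Set.range (orderOf : alternatingGroup (Fin n) → ℕ)) {r s : ℕ}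
    (hr : r.Prime) (hq : s.Prime) (ne : r ≠ s) (h : n < r + s) : ¬ ∃ g : G, orderOf g = r * s := fun e => by
  obtain ⟨g, e⟩ := hs.le e
  exact h.not_ge (perm_pq hr hq ne g ((orderOf_coe g).trans e))

theorem alt_fac {n : ℕ} (hn : 5 ≤ n) (hc : Nat.card G = Nat.card (alternatingGroup (Fin n))) {p : ℕ} (h : p ≠ 2) :
    (Nat.card G).factorization p = n.factorial.factorization p := by
  haveI : Nontrivial (Fin n) := Fin.nontrivial_iff_two_le.2 (by omega)
  have := two_mul_nat_card_alternatingGroup (α := Fin n)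
  rw [Nat.card_perm, Nat.card_fin, ← hc] at this
  rw [← this, Nat.factorization_mul two_ne_zero Nat.card_pos.ne', Finsupp.add_apply, Nat.prime_two.factorization,
    Finsupp.single_eq_of_ne h, zero_add]

theorem alt_one {n : ℕ} (hn : 5 ≤ n) (hc : Nat.card G = Nat.card (alternatingGroup (Fin n))) {p : ℕ} (hp : p.Prime) (h1 : n < 2 * p)
    (h2 : p ≤ n) : (Nat.card G).factorization p = 1 := by
  rw [alt_fac hn hc (by omega), Nat.factorization_factorial hp (b := 2) (Nat.log_lt_of_lt_pow (by omega) (by nlinarith [hp.two_le]))]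
  simp only [Nat.Ico_succ_singleton, Finset.sum_singleton, pow_one]
  exact Nat.div_eq_of_lt_le (by omega) (by omega)

end CfsgPm
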