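import Cfsg.Agent.H7.Diag
import Cfsg.Agent.H7.Grp

set_option autoImplicit false

/-! Kernel data for the Sylow 2-subgroups of the symmetric group of degree 8. -/
namespace CfsgS8
open CfsgH7

abbrev A := permAct 8 ⟨8, 3, 7⟩ ⟨⟨rfl, by decide⟩, rfl⟩
def Y : List ℕ := [0x9774c1, 0x5ab37, 0x4c1de5, 0xb3e4c1, 0xdec688, 0xfa5688, 0x688fac, 0x21397e, 0xfac4c8, 0xfac681, 0x4c8dec, 0x53977, 0x21ab3e, 0x681fa5]
def L0 : List (ℕ × List (ℕ × ℕ)) := [(0, [(0x688fac, 0x688fac), (0xfac21a, 0xfac21a), (0xfac681, 0xfac681)]), (2, [(0xfac4c8, 0xfac4c8)]), (4, [(0xb3e688, 0xb3e688), (0xfa5688, 0xfa5688)]), (6, [(0xdec688, 0xdec688)])]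
def LS : List (ℕ × List (ℕ × ℕ)) := [(0, [(0xfac681, 0xfac681)]), (1, [(0xfac650, 0xfac650)]), (2, [(0xfac4c8, 0xfac4c8)]), (3, [(0xfab888, 0xfab888)]), (4, [(0xfa5688, 0xfa5688)]), (5, [(0xf74688, 0xf74688)]), (6, [(0xdec688, 0xdec688)])]
theorem c0 : lall A.F.isPerm (Fmt.gens L0) = true ∧ A.F.loChk L0 = true ∧ A.F.hiChk L0 = true ∧ A.F.size (A.F.build L0) = 2 ^ 7 ∧ A.F.siftAll (A.F.build L0) Y = true ∧
  lall (fun y => bnot (A.F.isOne y)) Y = true ∧ lall A.F.isPerm (Fmt.gens LS) = true ∧ A.F.loChk LS = true ∧ A.F.size (A.F.build LS) = 40320 := by decide +kernel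
theorem c1 : A.F.srch Fmt.okAll (fun t => lany (fun y => force (A.F.conj t y) (A.F.sift (A.F.build L0))) Y) (A.F.build LS) [] A.F.one = true := by decide +kernel


end CfsgS8
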