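import Mathlib

set_option autoImplicit false

namespace CfsgPm

open MulAction

variable {G Ω : Type*} [Group G] [MulAction G Ω]

/-- Four distinct points. -/
def D4 (a b c d : Ω) : Prop := a ≠ b ∧ a ≠ c ∧ a ≠ d ∧ b ≠ c ∧ b ≠ d ∧ c ≠ d

/-- Four distinct points as an embedding. -/
def e4 {a b c d : Ω} (h : D4 a b c d) : Fin 4 ↪ Ω := ⟨![a, b, c, d], by
  obtain ⟨_, _, _, _, _, _⟩ := h
  intro i j; fin_cases i <;> fin_cases j <;> simp_all [eq_comm]⟩

theorem t4 (h4 : IsMultiplyPretransitive G Ω 4) {a b c d a' b' c' d' : Ω} (h : D4 a b c d) (h' : D4 a' b' c' d') :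
    ∃ g : G, g • a = a' ∧ g • b = b' ∧ g • c = c' ∧ g • d = d' := by
  obtain ⟨g, hg⟩ := h4.1 (e4 h) (e4 h')
  exact ⟨g, DFunLike.congr_fun hg 0, DFunLike.congr_fun hg 1, DFunLike.congr_fun hg 2, DFunLike.congr_fun hg 3⟩

theorem s4 (hs : ∀ x : Fin 4 ↪ Ω, stabilizer G x = ⊥) {a b c d : Ω} (h : D4 a b c d) {g k : G} (h1 : g • a = k • a) (h2 : g • b = k • b)
    (h3 : g • c = k • c) (h4 : g • d = k • d) : g = k := by
  have : k⁻¹ * g ∈ stabilizer G (e4 h) := DFunLike.ext _ _ fun i => by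
    fin_cases i <;> simp [e4, mul_smul, *]
  rw [hs] at this
  exact (inv_mul_eq_one.1 this).symm

theorem sharp4 (h4 : IsMultiplyPretransitive G Ω 4) (hs : ∀ x : Fin 4 ↪ Ω, stabilizer G x = ⊥) (hne : Nonempty (Fin 4 ↪ Ω)) :
    Finite Ω ∧ (Nat.card Ω = 4 ∨ Nat.card Ω = 5 ∨ Nat.card Ω = 6 ∨ Nat.card Ω = 11) := by
  classical
  obtain ⟨a, b, c, d, h⟩ : ∃ a b c d : Ω, D4 a b c d := hne.elim fun x => ⟨x 0, x 1, x 2, x 3, by simp [D4]⟩
  obtain ⟨u, u1, u2, u3, u4⟩ := t4 h4 h (show D4 a b d c by unfold D4 at *; tauto)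
  have uu : ∀ w : Ω, u • u • w = w := fun w => by
    rw [← mul_smul, s4 hs h (g := u * u) (k := 1) (by simp [mul_smul, *]) (by simp [mul_smul, *]) (by simp [mul_smul, *])
      (by simp [mul_smul, *]), one_smul]
  obtain ⟨F, hF, cF⟩ : ∃ F : Finset Ω, (∀ w, w ∈ F ↔ u • w = w) ∧ (F.card = 2 ∨ F.card = 3) := by
    by_cases e : ∃ e, u • e = e ∧ e ≠ a ∧ e ≠ b
    · obtain ⟨e, e1, e2, e3⟩ := e
      refine ⟨{a, b, e}, fun w => ⟨by simp only [Finset.mem_insert, Finset.mem_singleton]; rintro (rfl | rfl | rfl) <;> assumption,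
        fun hw => by_contra fun n => h.2.2.2.2.2 ?_⟩, Or.inr (Finset.card_eq_three.2 ⟨a, b, e, h.1, e2.symm, e3.symm, rfl⟩)⟩
      simp only [Finset.mem_insert, Finset.mem_singleton, not_or] at n
      rw [← u3, s4 hs (show D4 a b e w from ⟨h.1, e2.symm, Ne.symm n.1, e3.symm, Ne.symm n.2.1, Ne.symm n.2.2⟩) (g := u) (k := 1) (by simpa) (by simpa) (by simpa) (by simpa),
        one_smul]
    · exact ⟨{a, b}, fun w => ⟨by simp only [Finset.mem_insert, Finset.mem_singleton]; rintro (rfl | rfl) <;> assumption,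
        fun hw => by_contra fun n => e ⟨w, hw, by simpa using n⟩⟩, Or.inl (Finset.card_pair h.1)⟩
  let C := {x : G // x * u = u * x ∧ x • c = c}
  have cu : ∀ (x : C) (w : Ω), x.1 • u • w = u • x.1 • w := fun x w => by rw [← mul_smul, x.2.1, mul_smul]
  have cd : ∀ x : C, x.1 • d = d := fun x => by rw [← u3, cu, x.2.2]
  have c1 : Nat.card C = F.offDiag.card ∧ Finite C := by
    have : Function.Bijective fun x : C => (⟨(x.1 • a, x.1 • b), by simp [hF, ← cu, u1, u2, h.1]⟩ : F.offDiag) := by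
      refine ⟨fun x y e => Subtype.ext (s4 hs h (congrArg (·.1.1) e) (congrArg (·.1.2) e) (x.2.2.trans y.2.2.symm) ((cd x).trans (cd y).symm)),
        fun ⟨⟨p, q⟩, e⟩ => ?_⟩
      simp only [Finset.mem_offDiag, hF] at e
      have := h.2.2.2.2.2
      obtain ⟨x, x1, x2, x3, x4⟩ := t4 h4 h (show D4 p q c d from ⟨e.2.2, by grind, by grind, by grind, by grind, this⟩)
      exact ⟨⟨x, s4 hs h (by simp [mul_smul, *]) (by simp [mul_smul, *]) (by simp [mul_smul, *]) (by simp [mul_smul, *]), x3⟩, by simp [*]⟩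
    exact ⟨by rw [Nat.card_eq_of_bijective _ this, Nat.card_eq_fintype_card, Fintype.card_coe], .of_injective _ this.1⟩
  let D := {w : Ω | u • w ≠ w ∧ w ≠ c ∧ w ≠ d}
  have c2 : D.Finite ∧ (D.ncard = 0 ∨ D.ncard = Nat.card C) := by
    rcases D.eq_empty_or_nonempty with e | ⟨w, hw⟩
    · simp [e]
    have k : ∀ w ∈ D, D4 c d w (u • w) := fun w hw => ⟨h.2.2.2.2.2, hw.2.1.symm, fun e => hw.2.2 (by rw [← u3, e, uu]), hw.2.2.symm,
      fun e => hw.2.1 (by rw [← u4, e, uu]), hw.1.symm⟩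
    have : Function.Bijective fun x : C => (⟨x.1 • w, by
        refine ⟨by simpa [← cu] using hw.1, ?_, ?_⟩
        · exact fun e => hw.2.1 (MulAction.injective x.1 (e.trans x.2.2.symm))
        · rw [← cd x]; simpa using hw.2.2⟩ : D) := by
      refine ⟨fun x y e => Subtype.ext (s4 hs (k w hw) (x.2.2.trans y.2.2.symm) ((cd x).trans (cd y).symm) (congrArg (·.1) e)
        (by rw [cu, cu]; exact congrArg (u • ·.1) e)), fun ⟨p, e⟩ => ?_⟩
      obtain ⟨x, x1, x2, x3, x4⟩ := t4 h4 (k w hw) (k p e)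
      exact ⟨⟨x, s4 hs (k w hw) (by simp [mul_smul, *]) (by simp [mul_smul, *]) (by simp [mul_smul, *]) (by simp [mul_smul, *]), x1⟩, by simp [*]⟩
    have := c1.2
    exact ⟨Finite.of_surjective _ ‹Function.Bijective _›.2, Or.inr (Nat.card_eq_of_bijective _ ‹_›).symm⟩
  have e : Set.univ = insert c (insert d (↑F ∪ D)) := by ext w; simp [D, hF]; tauto
  have cd := h.2.2.2.2.2
  have f : (↑F ∪ D : Set Ω).Finite := F.finite_toSet.union c2.1
  refine ⟨Set.finite_univ_iff.1 (e ▸ (f.insert _).insert _), ?_⟩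
  rw [← Set.ncard_univ, e, Set.ncard_insert_of_notMem (by simp [D, hF, u3, cd, cd.symm]) (f.insert _),
    Set.ncard_insert_of_notMem (by simp [D, hF, u4, cd]) f, Set.ncard_union_eq (by simp +contextual [Set.disjoint_left, D, hF])
      F.finite_toSet c2.1, Set.ncard_coe_finset]
  have := c1.1
  rw [Finset.offDiag_card] at this
  rcases cF with e | e <;> rw [e] at this ⊢ <;> omega

theorem card_sharp [Finite Ω] {k : ℕ} (h : IsMultiplyPretransitive G Ω k) (hs : ∀ x : Fin k ↪ Ω, stabilizer G x = ⊥) (hk : k ≤ Nat.card Ω) :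
    Nat.card G = (Nat.card Ω).descFactorial k := by
  classical
  have := Fintype.ofFinite Ω
  rw [Nat.card_eq_fintype_card] at hk
  obtain ⟨x⟩ := Function.Embedding.nonempty_of_card_le ((Fintype.card_fin k).trans_le hk)
  have := index_stabilizer_of_transitive G x
  rw [hs, Subgroup.index_bot] at this
  simp [this]

theorem sharp_stab {k : ℕ} (hs : ∀ x : Fin (k + 1) ↪ Ω, stabilizer G x = ⊥) (a : Ω) (x : Fin k ↪ SubMulAction.ofStabilizer G a) :
    stabilizer (stabilizer G a) x = ⊥ := eq_bot_iff.2 fun g hg => Subtype.ext ((hs (SubMulAction.ofStabilizer.snoc x)).le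
      (DFunLike.ext _ _ fun i => by
        rcases Fin.eq_castSucc_or_eq_last i with ⟨i, rfl⟩ | ⟨rfl⟩
        · rw [Function.Embedding.smul_apply, SubMulAction.ofStabilizer.snoc_castSucc]
          exact congrArg Subtype.val (DFunLike.congr_fun hg i)
        · rw [Function.Embedding.smul_apply, SubMulAction.ofStabilizer.snoc_last]
          exact g.2))

end CfsgPm
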