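import Cfsg.Agent.H3.Sh1
import Cfsg.Agent.H3.Pd1

set_option autoImplicit false

namespace CfsgPm

open MulAction Subgroup

variable {G Ω : Type*} [Group G] [MulAction G Ω]

theorem range_mult {k : ℕ} (h : IsMultiplyPretransitive G Ω k) : IsMultiplyPretransitive (toPermHom G Ω).range Ω k :=
  ⟨fun x y => (h.1 x y).elim fun g hg => ⟨⟨_, g, rfl⟩, hg⟩⟩

theorem range_sharp {k : ℕ} (hs : ∀ x : Fin k ↪ Ω, stabilizer G x = ⊥) (x : Fin k ↪ Ω) : stabilizer (toPermHom G Ω).range x = ⊥ :=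
  eq_bot_iff.2 fun ⟨_, g, e⟩ hg => Subtype.ext (by subst e; obtain rfl : g = 1 := (hs x).le hg; exact map_one _)

theorem inj_sharp {k : ℕ} (hs : ∀ x : Fin k ↪ Ω, stabilizer G x = ⊥) (x : Fin k ↪ Ω) : Function.Injective (toPermHom G Ω) :=
  (injective_iff_map_eq_one _).2 fun _ hg => (hs x).le (DFunLike.ext _ _ fun _ => Equiv.congr_fun hg _)

theorem desc_dvd [Finite Ω] {k : ℕ} (h : IsMultiplyPretransitive G Ω k) (hk : k ≤ Nat.card Ω) :
    (Nat.card Ω).descFactorial k ∣ Nat.card G := by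
  classical
  have := Fintype.ofFinite Ω
  rw [Nat.card_eq_fintype_card] at hk
  obtain ⟨x⟩ := Function.Embedding.nonempty_of_card_le ((Fintype.card_fin k).trans_le hk)
  have := (stabilizer G x).index_dvd_card
  rw [index_stabilizer_of_transitive G x] at this
  simpa using this

theorem index_dvd_norm [Finite G] {p : ℕ} [Fact p.Prime] (P : Sylow p G) (N : Subgroup G) [N.Normal] (h : ¬ p ∣ N.index) :
    N.index ∣ Nat.card (normalizer (P.1 : Set G)) := by
  obtain ⟨k, hk⟩ := P.2.exists_card_eq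
  have : P.1 ≤ N := relIndex_eq_one.1 (Nat.eq_one_of_dvd_coprimes (hk ▸ ((Fact.out : p.Prime).coprime_iff_not_dvd.2 h).pow_left k)
    (relIndex_dvd_card N P.1) (relIndex_dvd_index_of_normal N P.1))
  rw [← relIndex_top_right, ← P.normalizer_sup_eq_top' this, relIndex_sup_right]
  exact relIndex_dvd_card _ _

end CfsgPm
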