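import Cfsg.Agent.H3.Suz9

/-! Split rank-one groups: Peterfalvi's "first case". -/

set_option autoImplicit false

namespace CfsgSuz

open Subgroup Cfsg CfsgH2 CfsgLead CfsgFT
open scoped commutatorElement

variable {G : Type*} [Group G]

namespace RK

variable [Finite G] {L H Q : Subgroup G} {t s r : G} (R : RK L H Q t s r)
include R

theorem fusion_W (big : 2 < q0 Q) {a g : G} (ha : a ∈ VV H t) (hg : g ∈ L) (h : g * a * g⁻¹ ∈ VV H t) :
    g * a * g⁻¹ * a⁻¹ ∈ WW H Q t := by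
  obtain ⟨F, _, _, _, e₀, ζ, ρ, S⟩ := R.exists_SZb big
  obtain ⟨v, hv, e⟩ := R.fusion_V (X := {a}) (Set.singleton_subset_iff.2 ha) hg (by rintro _ rfl; exact h)
  have h1 := mul_mem (mul_mem hv ha) (inv_mem hv)
  rw [← e a rfl, ← S.ρ_eq_one (mul_mem h1 (inv_mem ha)), S.ρ_mul h1 (inv_mem ha), S.ρ_mul (mul_mem hv ha) (inv_mem hv),
    S.ρ_mul hv ha, S.ρ_inv hv, S.ρ_inv ha, aut_comm (ρ v)]
  group

theorem conj_V_of_comm {y u : G} (hy : y ∈ H) (uL : u ∈ L) (uH : u ∉ H) (u2 : u * u = 1) (e : u * y = y * u) :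
    ∃ h ∈ H, h * y * h⁻¹ ∈ VV H t := by
  obtain ⟨k, hk, z, hz, rfl⟩ := R.invol_form uL uH u2
  obtain ⟨c, hc, rfl⟩ := R.exists_K_sqrt (R.mem_K.2 hk)
  have h1 := mul_mem (inv_mem (R.DH (R.KD hc))) (R.QH hz)
  refine ⟨_, h1, R.mem_V'.2 ⟨mul_mem (mul_mem h1 hy) (inv_mem h1), ?_⟩⟩
  have h2 := R.tk' (R.mem_K.1 hc)
  calc _ = c⁻¹ * z * (z⁻¹ * (c * (t * c⁻¹)) * z * y) * z⁻¹ * c := by group
    _ = c⁻¹ * z * y * z⁻¹ * c * (c * t * c) := by rw [h2, ← mul_assoc c c t, e]; group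
    _ = _ := by rw [← h2]; group

theorem der_H : ⁅H, H⁆ ≤ Q ⊔ (KK H t ⊔ WW H Q t) := by
  have := der_sup_le R.nQD
  rw [R.sup_QD] at this
  exact this.trans (sup_le_sup_left R.der_D Q)

theorem fusion_H (big : 2 < q0 Q) {a g : G} (ha : a ∈ VV H t) (hg : g ∈ L) (h : g * a * g⁻¹ ∈ H) :
    g * a * g⁻¹ * a⁻¹ ∈ Q ⊔ (KK H t ⊔ WW H Q t) := by
  have key : ∀ u ∈ L, u * u = 1 → u * a = a * u → g * u * g⁻¹ ∉ H → g * a * g⁻¹ * a⁻¹ ∈ Q ⊔ (KK H t ⊔ WW H Q t) :=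
    fun u uL u2 e uH => by
      obtain ⟨c, hc, h1⟩ := R.conj_V_of_comm h (mul_mem (mul_mem hg uL) (inv_mem hg)) uH (conj_sq u2 g) (by
        calc _ = g * (u * a) * g⁻¹ := by group
          _ = _ := by rw [e]; group)
      have := R.fusion_W big ha (mul_mem (R.HL hc) hg) (by simpa [mul_assoc] using h1)
      have := mul_mem (R.der_H (commutator_mem_commutator h hc)) (mem_sup_right (mem_sup_right this))
      simpa [commutatorElement_def, mul_assoc] using this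
  by_cases h1 : g * s * g⁻¹ ∈ H
  · refine key t R.tL R.tt (R.mem_V.1 ha).2 fun h2 => R.st_sq_ne ?_
    have := R.Q0_comm' (R.mem_Q0_of_sq h1 (conj_sq R.ss g)) (R.invol_mem_Q h2 (conj_sq R.tt g))
    have e : s * t = t * s := by
      calc _ = g⁻¹ * (g * s * g⁻¹ * (g * t * g⁻¹)) * g := by group
        _ = _ := by rw [this]; group
    nth_rewrite 1 [e]
    rw [mul_assoc, ← mul_assoc s, R.ss, one_mul, R.tt]
  · exact key s (R.QL R.sQ) R.ss (R.V_cent ha).1.symm h1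

theorem mem_W_of_sup {v : G} (hv : v ∈ VV H t) (h : v ∈ Q ⊔ (KK H t ⊔ WW H Q t)) : v ∈ WW H Q t := by
  have h0 := sup_le R.KD R.WD
  obtain ⟨y, hy, d, hd, e⟩ := (mem_sup_of_normalizer (h0.trans R.nQD)).1 h
  obtain rfl := (R.split_uniq hy (h0 hd) (one_mem _) (R.VD hv) (by rw [e, one_mul])).2
  obtain ⟨k, hk, w, hw, rfl⟩ := (mem_sup_of_normalizer (R.WD.trans R.norm_K)).1 hd
  rwa [(eq_bot_iff_forall _).1 R.KV k ⟨hk, by simpa using mul_mem hv (inv_mem (R.WV hw))⟩, one_mul]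

theorem norm_cent {X : Subgroup G} (hX : H ≤ N(X)) {w a : G} (ha : a ∈ H) (h : a ∈ C1(w)) : a ∈ N(X ⊓ C1(w)) :=
  le_normalizer_inf (A := zpowers a) (zpowers_le.2 (hX ha)) ((zpowers_le.2 h).trans le_normalizer) (mem_zpowers a)

end RK

theorem fr_pow {F : Type*} [Field F] [Finite F] [CharP F 2] (n : ℕ) (a : F) : (fr F ^ n) a = a ^ 2 ^ n := by
  induction n with
  | zero => simp
  | succ n ih => rw [pow_succ', RingAut.mul_apply, ih, fr_apply, ← pow_add]; congr 1; ring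

/-- no involution centralizes `y ≠ 1` -/
def NI (y : G) : Prop := ∀ z : G, z * z = 1 → z * y = y * z → z = 1 ∨ y = 1

theorem NI.conj {y : G} (h : NI y) (g : G) : NI (g * y * g⁻¹) := fun z z2 e =>
  (h (g⁻¹ * z * g) (conj_sq' z2 g) (by
    calc _ = g⁻¹ * (z * (g * y * g⁻¹)) * g := by group
      _ = _ := by rw [e]; group)).imp (fun h => by_contra fun h' => conj_ne_one' h' g h) fun h => by simp [h]

/-- the hypotheses of the first case -/
structure FC (H Q : Subgroup G) (t s r x : G) : Prop extends RK ⊤ H Q t s r where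
  big : 2 < q0 Q
  xV : x ∈ VV H t
  hp : (orderOf x).Prime
  two : q0 (Q ⊓ C1(x)) = 2
  faith : DD H t ⊓ C(Q) = ⊥
  perf : _root_.commutator G = ⊤

namespace FC

variable [Finite G] {H Q : Subgroup G} {t s r x : G} (A : FC H Q t s r x)
include A

theorem R1 : RK C1(x) (H ⊓ C1(x)) (Q ⊓ C1(x)) t s r := by
  simpa only [top_inf_eq] using A.sub1 A.xV

theorem xW : x ∉ WW H Q t := fun h => A.big.ne' (A.q0_sub_W h ▸ A.two)

theorem PW {y : G} (h : y ∈ zpowers x) (hW : y ∈ WW H Q t) : y = 1 := by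
  obtain ⟨i, rfl⟩ := mem_powers_iff_mem_zpowers.2 h
  by_contra h1
  obtain ⟨e, he⟩ := exists_pow_pow A.hp h1
  exact A.xW (he ▸ pow_mem hW e)

theorem q_eq : q0 Q = 2 ^ orderOf x := by rw [A.q0_pow_prime A.big A.xV A.hp A.xW, A.two]

theorem three_le : 3 ≤ orderOf x := by
  have := A.hp.two_le
  obtain ⟨k, hk⟩ := A.odd_D (A.VD A.xV)
  omega

theorem V_dec {v : G} (hv : v ∈ VV H t) : ∃ i : ℕ, v * (x ^ i)⁻¹ ∈ WW H Q t := by
  obtain ⟨F, _, _, _, e₀, ζ, ρ, S⟩ := A.exists_SZb A.big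
  haveI := Fact.mk A.hp
  have h1 : orderOf (fr F) = orderOf x := orderOf_eq_prime (RingEquiv.ext fun a => by
    rw [fr_pow, ← A.q_eq, A.q0_eq, S.card_Q0, Nat.card_eq_fintype_card, FiniteField.pow_card]; rfl) (fr_ne_one S.big)
  obtain ⟨i, hi⟩ := aut_eq_pow (ρ x)
  obtain ⟨j, hj⟩ := aut_eq_pow (ρ v)
  obtain ⟨e, he⟩ := exists_pow_pow (h1 ▸ A.hp) (hi ▸ fun h => A.xW ((S.ρ_eq_one A.xV).1 h))
  have h2 := pow_mem A.xV (e * j)
  refine ⟨e * j, (S.ρ_eq_one (mul_mem hv (inv_mem h2))).1 ?_⟩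
  rw [S.ρ_mul hv (inv_mem h2), S.ρ_inv h2, S.ρ_pow A.xV, pow_mul, hi, he, hj, mul_inv_cancel]

theorem fus {a : G} (h : a * x * a⁻¹ ∈ zpowers x) : a * x * a⁻¹ = x :=
  mul_inv_eq_one.1 (A.PW (mul_mem h (inv_mem (mem_zpowers x)))
    (A.fusion_W A.big A.xV (mem_top a) (zpowers_le.2 A.xV h)))

theorem dvd_Q : orderOf x ∣ Nat.card Q + 1 := by
  obtain ⟨N, -, h1, -, h2⟩ := exists_transfer (sup_le A.QH ((sup_le A.KD A.WD).trans A.DH)) A.der_H
  have := (h2 x (A.VH A.xV) fun m a h => A.fusion_H A.big (pow_mem A.xV m) (mem_top a) h).1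
    (h1 (A.perf ▸ mem_top x))
  rw [← relIndex_top_right, A.relIndex_H] at this
  exact orderOf_dvd_iff_pow_eq_one.2 (A.PW (npow_mem_zpowers x _) (A.mem_W_of_sup (pow_mem A.xV _) this))

theorem ndvd_Q : ¬ orderOf x ∣ Nat.card Q := fun h => A.hp.one_lt.ne' (Nat.dvd_one.1 ((Nat.dvd_add_right h).1 A.dvd_Q))

theorem wl {X : Subgroup G} (hX : X ≤ Q) (nK : KK H t ≤ N(X)) (nx : x ∈ N(X)) :
    Nat.card X = Nat.card ↥(X ⊓ C1(x)) ^ orderOf x :=
  A.wiel A.big A.xV A.hp A.xW hX nK nx fun h => A.ndvd_Q (h.trans (card_dvd_of_le hX))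

theorem wl' {X : Subgroup G} (hX : X ≤ Q) (n : H ≤ N(X)) : Nat.card X = Nat.card ↥(X ⊓ C1(x)) ^ orderOf x :=
  A.wl hX ((A.KD.trans A.DH).trans n) (n (A.VH A.xV))

theorem wlW {w : G} (hw : w ∈ WW H Q t) (hx : w ∈ C1(x)) :
    Nat.card ↥(Q ⊓ C1(w)) = Nat.card ↥(Q ⊓ C1(w) ⊓ C1(x)) ^ orderOf x :=
  A.wl inf_le_left (fun k hk => A.norm_cent A.nQ (A.DH (A.KD hk)) (mem_cent1'.2 (A.WK hw k hk)))
    (A.norm_cent A.nQ (A.VH A.xV) (mem_cent1_symm hx))

theorem dvd_n : orderOf x ∣ Nat.card ↥(Q ⊓ C1(x)) + 1 := by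
  haveI := Fact.mk A.hp
  have := A.dvd_Q
  rw [A.wl' le_rfl A.nQ, ← ZMod.natCast_eq_zero_iff] at this
  rw [← ZMod.natCast_eq_zero_iff]
  simpa [ZMod.pow_card] using this

theorem D1_le : DD (H ⊓ C1(x)) t ≤ VV H t ⊓ C1(x) := by
  have := A.R1.card_K'
  rw [← A.R1.sup_VK, card_eq_one.1 (show Nat.card (KK (H ⊓ C1(x)) t) = 1 by have := A.two; omega), sup_bot_eq,
    A.VV_inf (Set.singleton_subset_iff.2 A.xV)]

theorem N0_eq : DD (H ⊓ C1(x)) t ⊓ C(Q ⊓ C1(x)) = zpowers x := by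
  have hx : x ∈ DD (H ⊓ C1(x)) t ⊓ C(Q ⊓ C1(x)) :=
    ⟨A.DD_inf (Set.singleton_subset_iff.2 A.xV) ▸ ⟨A.VD A.xV, self_mem_cent1 x⟩, fun y hy => mem_cent1'.1 hy.2⟩
  refine le_antisymm (fun a ha => ?_) (zpowers_le.2 hx)
  obtain ⟨i, hi⟩ := A.V_dec (A.D1_le ha.1).1
  have h1 := mul_mem ha (inv_mem (pow_mem hx i))
  have h2 := A.wlW hi (A.D1_le h1.1).2
  rw [inf_right_comm, inf_of_le_left (show Q ⊓ C1(x) ≤ _ from fun y hy => mem_cent1'.2 (h1.2 y hy)), ← A.wl' le_rfl A.nQ] at h2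
  have h3 := inf_eq_left.1 (eq_of_le_of_card_le inf_le_left h2.ge)
  rw [mul_inv_eq_one.1 ((eq_bot_iff_forall _).1 A.faith _ ⟨A.WD hi, fun y hy => mem_cent1'.1 (h3 hy)⟩)]
  exact npow_mem_zpowers x i

theorem nf1 : ∃ (F : Subgroup G) (m : ℕ), Nat.card ↥(Q ⊓ C1(x)) + 1 = orderOf x ^ (m + 1) ∧ F ≤ C1(x) ∧
    C1(x) ≤ N(F) ∧ Nat.card F = orderOf x ^ (m + 2) ∧ x ∈ F ∧ s * t ∈ F ∧ orderOf (s * t) = orderOf x ∧
    ∀ w ∈ WW H Q t, w ∈ C1(x) → (orderOf w).Prime → ∀ B ≤ Q ⊓ C1(x), B ≠ ⊥ → w ∈ N(B) → B ⊓ C1(w) = ⊥ →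
      Nat.card ↥(Q ⊓ C1(x)) + 1 = (Nat.card ↥(Q ⊓ C1(w) ⊓ C1(x)) + 1) ^ orderOf w := by
  obtain ⟨F, l, m, hl, hm, h1, h2, h3, h4, h5, h6⟩ := A.R1.nf A.two
  have h7 := A.dvd_n
  rw [hm] at h7
  obtain rfl := (Nat.prime_dvd_prime_iff_eq A.hp hl).1 (A.hp.dvd_of_dvd_pow h7)
  rcases m with _ | m
  · exact absurd (Nat.dvd_one.1 (by simpa using h7)) A.hp.one_lt.ne'
  rw [A.N0_eq] at h3
  haveI := Fact.mk A.hp
  refine ⟨F, m, hm, h1, h2, ?_, (h3.ge (mem_zpowers x)).1, h4, orderOf_eq_prime h5 A.st_ne,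
    fun w hw hx hp B hB B0 nB hc => ?_⟩
  · rw [A.R1.card_of_st h1 (inf_le_right.trans h2) h4, h3, Nat.card_zpowers, hm]; ring
  · have wD : w ∈ VV (H ⊓ C1(x)) t := A.VV_inf (Set.singleton_subset_iff.2 A.xV) ▸ ⟨A.WV hw, hx⟩
    rw [h6 w wD hp (fun h => hp.one_lt.ne' (by
      rw [A.PW (A.N0_eq.le ⟨A.R1.VD wD, h⟩) hw, orderOf_one])) B hB B0 (isSolvable_of_nilpotent
        (CfsgH1.isNilpotent_of_le (A.nil A.big) (hB.trans inf_le_left))) nB hc, inf_right_comm]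

theorem card_H1 (hW : ¬ orderOf x ∣ Nat.card ↥(WW H Q t ⊓ C1(x))) :
    ∃ a, ¬ orderOf x ∣ a ∧ Nat.card H = orderOf x * a := by
  haveI := Fact.mk A.hp
  have hV : WW H Q t ⊔ zpowers x = VV H t := le_antisymm (sup_le A.WV (zpowers_le.2 A.xV)) fun v hv => by
    obtain ⟨i, hi⟩ := A.V_dec hv
    simpa using mul_mem (mem_sup_left hi) (mem_sup_right (npow_mem_zpowers x i))
  have nW := A.norm_W (A.VD A.xV)
  have h1 := card_sup_zpowers nW A.xW (by rw [pow_orderOf_eq_one]; exact one_mem _)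
  refine ⟨Nat.card Q * (Nat.card (WW H Q t) * Nat.card (KK H t)), fun h => ?_, by
    rw [A.card_H, A.card_D', ← hV, h1]; ring⟩
  rcases (Nat.Prime.dvd_mul A.hp).1 h with h | h
  · exact A.ndvd_Q h
  rcases (Nat.Prime.dvd_mul A.hp).1 h with h | h
  · have := card_modEq_card_inf_cent (isPGroup_zpowers_of_orderOf (pow_one _).symm) (zpowers_le.2 nW)
    rw [cent_zpowers] at this
    exact hW ((this.dvd_iff dvd_rfl).1 h)
  · have := congrArg (Nat.cast : ℕ → ZMod (orderOf x)) (A.card_K'.trans A.q_eq)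
    rw [Nat.cast_add, (ZMod.natCast_eq_zero_iff _ _).2 h, Nat.cast_pow, ZMod.pow_card] at this
    exact one_ne_zero (α := ZMod (orderOf x)) (by push_cast at this; linear_combination -this)

theorem NI_of {y : G} (ho : Odd (orderOf y)) (h : s * y * s⁻¹ = y⁻¹) : NI y := fun z z2 e => by
  by_cases z1 : z = 1
  · exact Or.inl z1
  · have := A.inv_eq_of_real (mem_top y) (mem_top s) A.s1 A.ss h (mem_top z) z1 z2 e
    exact Or.inr (eq_one_of_sq_of_odd ho (by nth_rewrite 1 [← this]; simp))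

theorem not_NI {a : G} {i : ℕ} (h : NI (a * x ^ i * a⁻¹)) : x ^ i = 1 := by
  have := h.conj a⁻¹
  rw [show a⁻¹ * (a * x ^ i * a⁻¹) * a⁻¹⁻¹ = x ^ i by group] at this
  exact (this s A.ss (A.V_cent (pow_mem A.xV i)).1.symm).resolve_left A.s1

theorem PH (hW : ¬ orderOf x ∣ Nat.card ↥(WW H Q t ⊓ C1(x))) {X : Subgroup G} (pX : IsPGroup (orderOf x) X)
    (hx : x ∈ X) : X ⊓ H = zpowers x := by
  haveI := Fact.mk A.hp
  obtain ⟨c, c1, c2⟩ := A.card_H1 hW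
  obtain ⟨j, hj⟩ := IsPGroup.iff_card.1 (pX.to_inf_left (K := H))
  have : j ≤ 1 := by
    by_contra h
    refine c1 (Nat.dvd_of_mul_dvd_mul_left A.hp.pos (c2 ▸ Dvd.dvd.trans ?_ (card_dvd_of_le (inf_le_right (a := X)))))
    rw [hj, ← pow_two]
    exact pow_dvd_pow _ (by omega)
  exact (eq_of_le_of_card_le (zpowers_le.2 (mem_inf.2 ⟨hx, A.VH A.xV⟩)) (by
    rw [hj, Nat.card_zpowers]
    exact (Nat.pow_le_pow_right A.hp.pos this).trans (pow_one _).le)).symm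

theorem gen (hW : ¬ orderOf x ∣ Nat.card ↥(WW H Q t ⊓ C1(x))) (X M : Subgroup G) (pX : IsPGroup (orderOf x) X)
    (hx : x ∈ X) (h1 : C1(x) ≤ M) (h2 : M ≤ N(X)) :
    Nat.card ↥(Q ⊓ C1(x)) ∣ C1(x).relIndex M - 1 ∧
      C1(x).relIndex M * (orderOf x - 1) + Nat.card {y | y ∈ X ∧ NI y} ≤ Nat.card X :=
  ⟨cls_dvd (inf_le_right.trans h1) inf_le_right fun _ hb b1 _ ha e => A.fus ((A.PH hW pX hx).le
    ⟨conj_mem_of_mem_normalizer (h2 ha) hx, A.mem_of_comm hb.1 b1 (mem_top _) e.symm⟩),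
    cls_le A.hp (fun _ i e => A.fus (e ▸ npow_mem_zpowers x i)) h2 hx (fun _ hy => hy.1) fun _ _ h => A.not_NI h.2⟩

theorem val_G (hW : ¬ orderOf x ∣ Nat.card ↥(WW H Q t ⊓ C1(x))) {m : ℕ}
    (hm : Nat.card ↥(Q ⊓ C1(x)) + 1 = orderOf x ^ (m + 1)) : padicValNat (orderOf x) (Nat.card G) = m + 3 := by
  have hp := A.hp
  haveI := Fact.mk hp
  have op := A.odd_D (A.VD A.xV)
  obtain ⟨c, c1, c2⟩ := A.card_H1 hW
  have := padicValNat.pow_add_pow op (y := 1) A.dvd_n (fun h => hp.one_lt.ne' (Nat.dvd_one.1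
    ((Nat.dvd_add_right h).1 A.dvd_n))) op
  rw [one_pow, ← A.wl' le_rfl A.nQ, hm, padicValNat.prime_pow, padicValNat_self] at this
  have c0 : c ≠ 0 := fun e => c1 (e ▸ dvd_zero _)
  rw [← card_top, A.card_L, c2, padicValNat.mul (mul_ne_zero hp.ne_zero c0) (by omega), this,
    padicValNat.mul hp.ne_zero c0, padicValNat_self, padicValNat.eq_zero_of_not_dvd c1]
  ring

theorem caseA1 (hW : ¬ orderOf x ∣ Nat.card ↥(WW H Q t ⊓ C1(x))) :
    ∃ F : Subgroup G, Nat.card ↥(Q ⊓ C1(x)) + 1 = orderOf x ∧ IsSylowIn (orderOf x) F C1(x) ∧ C1(x) ≤ N(F) ∧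
      Nat.card F = orderOf x ^ 2 ∧ x ∈ F ∧ s * t ∈ F ∧ orderOf (s * t) = orderOf x ∧
      C1(x).relIndex N(F) = orderOf x ∧ ∀ y ∈ F, NI y → y ∈ zpowers (s * t) := by
  obtain ⟨F, m, hm, FC, nF, cF, xF, stF, ost, -⟩ := A.nf1
  have hp := A.hp
  haveI := Fact.mk hp
  have p3 := A.three_le
  obtain ⟨c, c1, c2⟩ := A.card_H1 hW
  have R1 := A.R1
  have n0 : 0 < Nat.card ↥(Q ⊓ C1(x)) := Nat.card_pos
  have vG := A.val_G hW hm
  have pF : IsPGroup (orderOf x) F := .of_card cF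
  have oF : Odd (Nat.card F) := cF ▸ (A.odd_D (A.VD A.xV)).pow
  have sF : IsSylowIn (orderOf x) F C1(x) := ⟨FC, pF, fun h => c1 (by
    have h1 := card_mul_relIndex FC
    rw [R1.card_L, cF, hm, pow_succ, mul_assoc, mul_comm (Nat.card _)] at h1
    have h2 := card_dvd_of_le (inf_le_left : H ⊓ C1(x) ≤ H)
    rw [← Nat.eq_of_mul_eq_mul_left (pow_pos hp.pos _) h1, c2] at h2
    exact h.trans (Nat.dvd_of_mul_dvd_mul_left hp.pos h2))⟩
  have d1 : orderOf x ∣ C1(x).relIndex N(F) := by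
    by_contra h
    have := (sylow_top_of_norm_le (sF.trans_of_not_dvd nF h) le_rfl).card_eq
    rw [cF, card_top, Nat.factorization_def _ hp, vG] at this
    exact absurd (Nat.pow_right_injective hp.two_le this) (by omega)
  obtain ⟨g1, g2⟩ := A.gen hW F _ pF xF nF le_rfl
  have cI : Nat.card (invertedBy F s) = orderOf x ^ (m + 1) := by
    have := card_dec A.ss oF fun y hy => conj_mem_of_mem_normalizer (nF R1.sQ.2) hy
    rw [show F ⊓ C1(s) = zpowers x from le_antisymm (A.PH hW pF xF ▸ inf_le_inf_left F fun y hy =>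
      A.mem_of_comm A.sQ A.s1 (mem_top y) (mem_cent1'.1 hy)) (zpowers_le.2 ⟨xF, mem_cent1'.2 (A.V_cent A.xV).1⟩),
      cF, Nat.card_zpowers, pow_succ'] at this
    exact (Nat.eq_of_mul_eq_mul_left hp.pos this).symm
  have sub : invertedBy F s ⊆ {y | y ∈ F ∧ NI y} := fun y hy =>
    ⟨hy.1, A.NI_of (oF.of_dvd_nat (orderOf_dvd_natCard F hy.1)) hy.2⟩
  have le1 := Nat.card_mono (Set.toFinite _) sub
  obtain ⟨a, ha⟩ : ∃ a, orderOf x = a + 1 := ⟨orderOf x - 1, by omega⟩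
  have i0 := relIndex_ne_zero C1(x) N(F)
  have i1 := Nat.le_of_dvd (Nat.pos_of_ne_zero i0) d1
  have i2 := Nat.le_of_dvd (by omega) g1
  rw [cF, pow_succ, show orderOf x - 1 = a by omega] at g2
  nth_rewrite 2 [ha] at g2
  have i3 : C1(x).relIndex N(F) = orderOf x ^ (m + 1) := by
    refine le_antisymm (Nat.le_of_mul_le_mul_right (c := a) (by nlinarith) (by omega)) (by omega)
  obtain rfl : m = 0 := by
    have h1 := card_subgroup_dvd_card N(F)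
    rw [← card_mul_relIndex nF, ← card_mul_relIndex FC, cF, i3, mul_right_comm, ← pow_add] at h1
    have := (padicValNat_dvd_iff_le Nat.card_pos.ne').1 ((dvd_mul_right _ _).trans h1)
    omega
  rw [zero_add, pow_one] at hm i3 g2
  refine ⟨F, hm, sF, nF, cF, xF, stF, ost, i3, fun y hy h => ?_⟩
  have : (zpowers (s * t) : Set G) = {y | y ∈ F ∧ NI y} := Set.eq_of_subset_of_ncard_le (fun y hy => sub ⟨zpowers_le.2 stF hy, by
    obtain ⟨k, rfl⟩ := hy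
    exact inverts_zpow A.s_inverts k⟩) (by
      rw [← Nat.card_coe_set_eq, ← Nat.card_coe_set_eq]
      change _ ≤ Nat.card (zpowers (s * t))
      rw [Nat.card_zpowers, ost]
      rw [i3] at g2
      nlinarith)
  exact this.ge ⟨hy, h⟩

theorem caseA (hW : ¬ orderOf x ∣ Nat.card ↥(WW H Q t ⊓ C1(x))) : False := by
  obtain ⟨F, hm, sF, nF, cF, xF, stF, ost, iN, hT⟩ := A.caseA1 hW
  have hp := A.hp
  haveI := Fact.mk hp
  have p3 := A.three_le
  have R1 := A.R1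
  have vG := A.val_G hW (m := 0) (by simpa using hm)
  obtain ⟨T, eT⟩ : ∃ T, T = zpowers (s * t) := ⟨_, rfl⟩
  have cT : Nat.card T = orderOf x := by rw [eT, Nat.card_zpowers, ost]
  have TF : T ≤ F := eT ▸ zpowers_le.2 stF
  have CT : C(T) = C1(s * t) := eT ▸ cent_zpowers _
  have stT : s * t ∈ T := eT ▸ mem_zpowers _
  have uT : ∀ y ∈ T, NI y := fun y hy => A.NI_of (A.odd_st.of_dvd_nat (orderOf_dvd_of_mem_zpowers (eT ▸ hy))) (by
    obtain ⟨k, rfl⟩ : y ∈ zpowers (s * t) := eT ▸ hy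
    exact inverts_zpow A.s_inverts k)
  rw [← eT] at hT
  have nT : N(F) ≤ N(T) := fun g hg => CfsgH2.mem_normalizer_of_conj_mem fun y hy =>
    hT _ (conj_mem_of_mem_normalizer hg (TF hy)) ((uT y hy).conj g)
  have QT : ∀ y ∈ Q, y ∈ C(T) → y = 1 := fun y hy h => by_contra fun y1 =>
    A.st_not_mem (A.mem_of_comm hy y1 (mem_top _) (h _ stT))
  have VT : VV H t ≤ C(T) := fun v hv => CT ▸ mem_cent1'.2 (by
    rw [← mul_assoc, (A.V_cent hv).1, mul_assoc, ← (A.mem_V.1 hv).2, mul_assoc])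
  have D1 : DD (H ⊓ C1(x)) t = zpowers x := by
    refine le_antisymm (fun d hd => A.N0_eq.le ⟨hd, fun b hb => ?_⟩) (A.N0_eq.ge.trans inf_le_left)
    have h1 := VT (A.D1_le hd).1
    have := QT (b * (d * b⁻¹ * d⁻¹)) (mul_mem hb.1 (A.conjQ (R1.DH hd).1 (inv_mem hb.1))) (by
      simpa [mul_assoc] using mul_mem (conj_mem_of_mem_normalizer
        (CfsgH2.normalizer_le_normalizer_centralizer _ (nT (nF hb.2))) h1) (inv_mem h1))
    calc b * d = b * (d * b⁻¹ * d⁻¹) * (d * b) := by group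
      _ = d * b := by rw [this, one_mul]
  obtain ⟨n, hn⟩ : ∃ n, n = Nat.card ↥(Q ⊓ C1(x)) := ⟨_, rfl⟩
  have cN : Nat.card N(F) = orderOf x ^ 3 * n := by
    rw [← card_mul_relIndex nF, R1.card_L, R1.card_H, D1, Nat.card_zpowers, hm, iN, ← hn]; ring
  obtain ⟨X, eX⟩ : ∃ X, X = N(F) ⊓ C(T) := ⟨_, rfl⟩
  have XN : X ≤ N(F) := eX ▸ inf_le_left
  have XC : X ≤ C(T) := eX ▸ inf_le_right
  have nX : N(F) ≤ N(X) := eX ▸ le_normalizer_inf le_normalizer (nT.trans (CfsgH2.normalizer_le_normalizer_centralizer _))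
  have BN : Q ⊓ C1(x) ≤ N(F) := inf_le_right.trans nF
  have c1 := CfsgH1.card_sup_of_disjoint (BN.trans nX) (disjoint_def.2 fun h1 h2 => QT _ h2.1 (XC h1))
  have c2 : Nat.card N(F) ≤ Nat.card ↥(X ⊔ (Q ⊓ C1(x))) := by
    have := relIndex_cent1_lt nT stT A.st_ne
    rw [c1, ← CfsgH1.card_inf_mul_relIndex C1(s * t), inf_comm, ← CT, ← eX]
    exact Nat.mul_le_mul_left _ (by rw [CT]; omega)
  have XB := eq_of_le_of_card_le (sup_le XN BN) c2
  have n0 : 0 < n := hn ▸ Nat.card_pos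
  have cX : Nat.card X = orderOf x ^ 3 := Nat.eq_of_mul_eq_mul_right n0 (by rw [← cN, ← XB, c1, hn])
  have pX : IsPGroup (orderOf x) X := .of_card cX
  have xX : x ∈ X := eX ▸ ⟨nF (self_mem_cent1 x), VT A.xV⟩
  have TX : T ≤ X := eX ▸ le_inf (TF.trans le_normalizer) (CT ▸ eT ▸ zpowers_le.2 (self_mem_cent1 _))
  have dX : ⁅X, X⁆ ≤ T := commutator_le_of_card_sq pX TX (XN.trans nT) (by rw [cX, cT]; ring_nf; rfl)
  have nG : ¬ orderOf x ^ 4 ∣ Nat.card G := fun h => by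
    have := (padicValNat_dvd_iff_le Nat.card_pos.ne').1 h
    omega
  have MN : N(F) = N(X) := by
    obtain ⟨g1, g2⟩ := A.gen hW X _ pX xX (nF.trans nX) le_rfl
    have le1 := Nat.card_mono (Set.toFinite _) (show (T : Set G) ⊆ {y | y ∈ X ∧ NI y} from fun y hy => ⟨TX hy, uT y hy⟩)
    change Nat.card T ≤ _ at le1
    rw [← relIndex_mul_relIndex _ _ _ nF nX, iN] at g1 g2
    have k1 : ¬ orderOf x ∣ N(F).relIndex N(X) := fun h => nG (by
      refine Dvd.dvd.trans ?_ (card_subgroup_dvd_card N(X))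
      rw [← card_mul_relIndex nX, cN, mul_right_comm, pow_succ]
      exact (mul_dvd_mul_left _ h).mul_right n)
    have k0 := relIndex_ne_zero N(F) N(X)
    refine le_antisymm nX (relIndex_eq_one.1 ?_)
    rw [cX, ← hm, ← hn] at g2
    rw [← hm, ← hn] at g1 k1 p3
    rw [cT, ← hm, ← hn] at le1
    generalize N(F).relIndex N(X) = k at *
    obtain ⟨k, rfl⟩ : ∃ j, k = j + 1 := ⟨k - 1, by omega⟩
    rw [show (n + 1) * (k + 1) - 1 = n * (k + 1) + k by rw [show (n + 1) * (k + 1) = n * (k + 1) + k + 1 by ring]; rfl,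
      Nat.dvd_add_right (dvd_mul_right _ _)] at g1
    obtain ⟨j, rfl⟩ := g1
    rw [Nat.add_sub_cancel] at g2
    rcases j with _ | _ | j
    · simp
    · simp at k1
    · exfalso
      have : (n + 1) * ((n * (j + 1 + 1) + 1) * n + 1) ≤ (n + 1) * (n + 1) ^ 2 := by nlinarith
      have := Nat.le_of_mul_le_mul_left this (by omega)
      nlinarith [Nat.zero_le (n * n * j), Nat.mul_le_mul_left n (show 2 ≤ n by omega)]
  have xT : ∀ i : ℕ, x ^ i ∈ T → x ^ i = 1 := fun i h => A.not_NI (a := 1) (by simpa using uT _ h)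
  have TP : T ⊔ zpowers x = F := eq_of_le_of_card_le (sup_le TF (zpowers_le.2 xF)) (by
    rw [card_sup_zpowers (nT (XN xX)) (fun h => hp.one_lt.ne' (orderOf_eq_one_iff.2 (by simpa using xT 1 (by simpa))))
      (by rw [pow_orderOf_eq_one]; exact one_mem _), cF, cT, pow_two])
  have key : ∀ a, a * x * a⁻¹ ∈ X → a ∈ N(F) := fun a ha => by
    have h1 : cj a⁻¹ T ≤ C1(x) := cj_le_iff.2 fun y hy => mem_cent1.2 (by
      calc _ = a⁻¹ * (a * x * a⁻¹ * y) * a := by group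
        _ = _ := by rw [← XC ha y hy]; group)
    have h2 := sF.le_of_le_normalizer (IsPGroup_cj (pX.to_le TX) _) h1 (h1.trans nF)
    have h3 : cj a⁻¹ T = T := cj_eq_iff_mem_normalizer.2 (CfsgH2.mem_normalizer_of_conj_mem fun y hy =>
      hT _ (h2 (conj_mem_cj _ hy)) ((uT y hy).conj _))
    have h4 : F ≤ cj a⁻¹ X := TP ▸ sup_le (h3 ▸ cj_mono _ TX) (zpowers_le.2 (mem_cj.2 (by simpa using ha)))
    have h5 : cj a⁻¹ X ≤ X := by
      nth_rewrite 2 [eX]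
      refine le_inf (le_normalizer_of_commutator_le h4 ?_) ?_
      · rw [← cj_commutator]
        exact (cj_mono _ dX).trans (h3.le.trans TF)
      · rw [← h3, ← cj_centralizer]
        exact cj_mono _ XC
    exact MN ▸ inv_mem_iff.1 (mem_normalizer_of_cj_le h5)
  obtain ⟨N, -, h1, -, h2⟩ := exists_transfer TX dX
  have := xT _ ((h2 x xX fun j a h => by
    by_cases h0 : x ^ j = 1
    · simp [h0, one_mem]
    obtain ⟨e, he⟩ := exists_pow_pow hp h0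
    obtain ⟨u, hu, b, hb, rfl⟩ := (mem_sup_of_normalizer (BN.trans nX)).1 (XB.ge (key a (by
      rw [← he, ← conj_pow]; exact pow_mem h e)))
    have := dX (commutator_mem_commutator hu (pow_mem xX j))
    rwa [commutatorElement_def, show u * x ^ j * u⁻¹ = u * b * x ^ j * (u * b)⁻¹ by
      rw [mul_assoc u b, ((show Commute x b from mem_cent1.1 hb.2).pow_left j).eq.symm]; group] at this).1
      (h1 (A.perf ▸ mem_top x)))
  refine nG ?_
  rw [← card_mul_index X, cX, pow_succ _ 3]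
  exact mul_dvd_mul_left _ (orderOf_dvd_iff_pow_eq_one.2 this)

theorem dvd_of_prime {l : ℕ} (hl : l.Prime) (h1 : l ∣ Nat.card ↥(Q ⊓ C1(x))) (h2 : ¬ l ^ 2 ∣ Nat.card ↥(Q ⊓ C1(x))) :
    2 ^ orderOf x - 1 ∣ l ^ orderOf x - 1 := by
  haveI := Fact.mk hl
  have nY := le_normalizer_Opi_of {l} A.nQ
  obtain ⟨j, hj⟩ := IsPGroup.iff_card.1 ((isPGroup_Opi (p := l) Q).to_inf_left (K := C1(x)))
  obtain ⟨y, hy, ho⟩ := exists_orderOf_eq_prime hl h1
  have : y ∈ Opi {l} Q := le_Opi_of_nilpotent (A.nil A.big) (zpowers_le.2 hy.1)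
    (isPi_singleton_iff.2 (isPGroup_zpowers_of_orderOf (ho.trans (pow_one l).symm))) (mem_zpowers y)
  have h3 := orderOf_dvd_natCard (Opi {l} Q ⊓ C1(x)) ⟨this, hy.2⟩
  have h4 := card_dvd_of_le (inf_le_inf_right C1(x) (Opi_le {l} Q))
  rw [hj] at h3 h4
  obtain rfl : j = 1 := by
    rcases j with _ | _ | j
    · exact absurd (Nat.dvd_one.1 (ho ▸ h3)) hl.one_lt.ne'
    · rfl
    · exact absurd ((pow_dvd_pow _ (by omega)).trans h4) h2
  have := CfsgH1.card_dvd_card_sub_one ((A.KD.trans A.DH).trans nY) fun k hk k1 =>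
    eq_bot_iff.2 ((inf_le_inf_right _ (Opi_le _ Q)).trans (A.K_fpf' hk k1).le)
  rwa [A.wl' (Opi_le _ Q) nY, hj, pow_one, show Nat.card (KK H t) = 2 ^ orderOf x - 1 by
    rw [← A.q_eq, ← A.card_K']; rfl] at this

theorem caseB {w : G} (hw : w ∈ WW H Q t) (hx : w ∈ C1(x)) (ho : orderOf w = orderOf x)
    (hc : Concl (Q ⊓ C1(w)) s r) : IsPGroup 2 Q := by
  obtain ⟨F, m, -, -, -, -, -, -, ost, h⟩ := A.nf1
  have nil := A.nil A.big
  by_contra hn
  have n1 := le_normalizer_Opi_of {2}ᶜ A.nQ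
  have := h w hw hx (ho ▸ A.hp) (Opi {2}ᶜ Q ⊓ C1(x)) (inf_le_inf_right _ (Opi_le _ Q)) (fun e => hn (by
    have := A.wl' (Opi_le _ Q) n1
    rw [e, card_bot, one_pow, card_eq_one] at this
    have h2 := Opi_sup_Opi_compl nil {2}
    rw [this, sup_bot_eq] at h2
    exact h2 ▸ isPGroup_Opi Q)) (A.norm_cent n1 (A.VH (A.WV hw)) hx) (eq_bot_iff.2 fun y hy =>
      eq_one_of_mem_pgroup_of_coprime hc.1 ⟨Opi_le _ Q hy.1.1, hy.2⟩ (Nat.coprime_two_right.2 (Nat.not_even_iff_odd.1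
        fun h => isPi_compl_singleton_iff.1 (isPi_Opi {2}ᶜ Q) (h.two_dvd.trans (orderOf_dvd_natCard _ hy.1.1)))))
  have Rw := A.sub1 (A.WV hw)
  have q1 := (A.q0_sub_W hw).trans A.q_eq
  have h1 := A.wlW hw hx
  have p3 := A.three_le
  have cube : r = s → orderOf x = 3 := fun e => le_antisymm (Nat.le_of_dvd (by norm_num)
    (ost ▸ orderOf_dvd_of_pow_eq_one (A.cube_of_eq e))) p3
  rw [ho] at this
  rcases hc.2 with h3 | ⟨hna, ⟨h3, h4⟩ | ⟨h3, h4⟩⟩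
  · have e := cube (A.r_eq_of_sq (Q0_sq ((eq_of_le_of_card_le (Q0_le _) (by rw [h3, Rw.q0_eq])).ge Rw.rQ)))
    rw [h3, q1, e] at h1
    rw [e, ← Nat.pow_left_injective (by norm_num) h1] at this
    have := A.dvd_of_prime (l := 13) (by norm_num) (by omega) (by omega)
    rw [e] at this
    norm_num at this
  · have e : orderOf x = 5 := (Nat.prime_dvd_prime_iff_eq A.hp (by norm_num)).1 (ost ▸ orderOf_dvd_of_pow_eq_one
      (A.five (Rw.pow_four (A.q0_sub_W hw ▸ A.big) hc.1 hna Rw.rQ) h4).1)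
    rw [h3, q1, e, show (2 ^ 5) ^ 2 = 4 ^ 5 by norm_num] at h1
    rw [e, ← Nat.pow_left_injective (by norm_num) h1] at this
    have := A.dvd_of_prime (l := 11) (by norm_num) (by omega) (by omega)
    rw [e] at this
    norm_num at this
  · have e := cube h4
    rw [h3, q1, e] at h1
    rw [e, ← Nat.pow_left_injective (by norm_num) h1] at this
    have := A.dvd_of_prime (l := 13) (by norm_num) (by omega) (by omega)
    rw [e] at this
    norm_num at this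

/-- the first case -/
theorem main (ih : ∀ w ∈ WW H Q t, w ≠ 1 → Concl (Q ⊓ C1(w)) s r) : IsPGroup 2 Q ∧ WW H Q t ≠ ⊥ := by
  obtain ⟨w, hw, ho⟩ := exists_orderOf_eq_prime A.hp (not_not.1 A.caseA)
  have w1 : w ≠ 1 := fun e => A.hp.one_lt.ne' (by rw [← ho, e, orderOf_one])
  exact ⟨A.caseB hw.1 hw.2 ho (ih w hw.1 w1), fun e => w1 ((eq_bot_iff_forall _).1 e w hw.1)⟩

end FC

end CfsgSuz
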