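import Cfsg.Agent.H3.Suz10

/-! Suzuki's theorem on split rank-one groups: the structure of `Q`. -/

set_option autoImplicit false

namespace CfsgSuz

open Subgroup Cfsg CfsgH2 CfsgLead CfsgFT
open scoped commutatorElement

variable {G : Type*} [Group G]

namespace RK

variable [Finite G] {L H Q : Subgroup G} {t s r : G} (R : RK L H Q t s r)
include R

theorem two_le : 2 ≤ q0 Q := by
  have := R.card_K'
  have : 0 < Nat.card (KK H t) := Nat.card_pos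
  omega

theorem eq_Q0 (h : Nat.card Q = q0 Q) : Q0 Q = Q := eq_of_le_of_card_le (Q0_le _) (by rw [h, R.q0_eq])

theorem r_eq_of_card (h : Nat.card Q = q0 Q) : r = s := R.r_eq_of_sq (Q0_sq ((R.eq_Q0 h).ge R.rQ))

theorem st_not_comm : s * t ≠ t * s := fun e => R.st_sq_ne (by
  nth_rewrite 1 [e]
  rw [mul_assoc, ← mul_assoc s, R.ss, one_mul, R.tt])

theorem concl_of_two (big : 2 < q0 Q) (pg : IsPGroup 2 Q) (hf : DD H t ⊓ C(Q) = ⊥) {v : G} (hv : v ∈ VV H t)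
    (hp : (orderOf v).Prime) (hc : Concl (Q ⊓ C1(v)) s r) : Concl Q s r := by
  have R1 := R.sub1 hv
  refine ⟨pg, ?_⟩
  by_cases hna : Q ≤ C(Q)
  · refine Or.inl (R.ab_case pg hna hv fun x hx e => ?_)
    rcases hc.2 with h | h
    · exact Q0_sq ((R1.eq_Q0 h).ge ⟨hx, mem_cent1.2 e⟩)
    · exact absurd (inf_le_left.trans (hna.trans (centralizer_le (SetLike.coe_subset_coe.2 inf_le_left)))) h.1
  obtain ⟨sq, h2⟩ := R.two_cases big pg hna
  refine Or.inr ⟨hna, ?_⟩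
  by_cases hr : r = s
  · subst hr
    refine Or.inr ⟨h2.resolve_left fun h => ?_, rfl⟩
    have := R.cube_le (by rw [h]; nlinarith)
    rw [h] at this
    nlinarith
  refine Or.inl ⟨?_, hr⟩
  have hW : v ∉ WW H Q t := fun h => hp.one_lt.ne' (by
    rw [(eq_bot_iff_forall _).1 hf v ⟨R.WD h, R.W_cent sq (R.five (R.pow_four big pg hna R.rQ) hr).2 h⟩, orderOf_one])
  have h3 := R.wiel big hv hp hW le_rfl ((R.KD.trans R.DH).trans R.nQ) (R.nQ (R.VH hv)) fun h => by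
    obtain ⟨n, hn⟩ := IsPGroup.iff_card.1 pg
    exact (R.odd_D (R.VD hv)).not_two_dvd_nat
      ((Nat.prime_dvd_prime_iff_eq hp Nat.prime_two).1 (hp.dvd_of_dvd_pow (hn ▸ h))).symm.dvd
  rcases hc.2 with h | ⟨-, h | h⟩
  · exact absurd (R1.r_eq_of_card h) hr
  · rw [h3, h.1, R.q0_pow_prime big hv hp hW, ← pow_mul, ← pow_mul, mul_comm]
  · exact absurd h.2 hr

end RK

section Simple

variable [Finite G] [IsSimpleGroup G] {H Q : Subgroup G} {t s r : G} (R : RK ⊤ H Q t s r)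
include R

theorem RK.faith : DD H t ⊓ C(Q) = ⊥ :=
  ((normalizer_eq_top_iff.1 (top_le_iff.1 R.norm_ker)).eq_bot_or_eq_top).resolve_right
    fun e => R.tH (R.DH (e.ge (mem_top t)).1)

theorem RK.perf : _root_.commutator G = ⊤ :=
  ((inferInstance : (_root_.commutator G).Normal).eq_bot_or_eq_top).resolve_left fun e => R.st_not_comm (by
    have : ⁅s, t⁆ ∈ _root_.commutator G := commutator_mem_commutator (mem_top s) (mem_top t)
    rwa [e, mem_bot, commutatorElement_eq_one_iff_mul_comm] at this)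

theorem RK.two_of_ih (big : 2 < q0 Q) (hV : VV H t ≠ ⊥)
    (ih : ∀ v ∈ VV H t, v ≠ 1 → 2 < q0 (Q ⊓ C1(v)) → Concl (Q ⊓ C1(v)) s r) :
    IsPGroup 2 Q ∧ ∃ v ∈ VV H t, (orderOf v).Prime ∧ 2 < q0 (Q ⊓ C1(v)) := by
  have ex : ∀ X : Subgroup G, X ≠ ⊥ → ∃ v ∈ X, (orderOf v).Prime := fun X h => by
    obtain ⟨p, hp, h1⟩ := exists_prime_dvd_card h
    obtain ⟨x, hx, ho⟩ := exists_orderOf_eq_prime hp h1
    exact ⟨x, hx, ho ▸ hp⟩
  by_cases h : ∃ x ∈ VV H t, (orderOf x).Prime ∧ q0 (Q ⊓ C1(x)) = 2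
  · obtain ⟨x, h1, h2, h3⟩ := h
    obtain ⟨h4, h5⟩ := FC.main ⟨R, big, h1, h2, h3, R.faith, R.perf⟩ fun w hw w1 =>
      ih w (R.WV hw) w1 (R.q0_sub_W hw ▸ big)
    obtain ⟨w, hw, hp⟩ := ex _ h5
    exact ⟨h4, w, R.WV hw, hp, R.q0_sub_W hw ▸ big⟩
  have h' : ∀ x ∈ VV H t, (orderOf x).Prime → 2 < q0 (Q ⊓ C1(x)) := fun x hx hp =>
    lt_of_le_of_ne (R.sub1 hx).two_le fun e => h ⟨x, hx, hp, e.symm⟩
  obtain ⟨v, hv, hp⟩ := ex _ hV
  refine ⟨R.thmC big hV fun d hd d1 => (eq_bot_iff_forall _).2 fun y hy => by_contra fun y1 => ?_, v, hv, hp, h' v hv hp⟩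
  obtain ⟨n, hn⟩ := exists_prime_pow d1
  have yQ := Opi_le _ Q hy.1
  have e : d ^ n * y = y * d ^ n := ((show Commute d y from mem_cent1.1 hy.2).pow_left n).eq
  obtain ⟨k, hk, h1⟩ := R.conj_into_V (X := {d ^ n}) (Set.singleton_subset_iff.2 (pow_mem hd n)) yQ y1 (mem_cent1.2 e)
  have h2 := h1 _ rfl
  have h3 := (orderOf_conj' k (d ^ n)).symm ▸ hn
  refine conj_ne_one y1 k (eq_one_of_mem_pgroup_of_coprime (ih _ h2 (fun e => h3.one_lt.ne' (by rw [e, orderOf_one]))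
    (h' _ h2 h3)).1 ⟨R.conjQ (R.DH hk.1) yQ, mem_cent1.2 ?_⟩ ?_)
  · calc _ = k * (d ^ n * y) * k⁻¹ := by group
      _ = _ := by rw [e]; group
  · rw [orderOf_conj']
    exact Nat.coprime_two_right.2 (Nat.not_even_iff_odd.1 fun h =>
      isPi_compl_singleton_iff.1 (isPi_Opi {2}ᶜ Q) (h.two_dvd.trans (orderOf_dvd_natCard _ hy.1)))

theorem RK.cent_lt {v : G} (v1 : v ≠ 1) : Nat.card ↥(⊤ ⊓ C1(v)) < Nat.card G := by
  refine CfsgH1.card_lt_of_ne_top fun e => ?_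
  have hz : v ∈ center G := mem_center_iff.2 fun g => mem_cent1'.1 (e.ge (mem_top g)).2
  rcases (inferInstance : (center G).Normal).eq_bot_or_eq_top with h | h
  · exact v1 ((eq_bot_iff_forall _).1 h v hz)
  · exact R.st_not_comm (mem_center_iff.1 (h.ge (mem_top t)) s)

end Simple

universe u

theorem concl_aux (n : ℕ) : ∀ (G : Type u) [Group G] [Finite G] (L H Q : Subgroup G) (t s r : G),
    Nat.card L ≤ n → RK L H Q t s r → 2 < q0 Q → Concl Q s r := by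
  induction n with
  | zero => exact fun G _ _ L H Q t s r h _ _ => absurd h (not_le.2 Nat.card_pos)
  | succ n ih =>
    intro G _ _ L H Q t s r h R big
    obtain ⟨G', _, _, H', Q', t', e, h1, R', hf⟩ := R.exists_faithful
    refine Concl.of_equiv e (s := ⟨s, R.sQ⟩) (r := ⟨r, R.rQ⟩) ?_
    rw [q0_congr e] at big
    by_cases hs : IsSimpleGroup G'
    · by_cases hV : VV H' t' = ⊥
      · obtain ⟨h2, h3⟩ := R'.concl_of_V big hV
        exact ⟨h2, h3.imp_right fun h => ⟨h.1, Or.inl h.2⟩⟩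
      have ih' : ∀ v ∈ VV H' t', v ≠ 1 → 2 < q0 (Q' ⊓ C1(v)) → Concl (Q' ⊓ C1(v)) _ _ := fun v hv v1 h2 =>
        ih _ _ _ _ _ _ _ (by have := R'.cent_lt v1; omega) (R'.sub1 hv) h2
      obtain ⟨pg, v, hv, hp, h2⟩ := R'.two_of_ih big hV ih'
      exact R'.concl_of_two big pg hf hv hp (ih' v hv (fun e => hp.one_lt.ne' (by rw [e, orderOf_one])) h2)
    · haveI : Nontrivial G' := ⟨_, _, R'.t1⟩
      obtain ⟨N, hN, h0, h2⟩ : ∃ N : Subgroup G', N.Normal ∧ N ≠ ⊥ ∧ N ≠ ⊤ := by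
        by_contra h
        exact hs ⟨fun N hN => by_contra fun h' => h ⟨N, hN, not_or.1 h'⟩⟩
      obtain ⟨h3, h4⟩ := R'.normal_cases big hf le_top le_normalizer_of_normal h0
      exact ih G' N (H' ⊓ N) Q' t' _ _ (by have := CfsgH1.card_lt_of_ne_top h2; omega)
        ⟨R'.inf_sub le_top h3 h4, R'.sQ, R'.s1, R'.ss, R'.rQ, R'.eqn⟩ big

/-- Suzuki's theorem: the structure of `Q` -/
theorem RK.concl {G : Type u} [Group G] [Finite G] {L H Q : Subgroup G} {t s r : G} (R : RK L H Q t s r)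
    (big : 2 < q0 Q) : Concl Q s r := concl_aux _ G L H Q t s r le_rfl R big

theorem RK.suzuki {G : Type u} [Group G] [Finite G] {L H Q : Subgroup G} {t s r : G} (R : RK L H Q t s r)
    (big : 2 < Nat.card (Q0 Q)) : IsPGroup 2 Q ∧ (Nat.card Q = Nat.card (Q0 Q) ∨
      Nat.card Q = Nat.card (Q0 Q) ^ 2 ∨ Nat.card Q = Nat.card (Q0 Q) ^ 3) := by
  rw [← R.q0_eq] at big ⊢
  obtain ⟨h1, h2⟩ := R.concl big
  exact ⟨h1, h2.imp_right fun h => h.2.imp (·.1) (·.1)⟩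

theorem RK.exists_HV {G : Type u} [Group G] [Finite G] [IsSimpleGroup G] {H Q : Subgroup G} {t s r : G}
    (R : RK ⊤ H Q t s r) (big : 2 < q0 Q) (hV : VV H t ≠ ⊥) :
    ∃ v ∈ VV H t, (orderOf v).Prime ∧ 2 < q0 (Q ⊓ C1(v)) :=
  (R.two_of_ih big hV fun _ hv _ h => (R.sub1 hv).concl h).2

end CfsgSuz
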