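import Cfsg.Agent.H3.Suz11
import Cfsg.Agent.H7.Sz4

/-! Identification of split rank-one groups: `PSL₂(q)` and `Sz(q)`. -/

set_option autoImplicit false

namespace CfsgSuz

open Subgroup Cfsg CfsgH2 CfsgLead CfsgFT
open scoped commutatorElement

variable {G : Type*} [Group G]

namespace RK

variable [Finite G] {L H Q : Subgroup G} {t s r : G} (R : RK L H Q t s r)
include R

theorem K_le_gen : KK H t ≤ Q ⊔ zpowers t := fun k hk => by
  obtain ⟨c, hc, rfl⟩ := R.exists_K_sqrt hk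
  have cH := R.DH (R.KD hc)
  have ht : t ∈ Q ⊔ zpowers t := mem_sup_right (mem_zpowers t)
  have h1 : c * r * c⁻¹ ∈ Q ⊔ zpowers t := mem_sup_left (R.conjQ cH R.rQ)
  have := mul_mem (mul_mem (mul_mem h1 (mul_mem (mul_mem ht (mem_sup_left (R.conjQ' cH R.sQ))) ht)) (inv_mem h1))
    (inv_mem ht)
  rwa [R.eqn_conj (R.mem_K.1 hc), show c * r * c⁻¹ * ((c * r * c⁻¹)⁻¹ * (c * c) * t * (c * r * c⁻¹)) * (c * r * c⁻¹)⁻¹ *
    t⁻¹ = c * c by group] at this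

theorem norm_gen : L ≤ N(Q ⊔ zpowers t) := by
  refine R.le_norm (R.sup_QD.ge.trans (sup_le (le_sup_left.trans le_normalizer) fun d hd => ?_))
    (le_normalizer (mem_sup_right (mem_zpowers t)))
  refine mem_normalizer_of_cj_le ?_
  rw [cj_sup, cj_zpowers, cj_eq_iff_mem_normalizer.2 (R.nQD hd)]
  refine sup_le_sup_left' ?_
  obtain ⟨k, hk, v, hv, rfl⟩ := R.dec_D' hd
  have := mul_mem (R.K_le_gen (R.mem_K.2 hk)) (mul_mem (mem_sup_right (mem_zpowers t))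
    (inv_mem (R.K_le_gen (R.mem_K.2 hk))))
  rwa [zpowers_le, mul_assoc k v, ← (R.mem_V.1 hv).2, show k * (t * v) * (k * v)⁻¹ = k * (t * k⁻¹) by group]
where sup_le_sup_left' {A B C : Subgroup G} (h : B ≤ A ⊔ C) : A ⊔ B ≤ A ⊔ C := sup_le le_sup_left h

end RK

theorem RK.gen_top [Finite G] [IsSimpleGroup G] {H Q : Subgroup G} {t s r : G} (R : RK ⊤ H Q t s r) :
    Q ⊔ zpowers t = ⊤ :=
  ((normalizer_eq_top_iff.1 (top_le_iff.1 R.norm_gen)).eq_bot_or_eq_top).resolve_left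
    fun e => R.t1 ((eq_bot_iff_forall _).1 e t (mem_sup_right (mem_zpowers t)))

section Diag

variable {G' : Type*} [Group G'] {H Q : Subgroup G} {H' Q' : Subgroup G'} {t : G} {t' : G'}

/-- matching cosets -/
def Mt (H : Subgroup G) (t : G) (H' : Subgroup G') (t' : G') {Q : Subgroup G} {Q' : Subgroup G'} (ψ : Q ≃* Q')
    (a : G) (a' : G') : Prop :=
  (a ∈ H ∧ a' ∈ H') ∨ ∃ y : Q, a * (y : G)⁻¹ * t ∈ H ∧ a' * (ψ y : G')⁻¹ * t' ∈ H'

theorem Mt.symm {ψ : Q ≃* Q'} {a : G} {a' : G'} (h : Mt H t H' t' ψ a a') : Mt H' t' H t ψ.symm a' a :=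
  h.imp And.symm fun ⟨y, h1, h2⟩ => ⟨ψ y, h2, by simpa using h1⟩

theorem Mt.exists (R : RK0 ⊤ H Q t) (R' : RK0 ⊤ H' Q' t') (ψ : Q ≃* Q') (a : G) : ∃ a', Mt H t H' t' ψ a a' := by
  by_cases h : a ∈ H
  · exact ⟨1, Or.inl ⟨h, one_mem _⟩⟩
  · obtain ⟨h, hh, y, hy, rfl⟩ := R.cover a (mem_top a) h
    exact ⟨t' * ψ ⟨y, hy⟩, Or.inr ⟨⟨y, hy⟩, by simpa [R.tt''] using hh, by simp [R'.tt, one_mem]⟩⟩

theorem Mt.uniq (R' : RK0 ⊤ H' Q' t') {ψ : Q ≃* Q'} {a b : G} {a' : G'} (h1 : Mt H t H' t' ψ a a')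
    (h2 : Mt H t H' t' ψ b a') : b * a⁻¹ ∈ H := by
  have no : ∀ y : Q', a' ∈ H' → a' * (y : G')⁻¹ * t' ∉ H' := fun y h h' => by
    simpa using R'.not_mem (mul_mem h (inv_mem (R'.QH y.2))) (one_mem _) (by simpa using h')
  rcases h1 with h1 | ⟨y, h1, h1'⟩ <;> rcases h2 with h2 | ⟨z, h2, h2'⟩
  · exact mul_mem h2.1 (inv_mem h1.1)
  · exact absurd h2' (no _ h1.2)
  · exact absurd h1' (no _ h2.2)
  · obtain rfl : y = z := ψ.injective (Subtype.ext (R'.uniq h1' (ψ y).2 h2' (ψ z).2 (by simp [R'.tt''])).2)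
    simpa [mul_assoc] using mul_mem h2 (inv_mem h1)

/-- the graph of the isomorphism -/
def Gr (H : Subgroup G) (t : G) (H' : Subgroup G') (t' : G') {Q : Subgroup G} {Q' : Subgroup G'} (ψ : Q ≃* Q') :
    Subgroup (G × G') where
  carrier := {g | ∀ a a', Mt H t H' t' ψ a a' ↔ Mt H t H' t' ψ (a * g.1) (a' * g.2)}
  mul_mem' := fun {g h} hg hh a a' => by rw [hg, hh, Prod.fst_mul, Prod.snd_mul, mul_assoc, mul_assoc]
  one_mem' := fun a a' => by simp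
  inv_mem' := fun {g} hg a a' => by rw [hg (a * g⁻¹.1)]; simp

theorem Gr_inj [Finite G] [IsSimpleGroup G] (R : RK0 ⊤ H Q t) (R' : RK0 ⊤ H' Q' t') {ψ : Q ≃* Q'} {g : G}
    (h : ∀ a a', Mt H t H' t' ψ a a' → Mt H t H' t' ψ (a * g) a') : g = 1 := by
  have : g ∈ H.normalCore := fun a => by
    obtain ⟨a', ha⟩ := Mt.exists R R' ψ a
    exact ha.uniq R' (h a a' ha)
  rcases (inferInstance : H.normalCore.Normal).eq_bot_or_eq_top with e | e
  · exact (eq_bot_iff_forall _).1 e g this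
  · exact absurd (normalCore_le H (e.ge (mem_top t))) R.tH

theorem iso_of_pt [Finite G] [IsSimpleGroup G] [Finite G'] [IsSimpleGroup G'] {s r : G} {s' r' : G'}
    (R : RK ⊤ H Q t s r) (R' : RK ⊤ H' Q' t' s' r') (ψ : Q ≃* Q')
    (h : ∀ x y : Q, Pt H t x t y → Pt H' t' (ψ x) t' (ψ y)) : Nonempty (G ≃* G') := by
  have h1 : ∀ (y : Q) a a', Mt H t H' t' ψ a a' → Mt H t H' t' ψ (a * y) (a' * ψ y) := fun y a a' h =>
    h.imp (fun h => ⟨mul_mem h.1 (R.QH y.2), mul_mem h.2 (R'.QH (ψ y).2)⟩) fun ⟨z, h1, h2⟩ =>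
      ⟨z * y, by simpa [mul_assoc] using h1, by simpa [mul_assoc] using h2⟩
  have h2 : ∀ a a', Mt H t H' t' ψ a a' → Mt H t H' t' ψ (a * t) (a' * t') := by
    rintro a a' (h0 | ⟨y, h1, h2⟩)
    · exact Or.inr ⟨1, by simpa [R.tt''] using h0.1, by simpa [R'.tt''] using h0.2⟩
    by_cases y1 : y = 1
    · exact Or.inl ⟨by simpa [y1] using h1, by simpa [y1] using h2⟩
    obtain ⟨z, hz, e⟩ := R.exists_f y.2 fun e => y1 (Subtype.ext e)
    exact Or.inr ⟨⟨z, hz⟩, by simpa [mul_assoc, R.tt'] using mul_mem h1 e,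
      by simpa [mul_assoc, R'.tt'] using mul_mem h2 (h y ⟨z, hz⟩ e)⟩
  have m1 : ∀ y : Q, ((y : G), (ψ y : G')) ∈ Gr H t H' t' ψ := fun y a a' =>
    ⟨h1 y a a', fun h => by simpa using h1 y⁻¹ _ _ h⟩
  have m2 : (t, t') ∈ Gr H t H' t' ψ := fun a a' => ⟨h2 a a', fun h => by simpa [R.tt'', R'.tt''] using h2 _ _ h⟩
  let f1 := (MonoidHom.fst G G').comp (Gr H t H' t' ψ).subtype
  let f2 := (MonoidHom.snd G G').comp (Gr H t H' t' ψ).subtype
  have b1 : Function.Bijective f1 := ⟨(injective_iff_map_eq_one _).2 fun g e => Subtype.ext (Prod.ext e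
    (Gr_inj R'.toRK0 R.toRK0 (ψ := ψ.symm) fun a' a h => by
      simpa [show g.1.1 = 1 from e] using ((g.2 a a').1 h.symm).symm)),
    MonoidHom.range_eq_top.1 (top_le_iff.1 (R.gen_top.ge.trans (sup_le (fun y hy => ⟨⟨_, m1 ⟨y, hy⟩⟩, rfl⟩)
      (zpowers_le.2 ⟨⟨_, m2⟩, rfl⟩))))⟩
  have b2 : Function.Bijective f2 := ⟨(injective_iff_map_eq_one _).2 fun g e => Subtype.ext (Prod.ext
    (Gr_inj R.toRK0 R'.toRK0 fun a a' h => by simpa [show g.1.2 = 1 from e] using (g.2 a a').1 h) e),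
    MonoidHom.range_eq_top.1 (top_le_iff.1 (R'.gen_top.ge.trans (sup_le
      (fun y hy => ⟨⟨_, m1 (ψ.symm ⟨y, hy⟩)⟩, by simp [f2]⟩) (zpowers_le.2 ⟨⟨_, m2⟩, rfl⟩))))⟩
  exact ⟨(MulEquiv.ofBijective f1 b1).symm.trans (MulEquiv.ofBijective f2 b2)⟩

end Diag

theorem RK.psl [Finite G] [IsSimpleGroup G] {H Q : Subgroup G} {t s r : G} (R : RK ⊤ H Q t s r) (big : 2 < q0 Q)
    (hc : Nat.card Q = q0 Q) (F : Type*) [Field F] [Finite F] [CharP F 2] (hF : Nat.card F = q0 Q) :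
    Nonempty (G ≃* Matrix.ProjectiveSpecialLinearGroup (Fin 2) F) := by
  obtain rfl := R.r_eq_of_card hc
  have h1 : L0 H Q t = ⊤ := top_le_iff.1 (R.gen_top.ge.trans (sup_le_sup_right ((R.eq_Q0 hc).ge.trans le_sup_left) _))
  have h2 : DD H t = KK H t := by rw [← R.L0_DD, ← R.L0_inf, h1, top_inf_eq]
  have hV : VV H t = ⊥ := eq_bot_iff.2 (R.KV ▸ le_inf (R.VD.trans h2.le) le_rfl)
  have hS := R.setup
  have hs : MulAction.stabilizer G ((1 : G) : G ⧸ H) = H := MulAction.stabilizer_quotient H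
  have hD := DD_stab (Ω := G ⧸ H) (a := ((1 : G) : G ⧸ H)) R.tt
  rw [hs, h2] at hD
  have hK := R.card_K'
  refine (CfsgH8.Z3.of_zass (zass_of_setup hS (hs.symm ▸ R) big (hs.symm ▸ hV))).psl_of_two (s := t)
    (Ne.symm hS.not_mem) ⟨rfl, by rw [smul_smul, R.tt, one_smul]⟩ (fun h hh => ?_) ?_ F ?_ (ringChar.eq F 2)
  · rw [R.ti, R.tK (by rw [hD]; rwa [CfsgH8.St2, hs] at hh)]
  · rw [card_pts hS, CfsgH8.St2, hs, ← hD]; omega
  · rw [card_pts hS, hF, hc]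

/-! ### the Suzuki groups -/

section Field

variable {F : Type*} [Field F] [Finite F] [CharP F 2]

theorem exists_aut {ν : F → F} (h1 : ∀ a b, ν (a * b) = ν a * ν b) (h2 : ∀ a, ν (a + 1) = ν a + 1) (h0 : ν 0 = 0) :
    ∃ σ : F ≃+* F, ∀ a, σ a = ν a := by
  have e1 : ν 1 = 1 := by simpa [h0] using h2 0
  let f : F →+* F :=
    { toFun := ν, map_one' := e1, map_mul' := h1, map_zero' := h0
      map_add' := fun a b => by
        by_cases hb : b = 0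
        · simp [hb, h0]
        · rw [show a + b = b * (a / b + 1) by field_simp, h1, h2, mul_add, ← h1, mul_one, mul_div_cancel₀ _ hb] }
  exact ⟨RingEquiv.ofBijective f (Finite.injective_iff_bijective.1 f.injective), fun _ => rfl⟩

theorem sz_field (hq : 2 < Nat.card F) {θ : F ≃+* F} (h1 : θ ≠ 1) (sj : ∀ a, ∃ τ, θ τ * τ = a) {y : F} {α : F → F}
    (a0 : α 0 = 0) (a1 : α 1 = 1) (hI : ∀ τ, τ ≠ 0 → τ * α (θ τ * τ) = α (θ τ * τ + 1) + 1)
    (hR : ∀ b, b ≠ 0 → b ≠ 1 → b * α ((y + 1) * θ b + y * b + 1) = (b + 1) * α ((y + 1) * θ b + y * b)) :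
    y = 0 ∨ (y = 1 ∧ θ * θ = fr F) := by
  have two : (2 : F) = 0 := CharTwo.two_eq_zero
  have inj : Function.Injective fun τ => θ τ * τ := Finite.injective_iff_surjective.2 sj
  have L0 : ∀ b, b ≠ 0 → (y + 1) * θ b + y * b ≠ 0 := fun b b0 e => by
    by_cases b1 : b = 1
    · rw [b1, map_one] at e
      exact one_ne_zero (α := F) (by linear_combination e - y * two)
    · have := hR b b0 b1
      rw [e, zero_add, a0, a1] at this
      exact b0 (by simpa using this)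
  have key : ∀ b τ σ, b ≠ 0 → b ≠ 1 → θ τ * τ = (y + 1) * θ b + y * b → θ σ * σ = θ τ * τ + 1 →
      b * τ + (b + 1) * σ = 1 := fun b τ σ b0 b1 e1 e2 => by
    have h3 := hI τ (by rintro rfl; exact L0 b b0 (by simpa using e1.symm))
    have h4 := hI σ (by
      rintro rfl
      refine L0 (b + 1) (fun e => b1 (by linear_combination e - two)) ?_
      rw [mul_zero] at e2
      rw [map_add, map_one]
      linear_combination -e1 - e2 + y * two)
    have h5 := hR b b0 b1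
    rw [e2, add_assoc, CharTwo.add_self_eq_zero, add_zero] at h4
    rw [← e1] at h5
    generalize α (θ τ * τ) = A at *
    generalize α (θ τ * τ + 1) = A' at *
    have : A ≠ 0 := fun e => b0 (by
      rw [e] at h3 h5
      linear_combination -h5 - b * h3)
    refine mul_right_cancel₀ this ?_
    linear_combination b * h3 + b * h4 + h5 - σ * h5 + (b + b * A) * two
  obtain ⟨b, hb⟩ : ∃ b, θ b ≠ b := not_forall.1 fun h => h1 (RingEquiv.ext h)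
  have b0 : b ≠ 0 := by rintro rfl; simp at hb
  have b1 : b ≠ 1 := by rintro rfl; simp at hb
  obtain ⟨τ, e1⟩ := sj ((y + 1) * θ b + y * b)
  obtain ⟨σ, e2⟩ := sj (θ τ * τ + 1)
  have τ0 : τ ≠ 0 := by rintro rfl; exact L0 b b0 (by simpa using e1.symm)
  have θτ : θ τ ≠ 0 := by simpa using τ0
  have k1 := key b τ σ b0 b1 e1 e2
  obtain ⟨c, hc⟩ : ∃ c, (y + 1) * θ c + y * c = θ τ⁻¹ * τ⁻¹ := (Finite.injective_iff_surjective
    (f := fun c => (y + 1) * θ c + y * c)).1 (fun a c e => by_contra fun h => L0 (a - c) (sub_ne_zero.2 h) (by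
      rw [map_sub]; linear_combination e)) _
  have k2 := key c τ⁻¹ (σ / τ) (by rintro rfl; simp [τ0] at hc) (by
    rintro rfl
    have : τ⁻¹ = 1 := inj (by simp only [map_one] at hc ⊢; linear_combination -hc + y * two)
    rw [inv_eq_one.1 this, map_one] at e1
    exact L0 (b + 1) (fun e => b1 (by linear_combination e - two)) (by
      rw [map_add, map_one]; linear_combination -e1 + (y + 1) * two)) hc.symm (by
      simp only [map_div₀, map_inv₀]; field_simp; linear_combination e2)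
  have bc : c = b⁻¹ := by
    have : τ + σ ≠ 0 := fun e => one_ne_zero (α := F) (by
      rw [show σ = τ by linear_combination e - τ * two] at e2; linear_combination -e2)
    refine eq_inv_of_mul_eq_one_left (mul_right_cancel₀ this ?_)
    field_simp at k2
    linear_combination (norm := (ring_nf; reduce_mod_char!)) c * k1 + k2
  have h2 : y * (y + 1) * (θ b + b) ^ 2 = 0 := by
    have θb : θ b ≠ 0 := by simpa using b0
    rw [bc, map_inv₀, map_inv₀, ← mul_inv, e1] at hc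
    have := L0 b b0
    field_simp at hc
    linear_combination hc - (y * θ b * b + y ^ 2 * θ b * b) * two + (y * θ b * b + y ^ 2 * θ b * b) * two
  rcases mul_eq_zero.1 h2 with h | h
  · refine (mul_eq_zero.1 h).imp_right fun h => ?_
    obtain rfl : y = 1 := by linear_combination h - two
    refine ⟨rfl, ?_⟩
    choose m hm using sj
    have m1 : ∀ τ, m (θ τ * τ) = τ := fun τ => inj (hm _)
    obtain ⟨ν, hν⟩ := exists_aut (ν := fun w => m w * w) (fun a b => by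
      rw [show m (a * b) = m a * m b from inj (by simp only [map_mul]; rw [hm, mul_mul_mul_comm, hm, hm])]; ring)
      (fun w => by
        by_cases w0 : w = 0
        · simpa [w0] using m1 1
        by_cases w1 : w = 1
        · have := m1 1
          simp only [map_one, mul_one] at this
          simp only [w1, CharTwo.add_self_eq_zero, mul_zero, this, mul_one]
        have := key w (m w) (m (w + 1)) w0 w1 (by rw [hm]; linear_combination -θ w * two) (by rw [hm, hm])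
        linear_combination this - m w * w * two) (by simp)
    rcases aut_two (a := ν) (b := ν * θ) (c := fr F) (d := θ) (fun x => by
      rw [RingAut.mul_apply, mul_comm, ← map_mul, hν, m1, fr_apply]; ring) with h | h
    · exact absurd (by simpa [h.1] using h.2) (fr_ne_one hq)
    · rw [← h.2, h.1]
  · exact absurd (by linear_combination (pow_eq_zero_iff two_ne_zero).1 h - b * two) hb

end Field

/-- coordinates of type A -/
structure TA {F : Type*} [Field F] (K Q : Subgroup G) (θ : F ≃+* F) (e l χ : G → F) : Prop where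
  add : ∀ x ∈ Q, ∀ y ∈ Q, e (x * y) = e x + e y
  ladd : ∀ x ∈ Q, ∀ y ∈ Q, l (x * y) = l x + l y + θ (e x) * e y
  ext : ∀ x ∈ Q, ∀ y ∈ Q, e x = e y → l x = l y → x = y
  surj : ∀ a b, ∃ x ∈ Q, e x = a ∧ l x = b
  cje : ∀ k ∈ K, ∀ x ∈ Q, e (k * x * k⁻¹) = χ k * e x
  cjl : ∀ k ∈ K, ∀ x ∈ Q, l (k * x * k⁻¹) = θ (χ k) * χ k * l x
  nQ : K ≤ N(Q)
  gen : Gen K χ
  mu : ∀ a, ∃ τ, θ τ * τ = a

namespace TA

variable {F : Type*} [Field F] [CharP F 2] {K Q : Subgroup G} {θ : F ≃+* F} {e l χ : G → F} (T : TA K Q θ e l χ)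
include T

omit [CharP F 2] in
theorem cj {k x : G} (hk : k ∈ K) (hx : x ∈ Q) : k * x * k⁻¹ ∈ Q := conj_mem_of_mem_normalizer (T.nQ hk) hx

omit [CharP F 2] in
theorem cj' {k x : G} (hk : k ∈ K) (hx : x ∈ Q) : k⁻¹ * x * k ∈ Q := conj_mem_of_mem_normalizer' (T.nQ hk) hx

omit [CharP F 2] in
theorem e1 : e 1 = 0 := by simpa using T.add 1 (one_mem _) 1 (one_mem _)

omit [CharP F 2] in
theorem l1 : l 1 = 0 := by simpa [T.e1] using T.ladd 1 (one_mem _) 1 (one_mem _)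

theorem einv {x : G} (hx : x ∈ Q) : e x⁻¹ = e x := by
  have := T.add x hx _ (inv_mem hx)
  rw [mul_inv_cancel, T.e1] at this
  linear_combination (norm := (ring_nf; reduce_mod_char!)) this

theorem linv {x : G} (hx : x ∈ Q) : l x⁻¹ = l x + θ (e x) * e x := by
  have := T.ladd x hx _ (inv_mem hx)
  rw [mul_inv_cancel, T.l1, T.einv hx] at this
  linear_combination (norm := (ring_nf; reduce_mod_char!)) this

omit [CharP F 2] in
theorem cje' {k x : G} (hk : k ∈ K) (hx : x ∈ Q) : χ k * e (k⁻¹ * x * k) = e x := by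
  rw [← T.cje k hk _ (T.cj' hk hx)]; congr 1; group

omit [CharP F 2] in
theorem cjl' {k x : G} (hk : k ∈ K) (hx : x ∈ Q) : θ (χ k) * χ k * l (k⁻¹ * x * k) = l x := by
  rw [← T.cjl k hk _ (T.cj' hk hx)]; congr 1; group

omit [CharP F 2] in
theorem ne {k : G} (hk : k ∈ K) : χ k ≠ 0 := fun h => by
  obtain ⟨x, hx, h1, -⟩ := T.surj 1 0
  simpa [h, h1] using T.cje' hk hx

omit [CharP F 2] in
theorem smul {c : F} (hc : c ≠ 0) : TA K Q θ (fun x => c * e x) (fun x => θ c * c * l x) χ where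
  add x hx y hy := by rw [T.add x hx y hy]; ring
  ladd x hx y hy := by rw [T.ladd x hx y hy, map_mul]; ring
  ext x hx y hy h1 h2 := T.ext x hx y hy (mul_left_cancel₀ hc h1) (mul_left_cancel₀ (by simpa using hc) h2)
  surj a b := by
    obtain ⟨x, hx, h1, h2⟩ := T.surj (a / c) (b / (θ c * c))
    have : θ c ≠ 0 := by simpa using hc
    exact ⟨x, hx, by rw [h1]; field_simp, by rw [h2]; field_simp⟩
  cje k hk x hx := by rw [T.cje k hk x hx]; ring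
  cjl k hk x hx := by rw [T.cjl k hk x hx]; ring
  nQ := T.nQ
  gen := T.gen
  mu := T.mu

theorem swap : TA K Q θ⁻¹ (fun x => θ (e x)) (fun x => l x + θ (e x) * e x) fun k => θ (χ k) := by
  have h : ∀ a, θ⁻¹ (θ a) = a := θ.symm_apply_apply
  refine ⟨fun x hx y hy => by rw [T.add x hx y hy, map_add], fun x hx y hy => ?_, fun x hx y hy h1 h2 => ?_,
    fun a b => ?_, fun k hk x hx => by rw [T.cje k hk x hx, map_mul], fun k hk x hx => ?_, T.nQ, T.gen.aut θ,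
    fun a => ?_⟩
  · rw [T.ladd x hx y hy, T.add x hx y hy, map_add, h]
    linear_combination (norm := (ring_nf; reduce_mod_char!))
  · exact T.ext x hx y hy (θ.injective h1) (by rw [θ.injective h1] at h2; exact add_right_cancel h2)
  · obtain ⟨x, hx, h1, h2⟩ := T.surj (θ.symm a) (b - a * θ.symm a)
    exact ⟨x, hx, by simp [h1], by simp [h1, h2]⟩
  · rw [T.cjl k hk x hx, T.cje k hk x hx, map_mul, h]; ring
  · obtain ⟨τ, rfl⟩ := T.mu a
    exact ⟨θ τ, by rw [h, mul_comm]⟩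

theorem exists_equiv {G' : Type*} [Group G'] {K' Q' : Subgroup G'} {e' l' χ' : G' → F} (T' : TA K' Q' θ e' l' χ') :
    ∃ ψ : Q ≃* Q', ∀ x : Q, e' (ψ x) = e x ∧ l' (ψ x) = l x := by
  choose p h1 h2 h3 using T'.surj
  let f : Q →* Q' := MonoidHom.mk' (fun x => ⟨p (e x) (l x), h1 _ _⟩) fun x y => Subtype.ext
    (T'.ext _ (h1 _ _) _ (mul_mem (h1 _ _) (h1 _ _)) (by
      rw [coe_mul, coe_mul, T'.add _ (h1 _ _) _ (h1 _ _), h2, h2, h2, T.add _ x.2 _ y.2]) (by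
      rw [coe_mul, coe_mul, T'.ladd _ (h1 _ _) _ (h1 _ _), h2, h2, h3, h3, h3, T.ladd _ x.2 _ y.2]))
  have hf : ∀ x : Q, e' (f x) = e x ∧ l' (f x) = l x := fun x => ⟨h2 _ _, h3 _ _⟩
  refine ⟨MulEquiv.ofBijective f ⟨fun x y h => Subtype.ext (T.ext _ x.2 _ y.2 (by rw [← (hf x).1, h, (hf y).1])
    (by rw [← (hf x).2, h, (hf y).2])), fun y => ?_⟩, hf⟩
  obtain ⟨x, hx, a, b⟩ := T.surj (e' y) (l' y)
  exact ⟨⟨x, hx⟩, Subtype.ext (T'.ext _ (f _).2 _ y.2 ((hf _).1.trans a) ((hf _).2.trans b))⟩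

end TA

theorem HG.exists_TA [Finite G] {F : Type*} [Field F] [Finite F] [CharP F 2] {K P Z : Subgroup G} {e₀ ζ : G → F}
    (h : HG K P Z e₀ ζ) (hna : ¬ P ≤ C(P)) (hc : Nat.card P = Nat.card F ^ 2) :
    ∃ (θ : F ≃+* F) (e l χ : G → F), θ ≠ 1 ∧ TA K P θ e l χ := by
  obtain ⟨θ, c, e, χ, l, h1, h2, h3, g3, h5, h6, h7, h8⟩ := h.typeA hna hc
  refine ⟨θ, e, l, χ, h1, h3.add, h6, fun x hx y hy e1 e2 => ?_, fun a b => ?_, h3.conj,
    fun k hk x hx => h5 k hk ▸ h8 k hk x hx, h.nP, g3, fun a => ?_⟩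
  · have hz := (h3.eq_iff hx hy).1 e1
    have := h6 x hx _ (h.ZP hz)
    rw [mul_inv_cancel_left, h3.zero hz, h7 _ hz, e2] at this
    exact inv_mul_eq_one.1 (by simpa using (h.crd.ker _ hz).1 (by simpa [h2] using this))
  · obtain ⟨x, hx, rfl⟩ := h3.surj a
    obtain ⟨z, hz, hz'⟩ := h.crd.surj ((b - l x) / c)
    refine ⟨x * z, mul_mem hx (h.ZP hz), by rw [h3.add x hx z (h.ZP hz), h3.zero hz, add_zero], ?_⟩
    rw [h6 x hx z (h.ZP hz), h3.zero hz, h7 z hz, hz']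
    field_simp
    ring
  · by_cases a0 : a = 0
    · exact ⟨0, by simp [a0]⟩
    obtain ⟨k, hk, rfl⟩ := h.gen a a0
    exact ⟨_, (h5 k hk).symm⟩

namespace RK

variable [Finite G] {L H Q : Subgroup G} {t s r : G} (R : RK L H Q t s r)
include R

theorem pt_K {x y k : G} (hk : k ∈ KK H t) (h : Pt H t x t y) : Pt H t (k * x * k⁻¹) t (k⁻¹ * y * k) := by
  simpa [R.tK (inv_mem hk)] using R.f_conj (inv_mem (R.KD hk)) h

theorem trt : t * r * t = r * t * s := by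
  calc t * r * t = r * (r⁻¹ * t * r) * t := by group
    _ = _ := by rw [← R.eqn, ← mul_assoc, ← mul_assoc, R.tt'']

theorem pt_rinv : Pt H t r⁻¹ t r⁻¹ := R.pt_of_eq (R.QH R.sQ) (by
  rw [← inv_inj]; simpa [R.ti, R.si, mul_assoc] using R.trt)

theorem pt_I {k u : G} (hk : k ∈ KK H t) (h : Pt H t (k * s * k⁻¹ * r⁻¹) t u) :
    Pt H t (r * (k * s * k⁻¹)) t (k⁻¹ * (u * r) * k) := by
  have h1 := R.pt_mul (R.pt_mul (R.pt_mul (R.pt_mul (R.pt_mul (R.pt_symm R.f_s) (R.pt_D (inv_mem (R.KD hk)) s))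
    (R.pt_Q _ r⁻¹)) (by simpa using h)) (R.pt_Q _ r)) (R.pt_D (R.KD hk) _)
  have e : t * k⁻¹ * r⁻¹ * t * r * k = k * s * k⁻¹ * t := by
    calc _ = t * k⁻¹ * (r⁻¹ * t * r) * k := by group
      _ = t * k⁻¹ * t * s * (t * k * t) * t := by rw [← R.eqn]; simp only [mul_assoc, R.tt, R.tt', mul_one]
      _ = _ := by rw [R.tK hk, R.tK (inv_mem hk), inv_inv]
  rw [e] at h1
  simpa only [Pt, mul_assoc] using h1

theorem pt_R {x y u : G} (h1 : Pt H t x t y) (h2 : Pt H t (y * r) t u) : Pt H t (x * r) t (u * s) := by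
  have h := R.pt_mul (R.pt_mul (R.pt_mul h1 (R.pt_Q _ r)) h2) (R.pt_Q _ s)
  rw [R.trt, mul_assoc, mul_assoc, R.ss, mul_one] at h
  simpa only [Pt, mul_assoc] using h

theorem sz_aux {F : Type*} [Field F] [Finite F] [CharP F 2] (hq : 2 < Nat.card F) {θ : F ≃+* F} (h1 : θ ≠ 1)
    {e l χ : G → F} (T : TA (KK H t) Q θ e l χ) (er : e r = 1) (rr : r * r = s) :
    l r = 0 ∨ (l r = 1 ∧ θ * θ = fr F) := by
  have two : (2 : F) = 0 := CharTwo.two_eq_zero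
  have es : e s = 0 := by rw [← rr, T.add r R.rQ r R.rQ, CharTwo.add_self_eq_zero]
  have ls : l s = 1 := by rw [← rr, T.ladd r R.rQ r R.rQ, CharTwo.add_self_eq_zero, er]; simp
  have ri := inv_mem R.rQ
  choose p p1 p2 p3 using T.surj 1
  have p0 : ∀ b, p b ≠ 1 := fun b h => by simpa [h, T.e1] using p2 b
  choose φ f1 f2 using fun b => R.exists_f (p1 b) (p0 b)
  have key : ∀ b, ∀ x ∈ Q, ∀ u ∈ Q, ∀ k ∈ KK H t, e x = χ k → l x = θ (χ k) * χ k * b → Pt H t x t u →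
      e (φ b) = χ k * e u := fun b x hx u hu k hk a1 a2 h => by
    obtain rfl : k * p b * k⁻¹ = x := T.ext _ (T.cj hk (p1 b)) x hx (by rw [T.cje k hk _ (p1 b), p2, a1, mul_one])
      (by rw [T.cjl k hk _ (p1 b), p3, a2])
    rw [R.pt_uniq hu (T.cj' hk (f1 b)) h (R.pt_K hk (f2 b)), T.cje' hk (f1 b)]
  have c1 : χ 1 = 1 := by simpa [er] using (T.cje 1 (one_mem _) r R.rQ).symm
  have key1 : ∀ b, ∀ x ∈ Q, ∀ u ∈ Q, e x = 1 → l x = b → Pt H t x t u → e (φ b) = e u := fun b x hx u hu a1 a2 h => by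
    simpa [c1] using key b x hx u hu 1 (one_mem _) (by rw [a1, c1]) (by simp [a2, c1]) h
  refine sz_field hq h1 T.mu (α := fun ζ => e (φ (l r + ζ))) ?_ ?_ (fun τ τ0 => ?_) fun b b0 b1 => ?_
  · exact (key1 _ r R.rQ s R.sQ er (by simp) (R.pt_symm R.f_s)).trans es
  · exact (key1 _ _ ri _ ri (by rw [T.einv R.rQ, er]) (by rw [T.linv R.rQ, er]; simp) R.pt_rinv).trans
      (by rw [T.einv R.rQ, er])
  · obtain ⟨k, hk, rfl⟩ := T.gen τ τ0
    have hz := T.cj hk R.sQ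
    have ez : e (k * s * k⁻¹) = 0 := by rw [T.cje k hk s R.sQ, es, mul_zero]
    have lz : l (k * s * k⁻¹) = θ (χ k) * χ k := by rw [T.cjl k hk s R.sQ, ls, mul_one]
    have e1 : e (k * s * k⁻¹ * r⁻¹) = 1 := by rw [T.add _ hz _ ri, ez, T.einv R.rQ, er, zero_add]
    obtain ⟨u, hu, h⟩ := R.exists_f (mul_mem hz ri) fun h => by simp [h, T.e1] at e1
    have ur := mul_mem hu R.rQ
    beta_reduce
    rw [key1 (l r + (θ (χ k) * χ k + 1)) _ (mul_mem hz ri) u hu e1 (by rw [T.ladd _ hz _ ri, ez, lz, T.linv R.rQ, er]; simp; ring) h,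
      key1 _ _ (mul_mem R.rQ hz) _ (T.cj' hk ur) (by rw [T.add _ R.rQ _ hz, ez, er, add_zero])
        (by rw [T.ladd _ R.rQ _ hz, ez, lz]; simp) (R.pt_I hk h), T.cje' hk ur, T.add u hu r R.rQ, er]
  · have b2 : b + 1 ≠ 0 := fun e => b1 (by linear_combination e - two)
    have θb : θ b ≠ 0 := by simpa using b0
    have θb2 : θ b + 1 ≠ 0 := by simpa using (map_ne_zero θ).2 b2
    obtain ⟨k, hk, c⟩ := T.gen ((b + 1) / b) (div_ne_zero b2 b0)
    obtain ⟨k1, hk1, c1⟩ := T.gen b⁻¹ (inv_ne_zero b0)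
    obtain ⟨k2, hk2, c2⟩ := T.gen (b + 1)⁻¹ (inv_ne_zero b2)
    have x1 := T.cj hk ri
    have x2 := T.cj' hk ri
    have a1 := T.cje k hk _ ri
    have a2 := T.cjl k hk _ ri
    have a3 := T.cje' hk ri
    have a4 := T.cjl' hk ri
    rw [T.linv R.rQ] at a2 a4
    rw [T.einv R.rQ] at a1 a3
    simp only [er, c, map_div₀, map_add, map_one, mul_one] at a1 a2 a3 a4
    replace a3 : e (k⁻¹ * r⁻¹ * k) = b / (b + 1) := by field_simp at a3 ⊢; linear_combination a3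
    replace a4 : l (k⁻¹ * r⁻¹ * k) = θ b * b / ((θ b + 1) * (b + 1)) * (l r + 1) := by
      field_simp at a4 ⊢; linear_combination a4
    have e2 : e (k⁻¹ * r⁻¹ * k * r) = χ k2 := by
      rw [T.add _ x2 r R.rQ, a3, er, c2]; field_simp; linear_combination b * two
    obtain ⟨u, hu, h⟩ := R.exists_f (mul_mem x2 R.rQ) fun h => T.ne hk2 (by rw [← e2, h, T.e1])
    beta_reduce
    rw [key (l r + ((l r + 1) * θ b + l r * b)) _ (mul_mem x2 R.rQ) u hu k2 hk2 e2 (by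
        rw [T.ladd _ x2 r R.rQ, a3, a4, er, c2]
        simp only [map_div₀, map_inv₀, map_add, map_one]
        field_simp
        linear_combination (norm := (ring_nf; reduce_mod_char!))) h,
      key _ _ (mul_mem x1 R.rQ) _ (mul_mem hu R.sQ) k1 hk1 (by
        rw [T.add _ x1 r R.rQ, a1, er, c1]; field_simp; linear_combination b * two) (by
        rw [T.ladd _ x1 r R.rQ, a1, a2, er, c1]
        simp only [map_div₀, map_inv₀, map_add, map_one]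
        field_simp
        linear_combination (norm := (ring_nf; reduce_mod_char!))) (R.pt_R (R.pt_K hk R.pt_rinv) h),
      T.add u hu s R.sQ, es, c1, c2]
    field_simp
    ring

theorem sz_coord (big : 2 < q0 Q) (pg : IsPGroup 2 Q) (hna : ¬ Q ≤ C(Q)) (hc : Nat.card Q = q0 Q ^ 2) (hr : r ≠ s)
    (F : Type*) [Field F] [Finite F] [CharP F 2] (hF : Nat.card F = q0 Q) :
    ∃ (θ : F ≃+* F) (e l χ : G → F), TA (KK H t) Q θ e l χ ∧ e r = 1 ∧ l r = 1 ∧ θ * θ = fr F := by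
  obtain ⟨u, hu, u1, u2, us⟩ := R.exists_ne_of_big big
  obtain ⟨e₀, ζ, h, -⟩ := R.exists_HG hu u1 u2 us F (hF.trans R.q0_eq)
  rw [Opi_eq_self (isPi_singleton_iff.2 pg)] at h
  obtain ⟨θ, e, l, χ, h1, T⟩ := h.exists_TA hna (hF ▸ hc)
  have rr := (R.five (R.pow_four big pg hna R.rQ) hr).2
  have e0 : e r ≠ 0 := fun e0 => R.s1 (T.ext s R.sQ 1 (one_mem _) (by rw [← rr, T.add r R.rQ r R.rQ, e0, T.e1, add_zero])
    (by rw [← rr, T.ladd r R.rQ r R.rQ, e0, T.l1, CharTwo.add_self_eq_zero]; simp))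
  have T1 := T.smul (inv_ne_zero e0)
  have er := inv_mul_cancel₀ e0
  rcases R.sz_aux h.big h1 T1 er rr with h2 | h2
  · have er' : θ ((e r)⁻¹ * e r) = 1 := by rw [er, map_one]
    rcases R.sz_aux h.big (inv_ne_one.2 h1) T1.swap er' rr with h3 | h3
    · beta_reduce at h3
      rw [h2, er] at h3
      simp at h3
    · exact ⟨_, _, _, _, T1.swap, er', h3⟩
  · exact ⟨_, _, _, _, T1, er, h2⟩

theorem pt_II (ri : r * s = r⁻¹) {k1 k2 z u : G} (h1 : k1 ∈ KK H t) (h2 : k2 ∈ KK H t) (hz : z ∈ Q0 Q)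
    (e1 : z = k1 * s * k1⁻¹) (e2 : z * s = k2 * s * k2⁻¹) (hu : u ∈ Q) (h : Pt H t (r * z) t u) :
    u = k1⁻¹ * (k2⁻¹ * (u * r) * k2 * r) * k1 := by
  have c := R.Q0_comm' hz R.rQ
  have h3 := R.pt_I h2 (u := u) (by
    rwa [← e2, ← ri, mul_assoc, R.rs, ← mul_assoc s, R.ss, one_mul, c])
  have h4 := R.pt_I h1 (u := _) (by
    rwa [← e2, ← R.Q0_comm' R.s_mem_Q0 (Q0_le _ hz), ← mul_assoc, ri, ← R.Q0_comm' hz (inv_mem R.rQ), e1] at h3)
  exact R.pt_uniq hu (R.conjQ' (R.DH (R.KD h1)) (mul_mem (R.conjQ' (R.DH (R.KD h2)) (mul_mem hu R.rQ)) R.rQ)) h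
    (e1 ▸ h4)

theorem sz_pt {G' : Type*} [Group G'] [Finite G'] {L' H' Q' : Subgroup G'} {t' s' r' : G'} (R' : RK L' H' Q' t' s' r')
    (ψ : Q ≃* Q') (hr : (ψ ⟨r, R.rQ⟩ : G') = r') (rr : r * r = s) (rr' : r' * r' = s')
    (hK : ∀ k ∈ KK H t, ∃ k' ∈ KK H' t', ∀ x y : Q, (y : G) = k * x * k⁻¹ → (ψ y : G') = k' * ψ x * k'⁻¹)
    (cov : ∀ x ∈ Q, x ∈ Q0 Q ∨ ∃ k ∈ KK H t, ∃ z ∈ Q0 Q, x = k * (r * z) * k⁻¹) (x y : Q) (h : Pt H t x t y) :
    Pt H' t' (ψ x) t' (ψ y) := by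
  have hs : (ψ ⟨s, R.sQ⟩ : G') = s' := by
    rw [← rr', ← hr, ← coe_mul, ← map_mul]; congr 2; exact Subtype.ext rr.symm
  have KH : ∀ {k}, k ∈ KK H t → k ∈ H := fun hk => R.DH (R.KD hk)
  have hK' : ∀ k ∈ KK H t, ∃ k' ∈ KK H' t', (∀ x y : Q, (y : G) = k * x * k⁻¹ → (ψ y : G') = k' * ψ x * k'⁻¹) ∧
      ∀ x y : Q, (y : G) = k⁻¹ * x * k → (ψ y : G') = k'⁻¹ * ψ x * k' := fun k hk => by
    obtain ⟨k', h1, h2⟩ := hK k hk
    exact ⟨k', h1, h2, fun x y e => by rw [h2 y x (by rw [e]; group)]; group⟩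
  have cj : ∀ k ∈ KK H t, ∀ x y : Q, (∀ u : Q, Pt H t x t u → Pt H' t' (ψ x) t' (ψ u)) → (y : G) = k * x * k⁻¹ →
      ∀ u : Q, Pt H t y t u → Pt H' t' (ψ y) t' (ψ u) := fun k hk x y h e u hu => by
    obtain ⟨k', h1, h2, h3⟩ := hK' k hk
    rw [h2 x y e, h3 ⟨_, R.conjQ (KH hk) u.2⟩ u (by simp [mul_assoc])]
    refine R'.pt_K h1 (h _ ?_)
    simpa [e, mul_assoc] using R.pt_K (inv_mem hk) hu
  have base : ∀ (a b : G) (ha : a ∈ Q) (hb : b ∈ Q), Pt H t a t b → Pt H' t' (ψ ⟨a, ha⟩) t' (ψ ⟨b, hb⟩) →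
      ∀ u : Q, Pt H t a t u → Pt H' t' (ψ ⟨a, ha⟩) t' (ψ u) := fun a b ha hb h1 h2 u hu => by
    rwa [show u = ⟨b, hb⟩ from Subtype.ext (R.pt_uniq u.2 hb hu h1)]
  have zf : ∀ z ∈ Q0 Q, z ≠ 1 → ∃ k ∈ KK H t, z = k * s * k⁻¹ := fun z hz z1 => by
    obtain ⟨a, ha, e⟩ := R.K_trans (R.QH (Q0_le Q hz)) z1 (Q0_sq hz)
    exact ⟨a⁻¹, inv_mem (R.mem_K.2 ha), by rw [← e, inv_inv]⟩
  rcases cov x x.2 with hx | ⟨k, hk, z, hz, e⟩
  · obtain ⟨k, hk, e⟩ := zf x hx (R.f_ne_one y.2 h)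
    exact cj k hk ⟨s, R.sQ⟩ x (base s r R.sQ R.rQ R.f_s (by rw [hs, hr]; exact R'.f_s)) e y h
  have zQ := Q0_le Q hz
  refine cj k hk ⟨_, mul_mem R.rQ zQ⟩ x ?_ e y h
  by_cases z1 : z = 1
  · subst z1
    simpa using base r s R.rQ R.sQ (R.pt_symm R.f_s) (by rw [hs, hr]; exact R'.pt_symm R'.f_s)
  have ri : r * s = r⁻¹ := eq_inv_of_mul_eq_one_left (by rw [mul_assoc, ← R.rs, ← mul_assoc, rr, R.ss])
  have ri' : r' * s' = r'⁻¹ := eq_inv_of_mul_eq_one_left (by rw [mul_assoc, ← R'.rs, ← mul_assoc, rr', R'.ss])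
  by_cases zs : z = s
  · subst zs
    have : (ψ ⟨r⁻¹, inv_mem R.rQ⟩ : G') = r'⁻¹ := by rw [← hr, ← coe_inv, ← map_inv]; rfl
    simpa only [ri] using base _ _ (inv_mem R.rQ) (inv_mem R.rQ) R.pt_rinv (by rw [this]; exact R'.pt_rinv)
  obtain ⟨k1, hk1, e1⟩ := zf z hz z1
  obtain ⟨k2, hk2, e2⟩ := zf (z * s) (mul_mem hz R.s_mem_Q0) fun e => zs (by rw [mul_eq_one_iff_eq_inv, R.si] at e; exact e)
  obtain ⟨k1', hk1', a1, a2⟩ := hK' k1 hk1
  obtain ⟨k2', hk2', b1, b2⟩ := hK' k2 hk2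
  intro u hu
  have ez : (ψ ⟨z, zQ⟩ : G') = k1' * s' * k1'⁻¹ := hs ▸ a1 ⟨s, R.sQ⟩ _ e1
  have ezs : (ψ ⟨z, zQ⟩ : G') * s' = k2' * s' * k2'⁻¹ := by
    have := b1 ⟨s, R.sQ⟩ (⟨z, zQ⟩ * ⟨s, R.sQ⟩) e2
    rwa [map_mul, coe_mul, hs] at this
  have erz : (ψ ⟨r * z, mul_mem R.rQ zQ⟩ : G') = r' * ψ ⟨z, zQ⟩ := by rw [← hr, ← coe_mul, ← map_mul]; rfl
  have z' : (ψ ⟨z, zQ⟩ : G') ∈ Q0 Q' := ez ▸ conj_mem_of_mem_normalizer (R'.nQ0 (R'.DH (R'.KD hk1'))) R'.s_mem_Q0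
  obtain ⟨u', hu', h'⟩ := R'.exists_f (ψ ⟨r * z, mul_mem R.rQ zQ⟩).2 fun e => R.f_ne_one u.2 hu
    (congrArg Subtype.val ((map_eq_one_iff _ ψ.injective).1 (Subtype.ext e)))
  have t1 := R'.pt_II ri' hk1' hk2' z' ez ezs hu' (erz ▸ h')
  have t2 : (ψ u : G') = k1'⁻¹ * (k2'⁻¹ * (ψ u * r') * k2' * r') * k1' := by
    have := a2 (⟨_, R.conjQ' (KH hk2) (mul_mem u.2 R.rQ)⟩ * ⟨r, R.rQ⟩) u (R.pt_II ri hk1 hk2 hz e1 e2 u.2 hu)
    rwa [map_mul, coe_mul, b2 (u * ⟨r, R.rQ⟩) ⟨_, R.conjQ' (KH hk2) (mul_mem u.2 R.rQ)⟩ rfl, map_mul, coe_mul, hr] at this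
  by_contra hn
  have k1 := R'.K_comm' (mul_mem hk2' hk1') (mul_mem hu' (inv_mem (ψ u).2))
    (fun e => hn (mul_inv_eq_one.1 e ▸ h')) (by
      nth_rewrite 1 [t1, t2]
      group)
  rw [mul_eq_one_iff_eq_inv.1 k1] at t1
  have : r' * k1'⁻¹ * r' * k1' = 1 := by
    have : u' * 1 = u' * (r' * k1'⁻¹ * r' * k1') := by nth_rewrite 1 [t1]; group
    exact (mul_left_cancel this).symm
  have h3 : r'⁻¹ = k1'⁻¹ * r' * k1' := by rw [inv_eq_iff_mul_eq_one, ← this]; group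
  have h4 : k1' * s' = s' * k1' := by
    calc k1' * s' = k1' * (r'⁻¹ * r'⁻¹) := by rw [← mul_inv_rev, rr', R'.si]
      _ = _ := by rw [h3, ← rr']; group
  rw [R'.K_comm' hk1' R'.sQ R'.s1 h4, ← hs] at ez
  exact zs (by simpa using ez)

end RK

theorem sz_iso [Finite G] [IsSimpleGroup G] {G' : Type*} [Group G'] [Finite G'] [IsSimpleGroup G']
    {H Q : Subgroup G} {t s r : G} {H' Q' : Subgroup G'} {t' s' r' : G'} (R : RK ⊤ H Q t s r)
    (R' : RK ⊤ H' Q' t' s' r') {F : Type*} [Field F] [CharP F 2] {θ : F ≃+* F} {e l χ : G → F} {e' l' χ' : G' → F}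
    (T : TA (KK H t) Q θ e l χ) (T' : TA (KK H' t') Q' θ e' l' χ') (h1 : e r = 1) (h2 : e' r' = 1) (h3 : l r = l' r')
    (rr : r * r = s) (rr' : r' * r' = s') : Nonempty (G ≃* G') := by
  obtain ⟨ψ, hψ⟩ := T.exists_equiv T'
  refine iso_of_pt R R' ψ (R.sz_pt R' ψ (T'.ext _ (ψ _).2 _ R'.rQ (by rw [(hψ _).1, h1, h2]) (by rw [(hψ _).2, h3]))
    rr rr' (fun k hk => ?_) fun x hx => ?_)
  · obtain ⟨k', hk', c⟩ := T'.gen _ (T.ne hk)
    exact ⟨k', hk', fun x y e => T'.ext _ (ψ y).2 _ (T'.cj hk' (ψ x).2)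
      (by rw [T'.cje k' hk' _ (ψ x).2, (hψ _).1, (hψ _).1, e, T.cje k hk _ x.2, c])
      (by rw [T'.cjl k' hk' _ (ψ x).2, (hψ _).2, (hψ _).2, e, T.cjl k hk _ x.2, c])⟩
  have z : ∀ y ∈ Q, e y = 0 → y ∈ Q0 Q := fun y hy e0 => R.mem_Q0_iff.2 ⟨hy, T.ext _ (mul_mem hy hy) 1 (one_mem _)
    (by rw [T.add y hy y hy, e0, T.e1, add_zero]) (by rw [T.ladd y hy y hy, e0, T.l1, CharTwo.add_self_eq_zero]; simp)⟩
  by_cases e0 : e x = 0
  · exact Or.inl (z x hx e0)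
  obtain ⟨k, hk, c⟩ := T.gen _ e0
  have h4 := T.cje' hk hx
  refine Or.inr ⟨k, hk, r⁻¹ * (k⁻¹ * x * k), z _ (mul_mem (inv_mem R.rQ) (T.cj' hk hx)) ?_, by group⟩
  rw [T.add _ (inv_mem R.rQ) _ (T.cj' hk hx), T.einv R.rQ, h1, mul_left_cancel₀ e0 (by rw [c] at h4; rw [mul_one, h4] :
    e x * e (k⁻¹ * x * k) = e x * 1), CharTwo.add_self_eq_zero]

theorem sz_model {F : Type*} [Field F] [Finite F] {θ : F →+* F} {Ω : Type*} [MulAction G Ω]
    (S : CfsgH7.SzS θ G Ω) : ∃ H s r, RK ⊤ H S.Q S.w s r ∧ q0 S.Q = Nat.card F := by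
  haveI := S.finG
  have e : MulAction.stabilizer G S.inf ⊓ MulAction.stabilizer G (S.w • S.inf) = S.H := by rw [S.H_eq, S.w_inf]
  obtain ⟨s, r, R⟩ := (rk0_of_setup (a := S.inf) ⟨S.two_trans, S.w_w, S.w_ne_one, fun h => S.pt_ne 0 0 (S.w_inf ▸ h),
    S.Q_le, fun h hh x hx => S.conj_Q hh hx, (eq_bot_iff_forall _).2 fun x hx => by_contra fun x1 =>
      S.pt_ne 0 0 (S.w_inf ▸ S.Q_fix hx.1 x1 hx.2), le_antisymm (sup_le S.Q_le inf_le_left) fun g hg => by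
        obtain ⟨a, b, k, rfl⟩ := S.fix_inf hg
        exact mul_mem (mem_sup_left (S.u_mem a b)) (mem_sup_right (e ▸ S.h_mem k)),
    by rw [S.card_Q]; exact (even_iff_two_dvd.2 (Dvd.dvd.trans (by norm_num) S.even_q)).pow_of_ne_zero two_ne_zero,
    by rw [e, S.card_H]; exact S.odd1⟩).exists_RK
  refine ⟨_, s, r, R, ?_⟩
  rw [R.q0_eq, ← S.card_Z]
  congr 2
  ext x
  rw [S.mem_Z_iff, pow_two]
  exact ⟨fun h => ⟨S.Q_le (Q0_le _ h), Q0_sq h⟩, fun h => R.mem_Q0_of_sq h.1 h.2⟩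

theorem RK.isoSuzuki [Finite G] [IsSimpleGroup G] {H Q : Subgroup G} {t s r : G} (R : RK ⊤ H Q t s r) (big : 2 < q0 Q)
    (pg : IsPGroup 2 Q) (hna : ¬ Q ≤ C(Q)) (hc : Nat.card Q = q0 Q ^ 2) (hr : r ≠ s) : Lie.IsoSuzuki G := by
  obtain ⟨n, hn⟩ := R.q0_pow
  have h4 := R.pow_four big pg hna R.rQ
  obtain ⟨m, rfl⟩ := R.odd_exp h4 hr (hn ▸ hc)
  obtain ⟨F, _, _, _, hF⟩ := exists_field_two ⟨_, hn⟩ (by omega)
  have hF' : Fintype.card F = 2 ^ (2 * m + 1) := by rw [← Nat.card_eq_fintype_card, hF, hn]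
  have hm : 1 ≤ m := Nat.one_le_iff_ne_zero.2 fun e => by simp [hn, e] at big
  obtain ⟨_, ⟨S⟩⟩ := CfsgH7.SzM.lie_model hm hF'
  haveI := S.finG
  haveI := S.simple
  obtain ⟨H', s', r', R', q'⟩ := sz_model S
  have big' : 2 < q0 S.Q := by rw [q', hF]; exact big
  have c' := S.card_Q
  obtain ⟨pg', h⟩ := R'.concl big'
  rw [← q'] at c'
  obtain ⟨hna', -, hr'⟩ : ¬ S.Q ≤ C(S.Q) ∧ Nat.card S.Q = q0 S.Q ^ 2 ∧ r' ≠ s' := by
    rcases h with h | ⟨h1, h | h⟩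
    · rw [h] at c'; nlinarith
    · exact ⟨h1, h⟩
    · exact absurd (Nat.pow_right_injective (by omega) (h.1.symm.trans c')) (by decide)
  obtain ⟨θ, e, l, χ, T, a1, a2, a3⟩ := R.sz_coord big pg hna hc hr F hF
  obtain ⟨θ', e', l', χ', T', b1, b2, b3⟩ := R'.sz_coord big' pg' hna' c' hr' F q'.symm
  have u : ∀ σ : F ≃+* F, σ * σ = fr F → σ = fr F ^ (m + 1) := fun σ h => by
    obtain ⟨j, hj⟩ := aut_eq_pow σ
    have : fr F ^ (2 * m + 1) = 1 := RingEquiv.ext fun a => by rw [fr_pow, ← hF', FiniteField.pow_card]; rfl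
    calc σ = σ ^ (2 * m + 1) * σ := by rw [hj, ← pow_mul, mul_comm j, pow_mul, this, one_pow, one_mul]
      _ = _ := by rw [← h, ← pow_two, ← pow_mul, ← pow_succ]; congr 1
  rw [u θ a3] at T
  rw [u θ' b3] at T'
  exact ⟨F, _, _, m, hm, hF', sz_iso R R' T T' a1 b1 (a2.trans b2.symm) (R.five h4 hr).2
    (R'.five (R'.pow_four big' pg' hna' R'.rQ) hr').2⟩

end CfsgSuz
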