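import Cfsg.Agent.H3.Suz12

/-! Split rank-one groups with `|Q| = q ^ 3`: the distinguished element `ω`. -/

set_option autoImplicit false

namespace CfsgSuz

open Subgroup Cfsg CfsgH2 CfsgLead CfsgFT
open scoped commutatorElement

theorem mem_zpowers_of_fix {F : Type*} [Field F] [Finite F] {σ τ : F ≃+* F} (h : ∀ x, σ x = x → τ x = x) :
    τ ∈ zpowers σ := by
  obtain ⟨g, hg⟩ := FixedPoints.toAlgAut_surjective (zpowers σ) F
    { τ with commutes' := fun x => h _ (mem_fix.1 x.2) }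
  have : (g : F ≃+* F) = τ := RingEquiv.ext fun x => AlgEquiv.congr_fun hg x
  exact this ▸ g.2

universe u

theorem W_aux (n : ℕ) : ∀ (G : Type u) [Group G] [Finite G] (L H Q : Subgroup G) (t s r : G),
    Nat.card L ≤ n → RK L H Q t s r → 2 < q0 Q → Nat.card Q = q0 Q ^ 3 → ¬ WW H Q t ≤ C(Q) := by
  induction n with
  | zero => exact fun G _ _ L H Q t s r h _ _ => absurd h (not_le.2 Nat.card_pos)
  | succ n ih =>
    intro G _ _ L H Q t s r h R big hc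
    have key : ∀ (G : Type u) [Group G] [Finite G] (H Q : Subgroup G) (t s r : G), Nat.card G ≤ n + 1 →
        RK ⊤ H Q t s r → DD H t ⊓ C(Q) = ⊥ → 2 < q0 Q → Nat.card Q = q0 Q ^ 3 → ¬ WW H Q t ≤ C(Q) := by
      intro G _ _ H Q t s r h R hf big hc hW
      obtain ⟨pg, h2⟩ := R.concl big
      have hna : ¬ Q ≤ C(Q) := h2.elim (fun e => by
        rw [e] at hc; exact absurd (Nat.pow_right_injective (by omega) ((pow_one _).trans hc)) (by decide)) (·.1)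
      by_cases hs : IsSimpleGroup G
      · obtain ⟨v, hv, hp, h3⟩ := R.exists_HV big fun hV => R.not_cube big hV pg hna hc
        have v1 : v ≠ 1 := fun e => hp.one_lt.ne' (by rw [e, orderOf_one])
        have vW : v ∉ WW H Q t := fun h => v1 ((eq_bot_iff_forall _).1 hf v ⟨R.VD hv, hW h⟩)
        have c1 := R.wiel big hv hp vW le_rfl (R.KD.trans R.nQD) (R.nQD (R.VD hv)) fun h => by
          obtain ⟨m, hm⟩ := IsPGroup.iff_card.1 pg
          have := (Nat.prime_dvd_prime_iff_eq hp Nat.prime_two).1 (hp.dvd_of_dvd_pow (hm ▸ h))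
          exact absurd (this ▸ R.odd_D (R.VD hv)) (by decide)
        rw [hc, R.q0_pow_prime big hv hp vW, ← pow_mul, mul_comm, pow_mul] at c1
        have R1 := R.sub1 hv
        refine ih G _ _ _ t s r (by have := R.cent_lt v1; omega) R1 h3 (Nat.pow_left_injective hp.ne_zero c1).symm
          fun w hw => ?_
        obtain ⟨F, _, _, _, e₀, ζ, ρ, S⟩ := R.exists_SZb big
        have wV : w ∈ VV H t := R.mem_V'.2 ⟨(R1.VH (R1.WV hw)).1, (R1.mem_V'.1 (R1.WV hw)).2⟩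
        obtain ⟨i, hi⟩ := (mem_powers_iff_mem_zpowers.2 (mem_zpowers_of_fix (σ := ρ v) (τ := ρ w) fun x hx => by
          obtain ⟨z, hz, rfl⟩ := S.hg.crd.surj x
          rw [← S.ρe v hv z hz] at hx
          have h4 := S.e_inj (S.cjQ0 (R.VH hv) hz) hz hx
          have h5 : z ∈ Q0 (Q ⊓ C1(v)) := R1.mem_Q0_iff.2 ⟨⟨Q0_le _ hz, mem_cent1.2 (mul_inv_eq_iff_eq_mul.1 h4)⟩, Q0_sq hz⟩
          rw [← S.ρe w wV z hz, ← hw.2 z h5, mul_inv_cancel_right]))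
        have h6 : w * (v ^ i)⁻¹ ∈ WW H Q t := (S.ρ_eq_one (mul_mem wV (inv_mem (pow_mem hv i)))).1 (by
          rw [S.ρ_mul wV (inv_mem (pow_mem hv i)), S.ρ_inv (pow_mem hv i), S.ρ_pow hv, show ρ v ^ i = ρ w from hi,
            mul_inv_cancel])
        have h7 : w * (v ^ i)⁻¹ = 1 := (eq_bot_iff_forall _).1 hf _ ⟨R.WD h6, hW h6⟩
        rw [mul_inv_eq_one.1 h7]
        exact pow_mem (show v ∈ C(Q ⊓ C1(v)) from fun x hx => (mem_cent1.1 hx.2).symm) i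
      · haveI : Nontrivial G := ⟨_, _, R.t1⟩
        obtain ⟨N, hN, h0, h2⟩ : ∃ N : Subgroup G, N.Normal ∧ N ≠ ⊥ ∧ N ≠ ⊤ := by
          by_contra h
          exact hs ⟨fun N hN => by_contra fun h' => h ⟨N, hN, not_or.1 h'⟩⟩
        obtain ⟨h3, h4⟩ := R.normal_cases big hf le_top le_normalizer_of_normal h0
        have R1 : RK N (H ⊓ N) Q t s r := ⟨R.inf_sub le_top h3 h4, R.sQ, R.s1, R.ss, R.rQ, R.eqn⟩
        exact ih G N (H ⊓ N) Q t _ _ (by have := CfsgH1.card_lt_of_ne_top h2; omega) R1 big hc fun w hw =>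
          hW ⟨R.mem_D.2 ⟨(R1.mem_D.1 hw.1).1.1, (R1.mem_D.1 hw.1).2.1⟩, hw.2⟩
    haveI : ((DD H t ⊓ C(Q)).subgroupOf L).Normal := normal_subgroupOf_of_le_normalizer R.norm_ker
    obtain ⟨f, hf, hk⟩ : ∃ f : L →* L ⧸ (DD H t ⊓ C(Q)).subgroupOf L, Function.Surjective f ∧
      f.ker = (DD H t ⊓ C(Q)).subgroupOf L := ⟨_, QuotientGroup.mk'_surjective _, QuotientGroup.ker_mk' _⟩
    have hk1 := hk.le.trans (comap_mono inf_le_left)
    have R' := R.map f hf hk1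
    have e := q0_congr (R.mapEquiv f hk1)
    refine fun hW => key _ _ _ _ _ _ ((Nat.card_le_card_of_surjective f hf).trans h) R' (R.map_faithful f hk1 hf hk.ge)
      (e ▸ big) (by rw [R.card_map f hk1 le_rfl, ← e, hc]) ?_
    rintro _ ⟨⟨⟨x, hx, rfl⟩, h1⟩, h2⟩
    obtain ⟨y, hy, d, hd, e⟩ := R.split hx
    have hyd : x = ⟨y, R.QL hy⟩ * ⟨d, R.DL hd⟩ := Subtype.ext e
    have hd' : f ⟨d, R.DL hd⟩ ∈ DD ((H.subgroupOf L).map f) (f ⟨t, R.tL⟩) :=
      R'.mem_D.2 ⟨⟨_, R.DH hd, rfl⟩, ⟨⟨_, R.DL (R.conjD hd)⟩, R.DH (R.conjD hd), by simp only [← map_mul]; rfl⟩⟩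
    have y1 : f ⟨y, R.QL hy⟩ = 1 := R'.eq_one_of_QD ⟨_, hy, rfl⟩ (by
      have := mul_mem (show f x ∈ DD ((H.subgroupOf L).map f) (f ⟨t, R.tL⟩) from ⟨⟨x, hx, rfl⟩, h1⟩) (inv_mem hd')
      rwa [hyd, map_mul, mul_inv_cancel_right] at this)
    rw [hyd, map_mul, y1, one_mul] at h2 ⊢
    have dW : d ∈ WW H Q t := ⟨hd, fun z hz => (R.map_comm f hk1 (d := ⟨d, R.DL hd⟩) (z := ⟨z, R.QL (Q0_le _ hz)⟩)
      (R.DH hd) (Q0_le _ hz) (h2 _ (R'.mem_Q0_iff.2 ⟨⟨⟨z, R.QL (Q0_le _ hz)⟩, Q0_le Q hz, rfl⟩, by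
        rw [← map_mul, ← map_one f]; congr 1; exact Subtype.ext (Q0_sq hz)⟩)).symm).symm⟩
    rintro _ ⟨z, hz, rfl⟩
    rw [← map_mul, ← map_mul]
    congr 1
    exact Subtype.ext (hW dW z hz)

theorem RK.W_not_le {G : Type u} [Group G] [Finite G] {L H Q : Subgroup G} {t s r : G} (R : RK L H Q t s r)
    (big : 2 < q0 Q) (hc : Nat.card Q = q0 Q ^ 3) : ¬ WW H Q t ≤ C(Q) := W_aux _ G L H Q t s r le_rfl R big hc

end CfsgSuz
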