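import Cfsg.Agent.H3.Suz13

/-! Split rank-one groups with `|Q| = q ^ 3`: the distinguished element `ω`. -/

set_option autoImplicit false

namespace CfsgSuz

open Subgroup Cfsg CfsgH2 CfsgLead CfsgFT
open scoped commutatorElement

variable {G : Type*} [Group G]

theorem Crd.semilin' [Finite G] {F : Type*} [Field F] {K A B : Subgroup G} {e χ : G → F} (h : Crd K A B e χ)
    (irr : ∀ X, B ≤ X → X ≤ A → K ≤ N(X) → X = B ∨ X = A) {v : G} (hK : v ∈ N(K)) (hA : v ∈ N(A)) (hB : v ∈ N(B)) :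
    ∃ σ : F ≃+* F, ∀ k ∈ K, χ (v * k * v⁻¹) = σ (χ k) := by
  have cA := fun {x} (hx : x ∈ A) => conj_mem_of_mem_normalizer hA hx
  obtain ⟨T, hT⟩ := h.lift (f := fun x => e (v * x * v⁻¹)) (fun x hx y hy => by
    rw [← h.add _ (cA hx) _ (cA hy)]; congr 1; group) fun x hx => h.zero (conj_mem_of_mem_normalizer hB hx)
  have Tinj : ∀ a, T a = 0 → a = 0 := fun a ha => by
    obtain ⟨x, hx, rfl⟩ := h.surj a
    rw [hT x hx, h.ker _ (cA hx)] at ha
    exact h.zero (by simpa [mul_assoc] using conj_mem_of_mem_normalizer' hB ha)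
  have Tsur : Function.Surjective T := fun a => by
    obtain ⟨x, hx, rfl⟩ := h.surj a
    exact ⟨_, (hT _ (conj_mem_of_mem_normalizer' hA hx)).trans (by congr 1; group)⟩
  have key : ∀ k ∈ K, ∀ a, T (χ k * a) = χ (v * k * v⁻¹) * T a := fun k hk a => by
    obtain ⟨x, hx, rfl⟩ := h.surj a
    rw [← h.conj k hk x hx, hT _ (h.cjA hk hx), hT x hx, ← h.conj _ (conj_mem_of_mem_normalizer hK hk) _ (cA hx)]
    congr 1; group
  have c0 : T 1 ≠ 0 := fun e => one_ne_zero (Tinj 1 e)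
  let Y : AddSubgroup F :=
    { carrier := {a | ∀ b, T 1 * T (a * b) = T a * T b}
      zero_mem' := fun b => by simp
      add_mem' := fun {a a'} h1 h2 b => by rw [add_mul, map_add, mul_add, h1 b, h2 b, map_add, add_mul]
      neg_mem' := fun {a} h1 b => by rw [neg_mul, map_neg, mul_neg, h1 b, map_neg, neg_mul] }
  have hY : ∀ a b, T 1 * T (a * b) = T a * T b := fun a => by
    rcases irr (h.pre Y) (fun x hx => ⟨h.le hx, by rw [h.zero hx]; exact zero_mem _⟩) (fun x hx => hx.1)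
      (fun k hk => mem_normalizer_of_conj_mem fun x hx => ⟨h.cjA hk hx.1, fun b => by
        rw [h.conj k hk x hx.1, mul_assoc, key k hk, key k hk, mul_left_comm, hx.2 b, ← mul_assoc]⟩) with h1 | h1
    · obtain ⟨x, hx, e1⟩ := h.surj 1
      have := h.zero (h1.le ⟨hx, fun b => by rw [e1, one_mul]⟩)
      exact absurd (e1.symm.trans this) one_ne_zero
    · obtain ⟨x, hx, rfl⟩ := h.surj a
      exact (h1.ge hx).2
  let σ : F →+* F :=
    { toFun := fun a => (T 1)⁻¹ * T a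
      map_zero' := by simp
      map_add' := fun a b => by rw [map_add, mul_add]
      map_one' := inv_mul_cancel₀ c0
      map_mul' := fun a b => by field_simp; linear_combination hY a b }
  have hσ : ∀ a, T a = T 1 * σ a := fun a => by
    change _ = T 1 * ((T 1)⁻¹ * T a); field_simp
  refine ⟨RingEquiv.ofBijective σ ⟨σ.injective, fun a => ?_⟩, fun k hk => ?_⟩
  · obtain ⟨b, hb⟩ := Tsur (T 1 * a)
    exact ⟨b, mul_left_cancel₀ c0 (by rw [← hσ, hb])⟩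
  · have := key k hk 1
    rw [mul_one, hσ, mul_comm] at this
    exact (mul_right_cancel₀ c0 this).symm

theorem RK0.pt_conj {L H Q : Subgroup G} {t : G} (R : RK0 L H Q t) {d x g y : G} (hd : d ∈ DD H t) (h : Pt H t x g y) :
    Pt H t (d⁻¹ * x * d) (d⁻¹ * g * d) (d⁻¹ * y * d) := by
  have := R.pt_mul (R.pt_mul (R.pt_inv (R.pt_D hd x)) h) (R.pt_D hd y)
  rwa [mul_assoc] at this ⊢

/-- the configuration with `|Q| = q ^ 3` -/
structure UC {F : Type*} [Field F] (H Q : Subgroup G) (t s : G) (e₀ ζ : G → F) : Prop extends RK ⊤ H Q t s s where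
  hg : HG (KK H t) Q (Q0 Q) e₀ ζ
  es : e₀ s = 1
  cube : Nat.card Q = q0 Q ^ 3
  sq : ∀ x ∈ Q, x * x ∈ Q0 Q
  faith : DD H t ⊓ C(Q) = ⊥
  gen : Q ⊔ zpowers t = ⊤

namespace UC

variable [Finite G] {F : Type*} [Field F] {H Q : Subgroup G} {t s : G} {e₀ ζ : G → F} (U : UC H Q t s e₀ ζ)
include U

theorem card_F : Nat.card F = q0 Q := by rw [U.q0_eq, U.hg.card_Z]

theorem big : 2 < q0 Q := U.card_F ▸ U.hg.big

theorem W_L0 : WW H Q t ≤ C(L0 H Q t) := le_centralizer_iff.1 (sup_le (sup_le (le_centralizer_iff.1 inf_le_right)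
  (le_centralizer_iff.1 U.WK)) (zpowers_le.2 fun _ hw => (U.mem_V.1 (U.WV hw)).2.symm))

theorem D_L0 : DD H t ≤ N(L0 H Q t) := fun d hd => by
  obtain ⟨v, hv, k, hk, rfl⟩ := U.dec_D hd
  refine mul_mem ?_ (le_normalizer (mem_sup_left (mem_sup_right (U.mem_K.2 hk))))
  exact le_normalizer_sup (le_normalizer_sup (zpowers_le.2 (U.nQ0 (U.VH hv))) (zpowers_le.2 (U.norm_K (U.VD hv))))
    ((zpowers_le.2 (by rw [cent_zpowers]; exact mem_cent1.2 (U.mem_V.1 hv).2)).trans (centralizer_le_normalizer _))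
    (mem_zpowers v)

theorem wz {w z : G} (hw : w ∈ WW H Q t) (hz : z ∈ Q0 Q) : w⁻¹ * z * w = z := by
  rw [mul_assoc, hw.2 z hz, inv_mul_cancel_left]

theorem wz' {w z : G} (hw : w ∈ WW H Q t) (hz : z ∈ Q0 Q) : w * z * w⁻¹ = z := by
  rw [← hw.2 z hz, mul_inv_cancel_right]

theorem pt_W {w x g y : G} (hw : w ∈ WW H Q t) (hg : g ∈ L0 H Q t) (h : Pt H t x g y) :
    Pt H t (w⁻¹ * x * w) g (w⁻¹ * y * w) := by
  have := U.pt_conj (U.WD hw) h
  rwa [mul_assoc _ g, U.W_L0 hw g hg, inv_mul_cancel_left] at this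

theorem W_fix {w x : G} (hw : w ∈ WW H Q t) (hx : x ∈ Q) (hn : x ∉ Q0 Q) (h : w * x = x * w) : w = 1 := by
  refine (eq_bot_iff_forall _).1 U.faith w ⟨U.WD hw, fun y hy => ?_⟩
  by_cases hy0 : y ∈ Q0 Q
  · exact hw.2 y hy0
  obtain ⟨g, hg, h1⟩ := U.L0_trans U.cube hx hn hy hy0
  have h2 := U.pt_W hw hg h1
  rw [mul_assoc, ← h, inv_mul_cancel_left] at h2
  have := U.pt_uniq hy (U.conjQ' (U.DH (U.WD hw)) hy) h1 h2
  rw [mul_assoc, eq_inv_mul_iff_mul_eq] at this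
  exact this.symm

theorem sq_ne {x : G} (hx : x ∈ Q) (hn : x ∉ Q0 Q) : x * x ≠ 1 := fun e => hn (U.mem_Q0_iff.2 ⟨hx, e⟩)

theorem sq_mul {x z : G} (hx : x ∈ Q) (hz : z ∈ Q0 Q) : x * z * (x * z) = x * x := by
  rw [mul_assoc, ← mul_assoc z, U.Q0_comm' hz hx, mul_assoc x z, Q0_sq hz, mul_one]

theorem fix_coset {g x : G} (hg : g ∈ KK H t ⊔ WW H Q t) (hx : x ∈ Q) (hn : x ∉ Q0 Q)
    (h : x⁻¹ * (g * x * g⁻¹) ∈ Q0 Q) : g = 1 := by
  obtain ⟨k, hk, w, hw, rfl⟩ := (mem_sup_of_normalizer (U.WD.trans U.norm_K)).1 hg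
  have h1 := U.sq_mul hx h
  rw [mul_inv_cancel_left] at h1
  have k1 : k = 1 := U.K_comm' hk (mul_mem hx hx) (U.sq_ne hx hn) (by
    rw [← mul_inv_eq_iff_eq_mul, ← h1]
    nth_rewrite 1 [h1, ← U.wz' hw (U.sq x hx)]
    group)
  subst k1
  rw [one_mul] at h ⊢
  refine U.W_fix hw hx hn (comm_of_sq_comm (U.odd_D (U.WD hw)) ?_)
  have e : w * x * w⁻¹ = x * (x⁻¹ * (w * x * w⁻¹)) := by group
  rw [← mul_inv_eq_iff_eq_mul]
  calc _ = w * (w * x * w⁻¹) * w⁻¹ := by group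
    _ = w * x * w⁻¹ * (w * (x⁻¹ * (w * x * w⁻¹)) * w⁻¹) := by nth_rewrite 1 [e]; group
    _ = x := by rw [U.wz' hw h]; nth_rewrite 1 [e]; rw [mul_assoc, Q0_sq h, mul_one]

theorem W_ne : WW H Q t ≠ ⊥ := fun e => U.W_not_le U.big U.cube (e ▸ bot_le)

theorem Z_lt : Q0 Q < Q := lt_of_le_of_ne (Q0_le Q) fun e => by
  have h := U.cube
  rw [U.q0_eq, e] at h
  have := U.big
  rw [U.q0_eq, e] at this
  exact absurd (Nat.pow_right_injective (by omega) ((pow_one _).trans h)) (by decide)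

theorem irr [Finite F] [CharP F 2] {A : Subgroup G} (hA : A ≤ WW H Q t) (h0 : A ≠ ⊥) (X : Subgroup G) (h1 : Q0 Q ≤ X)
    (h2 : X ≤ Q) (h3 : KK H t ⊔ A ≤ N(X)) : X = Q0 Q ∨ X = Q := by
  by_contra hc
  obtain ⟨n1, n2⟩ := not_or.1 hc
  have h := U.hg.sub h2 (le_sup_left.trans h3) fun e => U.hg.Z_ne (eq_bot_iff.2 (e ▸ h1))
  rcases h.card_cases ((Sq_mono h2).trans (Sq_le_iff.2 U.sq)) n1 with ⟨-, e, χ, h4, h5⟩ | h4
  · obtain ⟨⟨w, hw⟩, w1⟩ := ne_bot_iff_exists_ne_one.1 h0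
    obtain ⟨x, hx, e1⟩ := h4.surj 1
    have hn : x ∉ Q0 Q := fun h => one_ne_zero (e1.symm.trans (h4.zero h))
    have wx := conj_mem_of_mem_normalizer (h3 (mem_sup_right hw)) hx
    obtain ⟨k, hk, e2⟩ := h5 (e (w * x * w⁻¹)) fun e0 => hn (by
      simpa [mul_assoc] using conj_mem_of_mem_normalizer' (U.nQ0 (U.DH (U.WD (hA hw)))) ((h4.ker _ wx).1 e0))
    have h6 := U.fix_coset (mul_mem (mem_sup_left (inv_mem hk)) (mem_sup_right (hA hw))) (h2 hx) hn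
      ((h4.eq_iff hx (by simpa [mul_assoc] using h4.cjA (inv_mem hk) wx)).1 (by
        rw [show k⁻¹ * w * x * (k⁻¹ * w)⁻¹ = k⁻¹ * (w * x * w⁻¹) * k by group, h4.conj' hk wx, ← e2, e1,
          inv_mul_cancel₀ (h4.χ_ne hk)]))
    rw [inv_mul_eq_one] at h6
    exact w1 (Subtype.ext ((eq_bot_iff_forall _).1 U.KV w ⟨h6 ▸ hk, U.WV (hA hw)⟩))
  · exact n2 (eq_of_le_of_card_ge h2 (by rw [h4, U.card_F, U.cube]))

theorem chi_inj {E : Type*} [Field E] {Γ : Subgroup G} (hΓ : Γ ≤ KK H t ⊔ WW H Q t) {e χ : G → E}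
    (h : Crd Γ Q (Q0 Q) e χ) {g : G} (hg : g ∈ Γ) (h1 : χ g = 1) : g = 1 := by
  obtain ⟨x, hx, e1⟩ := h.surj 1
  exact U.fix_coset (hΓ hg) hx (fun h' => one_ne_zero (e1.symm.trans (h.zero h')))
    ((h.eq_iff hx (h.cjA hg hx)).1 (by rw [h.conj g hg x hx, h1, one_mul]))

theorem exists_E [Finite F] [CharP F 2] (E : Type*) [Field E] [Finite E] (hE : Nat.card E = q0 Q ^ 2) :
    ∃ A ≤ WW H Q t, A ≠ ⊥ ∧ WW H Q t ≤ C(A) ∧ ∃ e χ : G → E, Crd (KK H t ⊔ A) Q (Q0 Q) e χ := by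
  obtain ⟨A, l, -, hA, h0, ea, nA, -⟩ := CfsgH1.exists_ea_normalized (L := WW H Q t)
    (CfsgPF.feit_thompson (U.odd.of_dvd_nat (card_dvd_of_le U.WD))) U.W_ne le_rfl le_normalizer
  have hΓ : KK H t ⊔ A ≤ DD H t := sup_le U.KD (hA.trans U.WD)
  have hΓ' : KK H t ⊔ A ≤ KK H t ⊔ WW H Q t := sup_le_sup_left hA _
  have irr := U.irr hA h0
  obtain ⟨e, χ, h⟩ := exists_crd0 (sup_le (le_centralizer_iff.1 (sup_le U.K_ab (hA.trans U.WK)))
    (le_centralizer_iff.1 (sup_le (le_centralizer_iff.1 (hA.trans U.WK)) fun a ha b hb => (ea_iff.1 ea).1 b hb a ha))) (hΓ.trans U.nQD)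
    (hΓ.trans (U.DH.trans U.nQ0)) U.Z_lt (U.QH.trans U.nQ0) ((der_le_Sq Q).trans (Sq_le_iff.2 U.sq)) irr E (by
      have := card_mul_relIndex (Q0_le Q)
      rw [U.cube, ← U.q0_eq, pow_succ'] at this
      rw [hE, Nat.eq_of_mul_eq_mul_left (by have := U.big; omega) this])
  refine ⟨A, hA, h0, fun v hv a ha => ?_, e, χ, h⟩
  have nv : v ∈ N(KK H t ⊔ A) := le_normalizer_sup (U.WD.trans U.norm_K) nA hv
  obtain ⟨σ, hσ⟩ := h.semilin' irr nv (U.nQD (U.WD hv)) (U.nQ0 (U.DH (U.WD hv)))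
  have c1 : q0 Q ≤ Nat.card (FixedPoints.subfield (zpowers σ) E) := by
    rw [← U.card_K', ← Finite.card_option]
    refine Nat.card_le_card_of_injective (fun o => o.elim 0 fun k => ⟨χ k, mem_fix.2 (by
      rw [← hσ k (mem_sup_left k.2), ← U.WK hv k k.2, mul_inv_cancel_right])⟩) ?_
    rintro (_ | a) (_ | b) e
    · rfl
    · exact absurd (congrArg Subtype.val e).symm (h.χ_ne (mem_sup_left b.2))
    · exact absurd (congrArg Subtype.val e) (h.χ_ne (mem_sup_left a.2))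
    · have e' : χ a = χ b := congrArg Subtype.val e
      have := U.chi_inj hΓ' h (mul_mem (mem_sup_left a.2) (inv_mem (mem_sup_left b.2))) (by
        rw [h.χ_mul (mem_sup_left a.2) (inv_mem (mem_sup_left b.2)), h.χ_inv (mem_sup_left b.2), e',
          mul_inv_cancel₀ (h.χ_ne (mem_sup_left b.2))])
      rw [Subtype.ext (mul_inv_eq_one.1 this)]
  have c2 : orderOf σ ≤ 2 := by
    have := card_eq_fix_pow σ
    rw [hE] at this
    exact (Nat.pow_le_pow_iff_right (by have := U.big; omega)).1 (this ▸ Nat.pow_le_pow_left c1 _)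
  have c3 : σ * σ = 1 := by
    have := orderOf_pos σ
    rw [← pow_two, ← orderOf_dvd_iff_pow_eq_one]
    interval_cases orderOf σ <;> decide
  have ha' : a ∈ KK H t ⊔ A := mem_sup_right ha
  have hva := conj_mem_of_mem_normalizer nv ha'
  have := U.chi_inj hΓ' h (mul_mem (conj_mem_of_mem_normalizer nv hva) (inv_mem ha')) (by
    rw [h.χ_mul (conj_mem_of_mem_normalizer nv hva) (inv_mem ha'), hσ _ hva, hσ _ ha', ← RingAut.mul_apply, c3,
      h.χ_inv ha']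
    exact mul_inv_cancel₀ (h.χ_ne ha'))
  refine (comm_of_sq_comm (U.odd_D (U.WD hv)) ?_).symm
  rw [← mul_inv_eq_iff_eq_mul, ← mul_inv_eq_one.1 this]
  nth_rewrite 1 [mul_inv_eq_one.1 this]
  group

end UC

end CfsgSuz
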