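import Cfsg.Agent.H3.Suz14

/-! Split rank-one groups with `|Q| = q ^ 3`: the distinguished element `ω`. -/

set_option autoImplicit false

namespace CfsgSuz

open Subgroup Cfsg CfsgH2 CfsgLead CfsgFT
open scoped commutatorElement

universe u

theorem exists_cl {G : Type u} [Group G] {H N : Subgroup G} (h1 : N ≤ H) (h2 : ⁅H, H⁆ ≤ N) :
    ∃ (A : Type u) (_ : CommGroup A) (cl : G → A), (∀ a ∈ H, ∀ b ∈ H, cl (a * b) = cl a * cl b) ∧
      ∀ a ∈ H, cl a = 1 ↔ a ∈ N := by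
  classical
  haveI : (N.subgroupOf H).Normal := ⟨fun x hx g => by
    have := mul_mem (h2 (commutator_mem_commutator g.2 (h1 hx))) hx
    simpa [commutatorElement_def, mem_subgroupOf] using this⟩
  refine ⟨H ⧸ N.subgroupOf H, { (inferInstance : Group (H ⧸ N.subgroupOf H)) with mul_comm := fun a b => ?_ },
    fun g => if h : g ∈ H then QuotientGroup.mk ⟨g, h⟩ else 1, fun a ha b hb => ?_, fun a ha => ?_⟩
  · obtain ⟨a, rfl⟩ := QuotientGroup.mk_surjective a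
    obtain ⟨b, rfl⟩ := QuotientGroup.mk_surjective b
    refine QuotientGroup.eq.2 ?_
    have := h2 (commutator_mem_commutator (inv_mem b.2) (inv_mem a.2))
    simpa [commutatorElement_def, mem_subgroupOf, mul_assoc] using this
  · simp only [ha, hb, mul_mem ha hb, dif_pos]; rfl
  · simp only [ha, dif_pos]
    exact QuotientGroup.eq_one_iff _

variable {G : Type*} [Group G]

/-- an element of `L₀` moves `x` to `y`, with multiplier `a` -/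
def PC {A : Type*} (H Q : Subgroup G) (t : G) (cl : G → A) (x y : G) (a : A) : Prop :=
  ∃ g ∈ L0 H Q t, Pt H t x g y ∧ cl (t * x * g * y⁻¹ * t) = a

namespace UC

variable [Finite G] {F : Type*} [Field F] {H Q : Subgroup G} {t s : G} {e₀ ζ : G → F} (U : UC H Q t s e₀ ζ)
include U

theorem ZL {z : G} (h : z ∈ Q0 Q) : z ∈ L0 H Q t := mem_sup_left (mem_sup_left h)

theorem KL {k : G} (h : k ∈ KK H t) : k ∈ L0 H Q t := mem_sup_left (mem_sup_right h)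

theorem tL0 : t ∈ L0 H Q t := mem_sup_right (mem_zpowers t)

theorem cj_not {d x : G} (hd : d ∈ H) (hn : x ∉ Q0 Q) : d⁻¹ * x * d ∉ Q0 Q := fun h => hn (by
  simpa [mul_assoc] using conj_mem_of_mem_normalizer (U.nQ0 hd) h)

theorem L0_uniq {x y g g' : G} (hx : x ∈ Q) (hn : x ∉ Q0 Q) (hg : g ∈ L0 H Q t) (hg' : g' ∈ L0 H Q t)
    (h : Pt H t x g y) (h' : Pt H t x g' y) : g = g' :=
  mul_inv_eq_one.1 (U.L0_semi hx hn (mul_mem hg (inv_mem hg')) (U.pt_mul h (U.pt_inv h')))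

theorem pt_not {x y g : G} (hx : x ∈ Q) (hn : x ∉ Q0 Q) (hg : g ∈ L0 H Q t) (hy : y ∈ Q) (h : Pt H t x g y) :
    y ∉ Q0 Q := by
  obtain ⟨z, hz, h1, h2⟩ := U.L0_act hx hn hg
  exact U.pt_uniq hz hy h2 h ▸ h1

section Cl

variable {A : Type*} [CommGroup A] {cl : G → A} (c1 : ∀ a ∈ H, ∀ b ∈ H, cl (a * b) = cl a * cl b)
  (c2 : ∀ a ∈ H, cl a = 1 ↔ a ∈ Q ⊔ (KK H t ⊔ WW H Q t))
include c1 c2

omit U c1 [Finite G] in
theorem cl_one : cl 1 = 1 := (c2 1 (one_mem _)).2 (one_mem _)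

omit U [Finite G] in
theorem cl_inv {a : G} (h : a ∈ H) : cl a⁻¹ = (cl a)⁻¹ :=
  eq_inv_of_mul_eq_one_left (by rw [← c1 _ (inv_mem h) _ h, inv_mul_cancel, cl_one c2])

theorem cl_K {k : G} (h : k ∈ KK H t) : cl k = 1 := (c2 k (U.DH (U.KD h))).2 (mem_sup_right (mem_sup_left h))

theorem t_K {d : G} (hd : d ∈ DD H t) : d⁻¹ * (t * d * t) ∈ KK H t := by
  obtain ⟨v, hv, k, hk, rfl⟩ := U.dec_D hd
  have hk' := U.mem_K.2 hk
  rw [show t * (v * k) * t = t * v * t * (t * k * t) by simp only [mul_assoc, U.tt'], (U.mem_V.1 hv).2, U.tt'',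
    U.tK hk', show (v * k)⁻¹ * (v * k⁻¹) = k⁻¹ * k⁻¹ by group]
  exact mul_mem (inv_mem hk') (inv_mem hk')

theorem cl_t {d : G} (hd : d ∈ DD H t) : cl (t * d * t) = cl d := by
  have h := U.t_K c1 c2 hd
  rw [← mul_inv_cancel_left d (t * d * t), c1 _ (U.DH hd) _ (U.DH (U.KD h)), U.cl_K c1 c2 h, mul_one]

omit c2 in
theorem pc_trans {x y z : G} {a b : A} (h1 : PC H Q t cl x y a) (h2 : PC H Q t cl y z b) : PC H Q t cl x z (a * b) := by
  obtain ⟨g, hg, h1, rfl⟩ := h1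
  obtain ⟨g', hg', h2, rfl⟩ := h2
  refine ⟨_, mul_mem hg hg', U.pt_mul h1 h2, ?_⟩
  rw [← c1 _ h1 _ h2]
  congr 1
  simp only [mul_assoc, U.tt', inv_mul_cancel_left]

theorem pc_symm {x y : G} {a : A} (h : PC H Q t cl x y a) : PC H Q t cl y x a⁻¹ := by
  obtain ⟨g, hg, h, rfl⟩ := h
  refine ⟨_, inv_mem hg, U.pt_inv h, ?_⟩
  rw [← cl_inv c1 c2 h]
  congr 1
  simp only [mul_inv_rev, U.ti, inv_inv, mul_assoc]

theorem pc_conj {x y d : G} {a : A} (hd : d ∈ DD H t) (h : PC H Q t cl x y a) :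
    PC H Q t cl (d⁻¹ * x * d) (d⁻¹ * y * d) a := by
  obtain ⟨g, hg, h, rfl⟩ := h
  refine ⟨_, conj_mem_of_mem_normalizer' (U.D_L0 hd) hg, U.pt_conj hd h, ?_⟩
  have m := U.DH (U.conjD hd)
  rw [show t * (d⁻¹ * x * d) * (d⁻¹ * g * d) * (d⁻¹ * y * d)⁻¹ * t = (t * d * t)⁻¹ * (t * x * g * y⁻¹ * t) * (t * d * t) by
    simp only [mul_inv_rev, U.ti, inv_inv, mul_assoc, U.tt', mul_inv_cancel_left],
    c1 _ (mul_mem (inv_mem m) h) _ m, c1 _ (inv_mem m) _ h, cl_inv c1 c2 m, inv_mul_cancel_comm]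

omit c1 in
theorem pc_inv {x : G} (hx : x ∈ Q) : PC H Q t cl x x⁻¹ 1 := by
  refine ⟨x⁻¹ * x⁻¹, U.ZL (U.sq _ (inv_mem hx)), by simpa using U.pt_Q x (x⁻¹ * x⁻¹), ?_⟩
  rw [← cl_one c2]
  congr 1
  simp only [inv_inv, mul_assoc, mul_inv_cancel_left, inv_mul_cancel_left, U.tt]

theorem pc_t {x g d f : G} (hg : g ∈ Q) (hd : d ∈ DD H t) (e : t * x * t = g * d * t * f) : PC H Q t cl x f (cl d) := by
  refine ⟨t, U.tL0, U.pt_of_eq (mul_mem (U.QH hg) (U.DH hd)) e, ?_⟩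
  rw [e, mul_inv_cancel_right, U.tt'', c1 _ (U.QH hg) _ (U.DH hd), (c2 g (U.QH hg)).2 (mem_sup_left hg), one_mul]

theorem pc_all {x y d : G} {a : A} (hd : d ∈ DD H t) (hx : x ∈ Q) (hn : x ∉ Q0 Q) (hy : y ∈ Q) (hn' : y ∉ Q0 Q)
    (h : PC H Q t cl x (d⁻¹ * x * d) a) : PC H Q t cl y (d⁻¹ * y * d) a := by
  obtain ⟨g, hg, h1⟩ := U.L0_trans U.cube hy hn' hx hn
  have h2 : PC H Q t cl y x _ := ⟨g, hg, h1, rfl⟩
  have := U.pc_trans c1 (U.pc_trans c1 h2 h) (U.pc_conj c1 c2 hd (U.pc_symm c1 c2 h2))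
  rwa [mul_inv_cancel_comm] at this

theorem pc_D {d x : G} (hd : d ∈ DD H t) (hx : x ∈ Q) (hn : x ∉ Q0 Q) : PC H Q t cl x (d⁻¹ * x * d) (cl d ^ 3) := by
  let D₁ : Subgroup G :=
    { carrier := {d | d ∈ DD H t ∧ ∀ x ∈ Q, x ∉ Q0 Q → PC H Q t cl x (d⁻¹ * x * d) (cl d ^ 3)}
      one_mem' := ⟨one_mem _, fun x _ _ => ⟨1, one_mem _, by simpa using U.pt_one x, by simp [U.tt, cl_one c2]⟩⟩
      mul_mem' := fun {a b} ha hb => ⟨mul_mem ha.1 hb.1, fun x hx hn => by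
        have := U.pc_trans c1 (ha.2 x hx hn) (hb.2 _ (U.conjQ' (U.DH ha.1) hx) (U.cj_not (U.DH ha.1) hn))
        rw [c1 _ (U.DH ha.1) _ (U.DH hb.1), mul_pow]
        simpa only [mul_inv_rev, mul_assoc] using this⟩
      inv_mem' := fun {a} ha => ⟨inv_mem ha.1, fun x hx hn => by
        have m := inv_mem (U.DH ha.1)
        have := U.pc_symm c1 c2 (ha.2 _ (U.conjQ' m hx) (U.cj_not m hn))
        rw [cl_inv c1 c2 (U.DH ha.1), inv_pow]
        simpa only [inv_inv, mul_assoc, inv_mul_cancel_left, inv_mul_cancel, mul_one] using this⟩ }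
  have hK : KK H t ≤ D₁ := fun k hk => ⟨U.KD hk, fun x _ _ => ⟨k, U.KL hk, U.pt_D (U.KD hk) x, by
    rw [U.cl_K c1 c2 hk, one_pow, ← U.cl_K c1 c2 (U.tKt k hk)]
    congr 1
    simp only [mul_inv_rev, inv_inv, mul_assoc, mul_inv_cancel_left]⟩⟩
  have h1 : D₁ ≤ DD H t := fun _ h => h.1
  have h2 : ∀ d ∈ D₁, t * d * t ∈ D₁ := fun d hd => by
    simpa using mul_mem hd (hK (U.t_K c1 c2 hd.1))
  have h3 : ∀ x ∈ Q, x ≠ 1 → ∃ g ∈ Q, ∃ d ∈ D₁, ∃ y ∈ Q, t * x * t = g * d * t * y := fun x hx x1 => by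
    by_cases hn : x ∈ Q0 Q
    · obtain ⟨g, hg, d, hd, y, hy, e⟩ := U.L0_aux x hn x1
      exact ⟨g, Q0_le _ hg, d, hK hd, y, Q0_le _ hy, e⟩
    obtain ⟨g, hg, h, hh, f, hf, e⟩ := U.fgh hx x1
    refine ⟨g, hg, h, inv_mem_iff.1 ⟨inv_mem hh, fun y hy hn' => U.pc_all c1 c2 (inv_mem hh) hx hn hy hn' ?_⟩, f, hf, e⟩
    have md := U.conjD hh
    have mi := U.conjD (inv_mem hh)
    have e1 : t * x⁻¹ * t = f⁻¹ * (t * h⁻¹ * t) * t * g⁻¹ := by
      have := congrArg (·⁻¹) e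
      simpa only [mul_inv_rev, U.ti, mul_assoc, U.tt'] using this
    have e0 : x = t * g * h * t * f * t := by
      rw [← U.tt' x, ← U.tt'' (t * (t * x)), mul_assoc t (t * x) t, e]; simp only [mul_assoc]
    have e2 : t * g * t = x * h⁻¹ * t * (t * h * t * f⁻¹ * (t * h * t)⁻¹) := by
      rw [e0]; simp only [mul_inv_rev, U.ti, mul_assoc, U.tt', mul_inv_cancel_left, inv_mul_cancel_left]
    have e3 : t * (t * h * t * f * (t * h * t)⁻¹) * t = g⁻¹ * (t * h⁻¹ * t) * t * (h * x * h⁻¹) := by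
      rw [e0]; simp only [mul_inv_rev, U.ti, mul_assoc, U.tt', mul_inv_cancel_left, inv_mul_cancel_left, U.tt, mul_one]
    have p1 := U.pc_trans c1 (U.pc_inv c2 hx) (U.pc_t c1 c2 (inv_mem hf) mi e1)
    have p2 := U.pc_trans c1 (U.pc_inv c2 (inv_mem hg)) (by rw [inv_inv]; exact U.pc_t c1 c2 hx (inv_mem hh) e2)
    have p3 := U.pc_trans c1 (U.pc_inv c2 (U.conjQ (U.DH md) (inv_mem hf))) (by
      rw [conj_inv, inv_inv]; exact U.pc_t c1 c2 (inv_mem hg) mi e3)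
    have := U.pc_trans c1 (U.pc_trans c1 p1 p2) p3
    rw [U.cl_t c1 c2 (inv_mem hh), one_mul, ← pow_three'] at this
    rwa [inv_inv]
  have h4 := U.sub_inf le_rfl h1 (h1.trans U.nQD) h2 h3
  rw [eq_top_iff.2 (U.gen.ge.trans (sup_le_sup_right le_sup_left _)), top_inf_eq] at h4
  have h5 := U.sub_DD le_rfl h1 (h1.trans U.nQD) h2 h3
  rw [← h4] at h5
  exact (h5.le hd).2 x hx hn

end Cl

theorem path_W {w x g : G} (hw : w ∈ WW H Q t) (hx : x ∈ Q) (hn : x ∉ Q0 Q) (hg : g ∈ L0 H Q t)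
    (h : Pt H t x g (w⁻¹ * x * w)) : t * x * g * (w⁻¹ * x * w)⁻¹ * t ∈ Q ⊔ (KK H t ⊔ WW H Q t) := by
  obtain ⟨A, _, cl, c1, c2⟩ := exists_cl (sup_le U.QH ((sup_le U.KD U.WD).trans U.DH)) U.der_H
  obtain ⟨g', hg', h1, h2⟩ := U.pc_D c1 c2 (U.WD hw) hx hn
  rw [(c2 w (U.DH (U.WD hw))).2 (mem_sup_right (mem_sup_right hw)), one_pow, U.L0_uniq hx hn hg' hg h1 h] at h2
  exact (c2 _ h).1 h2

end UC

end CfsgSuz
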