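import Cfsg.Agent.H3.Suz15

/-! Split rank-one groups with `|Q| = q ^ 3`: the distinguished element `ω`. -/

set_option autoImplicit false

namespace CfsgSuz

open Subgroup Cfsg CfsgH2 CfsgLead CfsgFT
open scoped commutatorElement

variable {G : Type*} [Group G]

namespace RK0

variable {L H Q : Subgroup G} {t : G} (R : RK0 L H Q t) {x g h f : G} (hh : h ∈ DD H t) (e : t * x * t = g * h * t * f)
include R hh e

theorem pt_xinv (hf : f ∈ Q) : Pt H t x⁻¹ t g⁻¹ := R.pt_of_eq (mul_mem (R.QH (inv_mem hf)) (R.DH (R.conjD (inv_mem hh)))) (by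
  have := congrArg (·⁻¹) e
  simpa only [mul_inv_rev, R.ti, mul_assoc, R.tt'] using this)

theorem pt_g (hx : x ∈ Q) : Pt H t g t (t * h * t * f⁻¹ * (t * h * t)⁻¹) :=
  R.pt_of_eq (mul_mem (R.QH hx) (R.DH (inv_mem hh))) (by
    have e0 : x = t * g * h * t * f * t := by
      rw [← R.tt' x, ← R.tt'' (t * (t * x)), mul_assoc t (t * x) t, e]; simp only [mul_assoc]
    rw [e0]; simp only [mul_inv_rev, R.ti, mul_assoc, R.tt', mul_inv_cancel_left, inv_mul_cancel_left])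

end RK0

/-- the element of `L₀` moving `x` as `w` does, in Bruhat form -/
def BB {F : Type*} (H Q : Subgroup G) (t : G) (e₀ : G → F) (w x : G) (α β : F) : Prop :=
  ∃ z₁ ∈ Q0 Q, ∃ k ∈ KK H t, ∃ z₂ ∈ Q0 Q, e₀ z₁ = α ∧ e₀ z₂ = β ∧ Pt H t x (z₁ * k * t * z₂) (w⁻¹ * x * w)

namespace UC

variable [Finite G] {F : Type*} [Field F] {H Q : Subgroup G} {t s : G} {e₀ ζ : G → F} (U : UC H Q t s e₀ ζ)
include U

theorem e_inj {x y : G} (hx : x ∈ Q0 Q) (hy : y ∈ Q0 Q) (e : e₀ x = e₀ y) : x = y :=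
  inv_mul_eq_one.1 (mem_bot.1 ((U.hg.crd.eq_iff hx hy).1 e))

theorem e_zero {x : G} (hx : x ∈ Q0 Q) (e : e₀ x = 0) : x = 1 := mem_bot.1 ((U.hg.crd.ker x hx).1 e)

theorem tz {z : G} (hz : z ∈ Q0 Q) (h1 : z ≠ 1) : ∃ a ∈ KK H t, ∃ z' ∈ Q0 Q, t * z * t = z' * (a * a) * t * z' ∧
    ζ a * e₀ z = 1 ∧ e₀ z' = ζ a := by
  obtain ⟨a, ha, rfl⟩ := U.K_trans (U.QH (Q0_le Q hz)) h1 (Q0_sq hz)
  have ha' := U.mem_K.2 ha
  have m := U.hg.crd.cjA ha' U.s_mem_Q0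
  refine ⟨a, ha', _, m, by rw [U.eqn_conj ha, inv_of_sq (Q0_sq m)], ?_, ?_⟩
  · rw [U.hg.crd.conj' ha' U.s_mem_Q0, U.es, mul_one, mul_inv_cancel₀ (U.hg.crd.χ_ne ha')]
  · rw [U.hg.crd.conj a ha' s U.s_mem_Q0, U.es, mul_one]

theorem mem_KW {g d : G} (hg : g ∈ Q) (hd : d ∈ DD H t) (h : g * d ∈ Q ⊔ (KK H t ⊔ WW H Q t)) :
    d ∈ KK H t ⊔ WW H Q t := by
  have hD : KK H t ⊔ WW H Q t ≤ DD H t := sup_le U.KD U.WD
  obtain ⟨y, hy, a, ha, e⟩ := (mem_sup_of_normalizer (hD.trans U.nQD)).1 h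
  exact (U.split_uniq hy (hD ha) hg hd e).2 ▸ ha

theorem t_KW {d : G} (hd : d ∈ KK H t ⊔ WW H Q t) : t * d * t ∈ KK H t ⊔ WW H Q t := by
  obtain ⟨k, hk, w, hw, rfl⟩ := (mem_sup_of_normalizer (U.WD.trans U.norm_K)).1 hd
  rw [show t * (k * w) * t = t * k * t * (t * w * t) by simp only [mul_assoc, U.tt'], (U.mem_V.1 (U.WV hw)).2, U.tt'']
  exact mul_mem (mem_sup_left (U.tKt k hk)) (mem_sup_right hw)

theorem ktk {k : G} (hk : k ∈ KK H t) : k * t * k = t := by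
  rw [mul_assoc, U.tk (U.mem_K.1 hk), mul_inv_cancel_left]

theorem mul_not {x z : G} (hn : x ∉ Q0 Q) (hz : z ∈ Q0 Q) : x * z ∉ Q0 Q := fun h => hn ((mul_mem_cancel_right hz).1 h)

theorem inv_eq {x : G} (hx : x ∈ Q) : x * (x * x) = x⁻¹ := by
  rw [eq_inv_iff_mul_eq_one, ← Q0_sq (U.sq x hx)]; simp only [mul_assoc]

theorem bruhat_L0 {z₁ k z₂ : G} (h1 : z₁ ∈ Q0 Q) (hk : k ∈ KK H t) (h2 : z₂ ∈ Q0 Q) : z₁ * k * t * z₂ ∈ L0 H Q t :=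
  mul_mem (mul_mem (mul_mem (U.ZL h1) (U.KL hk)) U.tL0) (U.ZL h2)

theorem L0_cases {g : G} (hg : g ∈ L0 H Q t) : (∃ z ∈ Q0 Q, ∃ k ∈ KK H t, z * k = g) ∨
    ∃ z₁ ∈ Q0 Q, ∃ k ∈ KK H t, ∃ z₂ ∈ Q0 Q, g = z₁ * k * t * z₂ := by
  by_cases h : g ∈ Q0 Q ⊔ KK H t
  · exact Or.inl ((mem_sup_of_normalizer (U.KD.trans (U.DH.trans U.nQ0))).1 h)
  · simpa only [U.L0_DD] using Or.inr (U.L0_RK.canon hg h)

variable {w : G} (hw : w ∈ WW H Q t)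
include hw

theorem BB_ex (w1 : w ≠ 1) {x : G} (hx : x ∈ Q) (hn : x ∉ Q0 Q) : ∃ α β, BB H Q t e₀ w x α β := by
  have wH := U.DH (U.WD hw)
  obtain ⟨g, hg, h⟩ := U.L0_trans U.cube hx hn (U.conjQ' wH hx) (U.cj_not wH hn)
  rcases U.L0_cases hg with ⟨z, hz, k, hk, rfl⟩ | ⟨z₁, h1, k, hk, z₂, h2, rfl⟩
  · have e := U.pt_uniq (U.conjQ' wH hx) (U.conjQ' (U.DH (U.KD hk)) (mul_mem hx (Q0_le _ hz))) h
      (U.pt_mul (U.pt_Q x z) (U.pt_D (U.KD hk) _))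
    have := U.fix_coset (mul_mem (mem_sup_left hk) (mem_sup_right (inv_mem hw))) hx hn (by
      rwa [show k * w⁻¹ * x * (k * w⁻¹)⁻¹ = k * (w⁻¹ * x * w) * k⁻¹ by group, e,
        show x⁻¹ * (k * (k⁻¹ * (x * z) * k) * k⁻¹) = z by group])
    rw [mul_inv_eq_one] at this
    exact absurd ((eq_bot_iff_forall _).1 U.KV w ⟨this ▸ hk, U.WV hw⟩) w1
  · exact ⟨_, _, z₁, h1, k, hk, z₂, h2, rfl, rfl, h⟩

theorem BB_Z {x z : G} {α β : F} (hz : z ∈ Q0 Q) (h : BB H Q t e₀ w x α β) :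
    BB H Q t e₀ w (x * z) (α + e₀ z) (β + e₀ z) := by
  obtain ⟨z₁, h1, k, hk, z₂, h2, rfl, rfl, h⟩ := h
  refine ⟨_, mul_mem hz h1, k, hk, _, mul_mem h2 hz, by rw [U.hg.crd.add _ hz _ h1, add_comm], U.hg.crd.add _ h2 _ hz, ?_⟩
  have := U.pt_mul (U.pt_mul (U.pt_inv (U.pt_Q x z)) h) (U.pt_Q _ z)
  rw [inv_of_sq (Q0_sq hz), mul_assoc _ w z, ← hw.2 z hz] at this
  simpa only [mul_assoc] using this

theorem BB_K {x k' : G} {α β : F} (hk' : k' ∈ KK H t) (h : BB H Q t e₀ w x α β) :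
    BB H Q t e₀ w (k' * x * k'⁻¹) (ζ k' * α) (ζ k' * β) := by
  obtain ⟨z₁, h1, k, hk, z₂, h2, rfl, rfl, h⟩ := h
  refine ⟨_, U.hg.crd.cjA hk' h1, _, mul_mem (mul_mem hk' hk) hk', _, U.hg.crd.cjA hk' h2, U.hg.crd.conj _ hk' _ h1,
    U.hg.crd.conj _ hk' _ h2, ?_⟩
  have := U.pt_conj (inv_mem (U.KD hk')) h
  rw [inv_inv] at this
  convert this using 1
  · nth_rewrite 2 [← U.ktk hk']; group
  · calc _ = (k'⁻¹ * w)⁻¹ * x * (k'⁻¹ * w) := by group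
      _ = _ := by rw [U.WK hw _ (inv_mem hk')]; group

theorem BB_W {x v : G} {α β : F} (hv : v ∈ WW H Q t) (e : v * w = w * v) (h : BB H Q t e₀ w x α β) :
    BB H Q t e₀ w (v⁻¹ * x * v) α β := by
  obtain ⟨z₁, h1, k, hk, z₂, h2, rfl, rfl, h⟩ := h
  refine ⟨_, h1, k, hk, _, h2, rfl, rfl, ?_⟩
  convert U.pt_W hv (U.bruhat_L0 h1 hk h2) h using 1
  calc _ = (v * w)⁻¹ * x * (v * w) := by group
    _ = _ := by rw [e]; group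

theorem BB_KW (hc : WW H Q t ≤ C1(w)) {x d : G} {α β : F} (hd : d ∈ KK H t ⊔ WW H Q t) (h : BB H Q t e₀ w x α β) :
    ∃ c, c ≠ 0 ∧ BB H Q t e₀ w (d * x * d⁻¹) (c * α) (c * β) := by
  obtain ⟨k, hk, v, hv, rfl⟩ := (mem_sup_of_normalizer (U.WD.trans U.norm_K)).1 hd
  refine ⟨ζ k, U.hg.crd.χ_ne hk, ?_⟩
  have := U.BB_K hw hk (U.BB_W hw (inv_mem hv) (mem_cent1'.1 (hc (inv_mem hv))) h)
  simpa only [inv_inv, mul_inv_rev, mul_assoc] using this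

theorem BB_ne (w1 : w ≠ 1) {x : G} (hx : x ∈ Q) (hn : x ∉ Q0 Q) : ¬ BB H Q t e₀ w x 0 0 := by
  rintro ⟨z₁, h1, k, hk, z₂, h2, e1, e2, h⟩
  rw [U.e_zero h1 e1, U.e_zero h2 e2, one_mul, mul_one] at h
  have := U.pt_mul h (U.pt_W hw (mul_mem (U.KL hk) U.tL0) h)
  rw [← mul_assoc, U.ktk hk, U.tt] at this
  have wH := U.DH (U.WD hw)
  have e := U.pt_uniq hx (U.conjQ' wH (U.conjQ' wH hx)) (U.pt_one x) this
  refine w1 (U.W_fix hw hx hn (comm_of_sq_comm (U.odd_D (U.WD hw)) ?_))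
  nth_rewrite 1 [e]
  group

variable [CharP F 2]

theorem BB_zero {x : G} {α β : F} (hx : x ∈ Q) (hn : x ∉ Q0 Q) (h : BB H Q t e₀ w x α β) :
    ∃ y ∈ Q, y ∉ Q0 Q ∧ y * y = x * x ∧ BB H Q t e₀ w y 0 (β + α) := by
  obtain ⟨z, hz, rfl⟩ := U.hg.crd.surj α
  exact ⟨_, mul_mem hx (Q0_le _ hz), U.mul_not hn hz, U.sq_mul hx hz, CharTwo.add_self_eq_zero (e₀ z) ▸ U.BB_Z hw hz h⟩

theorem BB_t {x y : G} {α β α' β' : F} (hy : y ∈ Q) (hn : y ∉ Q0 Q) (p : Pt H t x t y) (h : BB H Q t e₀ w x α β)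
    (h' : BB H Q t e₀ w y α' β') : α' * α = β' * β := by
  obtain ⟨z₁, h1, k, hk, z₂, h2, rfl, rfl, h⟩ := h
  obtain ⟨y₁, h3, k', hk', y₂, h4, rfl, rfl, h'⟩ := h'
  have e := U.L0_uniq hy hn (U.bruhat_L0 h3 hk' h4) (mul_mem (mul_mem U.tL0 (U.bruhat_L0 h1 hk h2)) U.tL0) h'
    (U.pt_mul (U.pt_mul (U.pt_symm p) h) (U.pt_W hw U.tL0 p))
  have c := U.hg.crd
  have m2 := c.cjA (inv_mem hk) h2
  rw [inv_inv] at m2
  have tk := U.tk (U.mem_K.1 hk)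
  have tk' := U.tk' (U.mem_K.1 hk)
  by_cases z1 : z₁ = 1
  · have := (U.canon_uniq (Q0_le _ h3) (U.KD hk') (Q0_le _ h4) (Q0_le _ m2) (U.KD (inv_mem hk)) (one_mem _) (by
      rw [e, z1, one_mul, ← mul_assoc, ← mul_assoc, tk, U.tt'']; group)).2.2
    rw [z1, this, c.one, mul_zero, zero_mul]
  obtain ⟨a, ha, z', hz', e1, e2, e3⟩ := U.tz h1 z1
  have e' : y₁ * k' * t * y₂ = z' * (a * a) * (t * (z' * (k⁻¹ * z₂ * k)) * t) * k := by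
    calc _ = t * z₁ * t * (t * k) * t * z₂ * t := by rw [e]; simp only [mul_assoc, U.tt']
      _ = z' * (a * a) * t * z' * k⁻¹ * z₂ * (k * t * k) := by rw [e1, tk, U.ktk hk, ← mul_assoc, U.tt'']
      _ = _ := by group
  by_cases u1 : z' * (k⁻¹ * z₂ * k) = 1
  · rw [u1, mul_one, U.tt, mul_one] at e'
    exact absurd (e' ▸ mul_mem (mul_mem (U.QH (Q0_le _ hz')) (U.DH (U.KD (mul_mem ha ha)))) (U.DH (U.KD hk)))
      (U.not_mem (mul_mem (U.QH (Q0_le _ h3)) (U.DH (U.KD hk'))) (U.QH (Q0_le _ h4)))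
  obtain ⟨b, hb, u', hu', e4, e5, e6⟩ := U.tz (mul_mem hz' m2) u1
  have m3 := c.cjA (inv_mem hk) hu'
  rw [inv_inv] at m3
  obtain ⟨r1, -, r2⟩ := U.canon_uniq (Q0_le _ h3) (U.KD hk') (Q0_le _ h4) (Q0_le _ (mul_mem hz' (c.cjA (mul_mem ha ha) hu')))
    (U.KD (mul_mem (mul_mem (mul_mem ha ha) (mul_mem hb hb)) (inv_mem hk))) (Q0_le _ m3) (by
      rw [e', e4, mul_assoc _ (_ * k⁻¹), mul_assoc _ k⁻¹ t, ← tk]; group)
  rw [c.add _ hz' _ m2, c.conj' hk h2, e3] at e5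
  rw [r1, r2, c.add _ hz' _ (c.cjA (mul_mem ha ha) hu'), c.conj _ (mul_mem ha ha) _ hu', c.χ_mul ha ha, c.conj' hk hu', e3, e6]
  linear_combination (norm := (ring_nf; reduce_mod_char!)) (1 + ζ a * ζ b) * e2 + e5

theorem exists_omega0 (w1 : w ≠ 1) (hc : WW H Q t ≤ C1(w)) : ∃ ω ∈ Q, ω ∉ Q0 Q ∧ Pt H t ω t (w⁻¹ * ω⁻¹ * w) := by
  have c := U.hg.crd
  have wH := U.DH (U.WD hw)
  obtain ⟨x, hx, hn⟩ := SetLike.exists_of_lt U.Z_lt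
  obtain ⟨α, β, h⟩ := U.BB_ex hw w1 hx hn
  obtain ⟨x, hx, hn, -, h⟩ := U.BB_zero hw hx hn h
  generalize β + α = n at h
  have n0 : n ≠ 0 := fun e => U.BB_ne hw w1 hx hn (e ▸ h)
  obtain ⟨z₁, h1, k, hk, z, hz, e1, e2, p⟩ := id h
  rw [U.e_zero h1 e1, one_mul] at p
  have kH := U.DH (U.KD hk)
  have pQ := U.conjQ' kH hx
  have fQ := mul_mem (U.conjQ' wH hx) (Q0_le _ hz)
  have p1 : Pt H t (k⁻¹ * x * k) t (w⁻¹ * x * w * z) := by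
    have := U.pt_mul (U.pt_mul (U.pt_inv (U.pt_D (U.KD hk) x)) p) (U.pt_Q _ z)
    rwa [mul_assoc k, inv_mul_cancel_left, mul_assoc t, Q0_sq hz, mul_one] at this
  obtain ⟨g, hg, d, hd, f, hf, e⟩ := U.fgh pQ (U.f_ne_one fQ p1)
  obtain rfl := U.pt_uniq hf fQ (U.pt_of_eq (mul_mem (U.QH hg) (U.DH hd)) e) p1
  have dKW := U.mem_KW hg hd (by
    have := mul_mem (mem_sup_right (mem_sup_left (U.tKt _ (inv_mem hk))))
      (U.path_W hw hx hn (mul_mem (mul_mem (U.KL hk) U.tL0) (U.ZL hz)) p)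
    convert this using 1
    rw [← U.tt'' (g * d), ← mul_inv_cancel_right (g * d * t) (w⁻¹ * x * w * z), ← e, mul_inv_rev _ z, inv_of_sq (Q0_sq hz)]
    simp only [mul_assoc, U.tt'])
  have p2 := U.pt_xinv hd e hf
  have p3 := U.pt_g hd e pQ
  have gn : g ∉ Q0 Q := fun h => U.pt_not (inv_mem pQ) (fun h => U.cj_not kH hn (inv_mem_iff.1 h)) U.tL0 (inv_mem hg) p2
    (inv_mem h)
  obtain ⟨α', β', h2⟩ := U.BB_ex hw w1 hg gn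
  have b1 := U.BB_Z hw (U.sq _ pQ) (by simpa only [inv_inv] using U.BB_K hw (inv_mem hk) h)
  have b2 := U.BB_Z hw (U.sq _ hg) h2
  have b3 := U.BB_Z hw (U.sq _ hf) (U.BB_Z hw hz (U.BB_W hw hw rfl h))
  rw [U.inv_eq pQ, show k⁻¹ * x * k * (k⁻¹ * x * k) = k⁻¹ * (x * x) * k by group, c.conj' hk (U.sq x hx),
    c.χ_inv hk] at b1
  rw [U.inv_eq hg] at b2
  rw [U.inv_eq hf, U.sq_mul (U.conjQ' wH hx) hz, show w⁻¹ * x * w * (w⁻¹ * x * w) = w⁻¹ * (x * x) * w by group,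
    U.wz hw (U.sq x hx), e2] at b3
  obtain ⟨c', c0, b4⟩ := U.BB_KW hw hc (U.t_KW dKW) b3
  have r1 := U.BB_t hw (inv_mem hg) (fun h => gn (inv_mem_iff.1 h)) p2 b1 b2
  have r2 := U.BB_t hw hg gn (U.pt_symm p3) b4 h2
  have r3 : β' + α' = e₀ (g * g) := by
    have k0 := inv_ne_zero (c.χ_ne hk)
    apply mul_left_cancel₀ (mul_ne_zero (mul_ne_zero n0 k0) c0)
    linear_combination (norm := (ring_nf; reduce_mod_char!)) c' * r1 + (ζ k)⁻¹ * r2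
  obtain ⟨y, hy, yn, e3, z₁, h1, k, hk, z, hz, e1, e2, p⟩ := U.BB_zero hw hg gn h2
  rw [r3, ← e3] at e2
  rw [U.e_zero h1 e1, one_mul, U.e_inj hz (U.sq y hy) e2] at p
  obtain ⟨a, ha, rfl⟩ := U.exists_K_sqrt hk
  refine ⟨_, U.conjQ' (U.DH (U.KD ha)) hy, U.cj_not (U.DH (U.KD ha)) yn, ?_⟩
  have := U.pt_mul (U.pt_mul (U.pt_mul (U.pt_inv (U.pt_D (U.KD ha) y)) p) (U.pt_Q _ (y * y))) (U.pt_D (U.KD ha) _)
  convert this using 1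
  · rw [mul_assoc a⁻¹, mul_assoc _ (y * y), Q0_sq (U.sq y hy), mul_one, mul_assoc a a, inv_mul_cancel_left, U.ktk ha]
  · rw [← U.wz hw (U.sq y hy), show w⁻¹ * y * w * (w⁻¹ * (y * y) * w) = w⁻¹ * (y * (y * y)) * w by group, U.inv_eq hy]
    calc _ = (a * w)⁻¹ * y⁻¹ * (a * w) := by group
      _ = _ := by rw [U.WK hw a ha]; group

theorem exists_omega (w1 : w ≠ 1) (hc : WW H Q t ≤ C1(w)) :
    ∃ ω ∈ Q, ω ∉ Q0 Q ∧ t * ω * t = w * ω⁻¹ * w⁻¹ * (w * w * w) * t * (w⁻¹ * ω⁻¹ * w) := by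
  obtain ⟨ω, hω, hn, p⟩ := U.exists_omega0 hw w1 hc
  have wH := U.DH (U.WD hw)
  have wV := U.WV hw
  have fQ := U.conjQ' wH (inv_mem hω)
  obtain ⟨g, hg, d, hd, f, hf, e⟩ := U.fgh hω (U.f_ne_one fQ p)
  obtain rfl := U.pt_uniq hf fQ (U.pt_of_eq (mul_mem (U.QH hg) (U.DH hd)) e) p
  have e0 : w⁻¹ * ω⁻¹ * w * (ω * ω) = w⁻¹ * ω * w := by rw [← U.wz hw (U.sq ω hω)]; group
  have dKW := U.mem_KW hg hd (by
    have := U.path_W hw hω hn (mul_mem U.tL0 (U.ZL (U.sq ω hω))) (e0 ▸ U.pt_mul p (U.pt_Q _ _))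
    convert this using 1
    rw [← e0, ← mul_assoc (t * ω), e]
    simp only [mul_assoc, mul_inv_rev, mul_inv_cancel_left, U.tt, mul_one])
  have p1 := U.f_conjV wV (U.pt_symm p)
  rw [show w * (w⁻¹ * ω⁻¹ * w) * w⁻¹ = ω⁻¹ by group] at p1
  obtain rfl := inv_eq_iff_eq_inv.1 (U.pt_uniq (inv_mem hg) (U.conjQ wH hω) (U.pt_xinv hd e hf) p1)
  have p2 := U.f_conjV wV p1
  rw [← conj_inv] at p2
  have e1 := U.pt_uniq (U.conjQ (U.DH (U.conjD hd)) (inv_mem hf)) (U.conjQ wH (U.conjQ wH hω)) (U.pt_g hd e hω) p2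
  have W' : w⁻¹ ∈ KK H t ⊔ WW H Q t := mem_sup_right (inv_mem hw)
  have := U.fix_coset (mul_mem (mul_mem (mul_mem W' W') (U.t_KW dKW)) W') hω hn (by
    rw [show w⁻¹ * w⁻¹ * (t * d * t) * w⁻¹ * ω * (w⁻¹ * w⁻¹ * (t * d * t) * w⁻¹)⁻¹ =
      w⁻¹ * (w⁻¹ * (t * d * t * (w⁻¹ * ω⁻¹ * w)⁻¹ * (t * d * t)⁻¹) * w) * w by
        simp only [mul_inv_rev, inv_inv, mul_assoc], e1]
    simp [mul_assoc])
  refine ⟨ω, hω, hn, ?_⟩
  have e2 : t * d * t = w * w * w := by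
    calc _ = w * w * (w⁻¹ * w⁻¹ * (t * d * t) * w⁻¹) * w := by group
      _ = _ := by rw [this, mul_one]
  have e3 : d = w * w * w := by
    calc d = t * (t * d * t) * t := by simp only [mul_assoc, U.tt', U.tt, mul_one]
      _ = _ := by rw [e2, (U.mem_V.1 (mul_mem (mul_mem wV wV) wV)).2, U.tt'']
  rw [e, conj_inv, e3]

end UC

end CfsgSuz
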