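import Cfsg.Agent.H3.Suz16

/-! Split rank-one groups with `|Q| = q ^ 3`: unitary coordinates. -/

set_option autoImplicit false

namespace CfsgSuz

open Subgroup Cfsg CfsgH2 CfsgLead CfsgFT
open scoped commutatorElement

section Field

variable {F E : Type*} [Field F] [Field E]

open Polynomial in
theorem mem_range_of_pow [Finite F] (ι : F →+* E) {c : E} (h : c ^ Nat.card F = c) : ∃ a, ι a = c := by
  classical
  haveI := Fintype.ofFinite F
  by_contra hn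
  have h1 : 1 < Nat.card F := Finite.one_lt_card
  have := card_le_degree_of_subset_roots (p := (X ^ Nat.card F - X : E[X])) (Z := insert c (Finset.univ.image ι))
    fun x hx => (mem_roots (FiniteField.X_pow_card_sub_X_ne_zero E h1)).2 (by
      rcases Finset.mem_insert.1 hx with rfl | hx
      · simp only [IsRoot.def, eval_sub, eval_pow, eval_X, h, sub_self]
      · obtain ⟨a, -, rfl⟩ := Finset.mem_image.1 hx
        simp [← map_pow, FiniteField.pow_card])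
  rw [FiniteField.X_pow_card_sub_X_natDegree_eq E h1, Finset.card_insert_of_notMem (by simpa using hn),
    Finset.card_image_of_injective _ ι.injective, Finset.card_univ, Nat.card_eq_fintype_card] at this
  omega

theorem exists_ringHom {ν : F → E} (h1 : ∀ a b, ν (a * b) = ν a * ν b) (h0 : ν 0 = 0) (e1 : ν 1 = 1) {α : F} (a0 : α ≠ 0)
    (h2 : ∀ b, ν (α + b) = ν α + ν b) : ∃ ι : F →+* E, ∀ a, ι a = ν a :=
  ⟨{ toFun := ν, map_one' := e1, map_mul' := h1, map_zero' := h0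
     map_add' := fun a b => by
      by_cases ha : a = 0
      · simp [ha, h0]
      · rw [show a + b = a / α * (α + b * α / a) by field_simp, h1, h2, mul_add, ← h1, ← h1]
        congr 2 <;> field_simp }, fun _ => rfl⟩

theorem quad_form [Finite F] [CharP F 2] [CharP E 2] {ι : F →+* E} {σ : E ≃+* E} (h1 : ∀ a, σ (ι a) = ι a)
    (h2 : ∀ c, σ c = c → ∃ a, ι a = c) (h3 : ∀ c, σ (σ c) = c) {μ : E} {α : F} (a0 : α ≠ 0) (m1 : σ μ * μ = 1)
    (m2 : μ + σ μ = ι α) {S : E → F} {T : E →+ E →+ F} (s1 : ∀ a b, S (a + b) = S a + T a b + S b)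
    (s2 : ∀ c a, S (ι c * a) = c * c * S a) (s3 : ∀ a, S (μ * a) = S a) (a : E) : ι (S a) = ι (S 1) * (σ a * a) := by
  have t1 : ∀ c a b, T (ι c * a) (ι c * b) = c * c * T a b := fun c a b => by
    have := s2 c (a + b)
    rw [mul_add, s1, s1, s2, s2] at this
    linear_combination this
  have t2 : ∀ c a b, T (ι c * a) b = T a (ι c * b) := fun c a b => by
    have := t1 (c + 1) a b
    simp only [map_add, map_one, add_mul, one_mul, AddMonoidHom.add_apply, t1] at this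
    linear_combination (norm := (ring_nf; reduce_mod_char!)) this
  have t3 : ∀ c a b, T a (ι c * b) = c * T a b := fun c a b => by
    rw [← fr_symm_sq c, ← t1, t2, map_mul ι, mul_assoc]
  have s4 : ∀ x y, S (ι x + ι y * μ) = x * x * S 1 + x * y * T 1 μ + y * y * S 1 := fun x y => by
    rw [s1, ← mul_one (ι x), s2, s2, t2, t3, t3, ← s3 1, mul_one, mul_assoc x y]
  have t4 : T 1 μ = α * S 1 := by
    have := s4 1 α
    rw [map_one, show 1 + ι α * μ = μ * (μ * 1) by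
      linear_combination (norm := (ring_nf; reduce_mod_char!)) m1 + μ * m2, s3, s3] at this
    apply mul_left_cancel₀ a0
    linear_combination (norm := (ring_nf; reduce_mod_char!)) this
  have i0 : ι α ≠ 0 := (map_ne_zero ι).2 a0
  obtain ⟨y, hy⟩ := h2 ((a + σ a) / ι α) (by rw [map_div₀, map_add, h3, h1, add_comm])
  rw [eq_div_iff i0] at hy
  obtain ⟨x, hx⟩ := h2 (a + ι y * μ) (by
    rw [map_add, map_mul, h1]
    linear_combination (norm := (ring_nf; reduce_mod_char!)) hy + ι y * m2)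
  obtain rfl : a = ι x + ι y * μ := by linear_combination (norm := (ring_nf; reduce_mod_char!)) hx
  simp only [s4, t4, map_add, map_mul, h1]
  linear_combination (norm := (ring_nf; reduce_mod_char!)) ι (S 1) * ι y * ι y * m1 + ι (S 1) * ι x * ι y * m2

end Field

variable {G : Type*} [Group G]

/-- a distinguished pair -/
structure GP (H Q Γ : Subgroup G) (t ω w : G) : Prop where
  hω : ω ∈ Q
  hn : ω ∉ Q0 Q
  hw : w ∈ WW H Q t
  hΓ : w ∈ Γ
  w1 : w ≠ 1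
  eqn : t * ω * t = w * ω⁻¹ * w⁻¹ * (w * w * w) * t * (w⁻¹ * ω⁻¹ * w)

/-- unitary coordinates on `Q` -/
structure UT {E : Type*} [Field E] (H Q : Subgroup G) (t : G) (σ : E ≃+* E) (e l : G → E) : Prop where
  add : ∀ x ∈ Q, ∀ y ∈ Q, e (x * y) = e x + e y
  ladd : ∀ x ∈ Q, ∀ y ∈ Q, l (x * y) = l x + l y + σ (e x) * e y
  ext : ∀ x ∈ Q, ∀ y ∈ Q, e x = e y → l x = l y → x = y
  norm : ∀ x ∈ Q, l x + σ (l x) = σ (e x) * e x
  surj : ∀ a b, b + σ b = σ a * a → ∃ x ∈ Q, e x = a ∧ l x = b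
  pt : ∀ x ∈ Q, ∀ y ∈ Q, Pt H t x t y → e y * σ (l x) = e x ∧ l y * l x = 1

namespace UC

variable [Finite G] {F : Type*} [Field F] {H Q : Subgroup G} {t s : G} {e₀ ζ : G → F} (U : UC H Q t s e₀ ζ)
  {Γ : Subgroup G} {ω w : G}
include U

theorem GP_inv (P : GP H Q Γ t ω w) : GP H Q Γ t ω⁻¹ w⁻¹ where
  hω := inv_mem P.hω
  hn h := P.hn (inv_mem_iff.1 h)
  hw := inv_mem P.hw
  hΓ := inv_mem P.hΓ
  w1 := inv_ne_one.2 P.w1
  eqn := by
    have wV := inv_mem (U.WV P.hw)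
    have := congrArg (·⁻¹) P.eqn
    rw [mul_assoc _ (w⁻¹ * w⁻¹ * w⁻¹) t, ← (U.mem_V.1 (mul_mem (mul_mem wV wV) wV)).2]
    simpa only [mul_inv_rev, U.ti, mul_assoc, inv_inv] using this

theorem GP_pt (P : GP H Q Γ t ω w) : Pt H t ω t (w⁻¹ * ω⁻¹ * w) :=
  have wH := U.DH (U.WD P.hw)
  U.pt_of_eq (mul_mem (U.QH (U.conjQ wH (inv_mem P.hω))) (mul_mem (mul_mem wH wH) wH)) P.eqn

theorem tz' {a : G} (ha : a ∈ KK H t) : t * (a⁻¹ * s * a) * t = a * s * a⁻¹ * (a * a) * t * (a * s * a⁻¹) := by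
  rw [U.eqn_conj (U.mem_K.1 ha), inv_of_sq (conj_sq U.ss a)]

theorem f_Z {a x x' u : G} (ha : a ∈ KK H t) (h1 : Pt H t x t x') (h2 : Pt H t (x' * (a * s * a⁻¹)) t u) :
    Pt H t (x * (a⁻¹ * s * a)) t (a * a * u * (a * a)⁻¹ * (a * s * a⁻¹)) := by
  have := U.f_mul (U.KD (mul_mem ha ha)) (U.tz' ha) h1 h2
  rwa [U.tK (mul_mem ha ha), inv_inv] at this

theorem Z_form {z : G} (hz : z ∈ Q0 Q) (h1 : z ≠ 1) : ∃ a ∈ KK H t, a⁻¹ * s * a = z := by
  obtain ⟨a, ha, e⟩ := U.K_trans (U.QH (Q0_le Q hz)) h1 (Q0_sq hz)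
  exact ⟨a, U.mem_K.2 ha, e⟩

theorem star (P : GP H Q Γ t ω w) {a u : G} (ha : a ∈ KK H t) (hu : u ∈ Q) (h : Pt H t (ω⁻¹ * (a * s * a⁻¹)) t u) :
    a * a * (w⁻¹ * u * w) * (a * a)⁻¹ * (a * s * a⁻¹) = w⁻¹ * (w⁻¹ * u * w) * w * (w⁻¹ * ω⁻¹ * w) := by
  have wV := U.WV P.hw
  have wD := U.WD P.hw
  have wH := U.DH wD
  have m := U.hg.crd.cjA ha U.s_mem_Q0
  have m' := U.hg.crd.cjA (inv_mem ha) U.s_mem_Q0
  rw [inv_inv] at m'
  have p1 := U.pt_W P.hw U.tL0 h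
  rw [show w⁻¹ * (ω⁻¹ * (a * s * a⁻¹)) * w = w⁻¹ * ω⁻¹ * w * (w⁻¹ * (a * s * a⁻¹) * w) by group, U.wz P.hw m] at p1
  have p2 := U.f_conjV wV h
  rw [← U.Q0_comm' m (inv_mem P.hω), show w * (a * s * a⁻¹ * ω⁻¹) * w⁻¹ = w * (a * s * a⁻¹) * w⁻¹ * (w * ω⁻¹ * w⁻¹) by group,
    U.wz' P.hw m] at p2
  have p3 := U.f_mul (mul_mem (mul_mem wD wD) wD) P.eqn
    (U.pt_of_eq (mul_mem (U.QH (Q0_le _ m)) (U.DH (U.KD (mul_mem ha ha)))) (U.tz' ha)) p2
  rw [U.Q0_comm' m' P.hω, (U.mem_V.1 (mul_mem (mul_mem wV wV) wV)).2, U.tt''] at p3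
  rw [U.pt_uniq (mul_mem (U.conjQ (U.DH (U.KD (mul_mem ha ha))) (U.conjQ' wH hu)) (Q0_le _ m)) (mul_mem (U.conjQ'
    (mul_mem (mul_mem wH wH) wH) (U.conjQ wH hu)) (U.conjQ' wH (inv_mem P.hω))) (U.f_Z ha (U.GP_pt P) p1) p3]
  simp only [mul_inv_rev, mul_assoc, inv_mul_cancel_left]

variable {E : Type*} [Field E] [CharP E 2] {e χ : G → E} (C : Crd Γ Q (Q0 Q) e χ) (hK : KK H t ≤ Γ)
include C hK

theorem star_e (P : GP H Q Γ t ω w) {ν : F → E} (n0 : ν 0 = 0) (n1 : ∀ k ∈ KK H t, ν (ζ k) = χ k * χ k) {z u : G}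
    (hz : z ∈ Q0 Q) (hu : u ∈ Q) (h : Pt H t (ω⁻¹ * z) t u) : e u * (ν (e₀ z) + (χ w)⁻¹) = e ω := by
  have m0 := C.χ_ne P.hΓ
  have wH := U.DH (U.WD P.hw)
  by_cases z1 : z = 1
  · have := U.GP_pt (U.GP_inv P)
    rw [inv_inv, inv_inv] at this
    rw [z1, mul_one] at h
    rw [U.pt_uniq hu (U.conjQ wH P.hω) h this, z1, U.hg.crd.one, n0, C.conj _ P.hΓ _ P.hω]
    field_simp
    simp
  obtain ⟨a, ha, rfl⟩ := U.Z_form hz z1
  replace ha := inv_mem ha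
  rw [← inv_inv a] at hz h ⊢
  generalize a⁻¹ = a at ha hz h ⊢
  rw [inv_inv] at hz h ⊢
  have m1 := U.conjQ' wH hu
  have := congrArg e (U.star P ha hu h)
  rw [C.add _ (C.cjA (hK (mul_mem ha ha)) m1) _ (C.le hz), C.zero hz, C.conj _ (hK (mul_mem ha ha)) _ m1,
    C.add _ (U.conjQ' wH m1) _ (U.conjQ' wH (inv_mem P.hω)), C.conj' P.hΓ m1, C.conj' P.hΓ hu,
    C.conj' P.hΓ (inv_mem P.hω), C.inv P.hω, C.χ_mul (hK ha) (hK ha)] at this
  rw [U.hg.crd.conj a ha s U.s_mem_Q0, U.es, mul_one, n1 a ha]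
  apply mul_left_cancel₀ (inv_ne_zero m0)
  linear_combination (norm := (ring_nf; reduce_mod_char!)) this

theorem exists_iota (P : GP H Q Γ t ω w) :
    ∃ ι : F →+* E, (∀ k ∈ KK H t, ι (ζ k) = χ k * χ k) ∧ ι (e₀ (ω * ω)) = χ w + (χ w)⁻¹ := by
  classical
  have c := U.hg.crd
  choose! p p1 p2 using U.hg.gen
  obtain ⟨ν, n0, n1⟩ : ∃ ν : F → E, ν 0 = 0 ∧ ∀ k ∈ KK H t, ν (ζ k) = χ k * χ k :=
    ⟨fun a => if a = 0 then 0 else χ (p a) * χ (p a), if_pos rfl, fun k hk => by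
      have k0 := c.χ_ne hk
      have := c.inj_of_fpf (le_normalizer_of_normal) (fun k hk k1 => eq_bot_iff.2 ((inf_le_inf_right _ (Q0_le Q)).trans
        (U.K_fpf' hk k1).le)) _ (mul_mem (p1 _ k0) (inv_mem hk)) (by
          rw [c.χ_mul (p1 _ k0) (inv_mem hk), p2 _ k0, c.χ_inv hk, mul_inv_cancel₀ k0])
      simp only [k0, if_false, mul_inv_eq_one.1 this]⟩
  have key : ∀ b, ν (e₀ (ω * ω) + b) = ν b + (χ w + (χ w)⁻¹) := fun b => by
    obtain ⟨z, hz, rfl⟩ := c.surj b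
    obtain ⟨u, hu, h⟩ := U.exists_f (mul_mem (inv_mem P.hω) (Q0_le _ hz)) fun e1 => P.hn (inv_mul_eq_one.1 e1 ▸ hz)
    have h1 := U.star_e C hK P n0 n1 hz hu h
    have h2 := U.star_e C hK (U.GP_inv P) n0 n1 (mul_mem (U.sq ω P.hω) hz) hu (by
      rwa [inv_inv, ← mul_assoc, U.inv_eq P.hω])
    rw [C.inv P.hω, CharTwo.neg_eq, c.add _ (U.sq ω P.hω) _ hz, C.χ_inv P.hΓ, inv_inv] at h2
    have u0 : e u ≠ 0 := fun e0 => P.hn ((C.ker ω P.hω).1 (by rw [← h1, e0, zero_mul]))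
    apply mul_left_cancel₀ u0
    linear_combination (norm := (ring_nf; reduce_mod_char!)) h1 + h2
  have k0 := key 0
  rw [add_zero, n0, zero_add] at k0
  obtain ⟨ι, hι⟩ := exists_ringHom (ν := ν) (fun a b => by
      by_cases ha : a = 0
      · simp [ha, n0]
      by_cases hb : b = 0
      · simp [hb, n0]
      rw [← p2 a ha, ← p2 b hb, ← c.χ_mul (p1 a ha) (p1 b hb), n1 _ (p1 a ha), n1 _ (p1 b hb),
        n1 _ (mul_mem (p1 a ha) (p1 b hb)), C.χ_mul (hK (p1 a ha)) (hK (p1 b hb))]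
      ring) n0 (by rw [← c.χ_one, n1 _ (one_mem _), C.χ_one, mul_one])
    (fun e0 => U.sq_ne P.hω P.hn (U.e_zero (U.sq ω P.hω) e0)) fun b => by rw [key, k0, add_comm]
  exact ⟨ι, fun k hk => by rw [hι, n1 k hk], by rw [hι, k0]⟩

end UC

end CfsgSuz
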