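import Cfsg.Agent.H3.Suz17
import Cfsg.Agent.H5.U3a

/-! Split rank-one groups with `|Q| = q ^ 3`: identification with `PSU₃(q)`. -/

set_option autoImplicit false

namespace CfsgSuz

open Subgroup Cfsg CfsgH2 CfsgLead CfsgFT
open scoped commutatorElement

variable {G : Type*} [Group G]

namespace UC

variable [Finite G] {F : Type*} [Field F] [Finite F] [CharP F 2] {H Q : Subgroup G} {t s : G} {e₀ ζ : G → F}
  (U : UC H Q t s e₀ ζ) {Γ : Subgroup G} {ω w : G} {E : Type*} [Field E] [CharP E 2] {e χ : G → E}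
  (C : Crd Γ Q (Q0 Q) e χ) (hK : KK H t ≤ Γ) (hW : Γ ≤ KK H t ⊔ WW H Q t) {ι : F →+* E} {σ : E ≃+* E}
  (s1 : ∀ a, σ (ι a) = ι a) (s2 : ∀ c, σ c = c → ∃ a, ι a = c) (s3 : ∀ c, σ (σ c) = c)
  (i1 : ∀ k ∈ KK H t, ι (ζ k) = χ k * χ k)

include U i1 in
omit [Finite G] [Finite F] [CharP F 2] in
theorem exists_K {c : F} (hc : c ≠ 0) : ∃ k ∈ KK H t, χ k = ι c ∧ ζ k = c * c := by
  obtain ⟨k, hk, e1⟩ := U.hg.gen (c * c) (mul_ne_zero hc hc)
  have := i1 k hk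
  rw [e1, map_mul, mul_self_eq_mul_self_iff, CharTwo.neg_eq, or_self] at this
  exact ⟨k, hk, this.symm, e1⟩

include s1 i1 in
omit [Finite G] in
theorem sig_K {k : G} (hk : k ∈ KK H t) : σ (χ k) = χ k := by
  have := i1 k hk
  rw [← fr_symm_sq (ζ k), map_mul, mul_self_eq_mul_self_iff, CharTwo.neg_eq, or_self] at this
  rw [← this, s1]

include U C hK hW s1 s2 i1 in
omit [Finite F] [CharP F 2] in
theorem mu_norm (P : GP H Q Γ t ω w) (i2 : ι (e₀ (ω * ω)) = χ w + (χ w)⁻¹) : σ (χ w) * χ w = 1 := by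
  have m0 := C.χ_ne P.hΓ
  have m1 : σ (χ w) ≠ 0 := (map_ne_zero σ).2 m0
  have h1 := s1 (e₀ (ω * ω))
  rw [i2, map_add, map_inv₀] at h1
  have : (σ (χ w) - χ w) * (σ (χ w) * χ w - 1) = 0 := by
    field_simp at h1
    linear_combination h1
  refine sub_eq_zero.1 ((mul_eq_zero.1 this).resolve_left fun h => ?_)
  obtain ⟨a, ha⟩ := s2 _ (sub_eq_zero.1 h)
  obtain ⟨k, hk, e1, -⟩ := U.exists_K i1 (c := a) fun e0 => m0 (by rw [← ha, e0, map_zero])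
  have := U.chi_inj hW C (mul_mem P.hΓ (inv_mem (hK hk))) (by
    rw [C.χ_mul P.hΓ (inv_mem (hK hk)), C.χ_inv (hK hk), e1, ha, mul_inv_cancel₀ m0])
  rw [mul_inv_eq_one] at this
  exact P.w1 ((eq_bot_iff_forall _).1 U.KV w ⟨this ▸ hk, U.WV P.hw⟩)

include U C hK hW s1 s2 s3 i1 in
theorem exists_norm (P : GP H Q Γ t ω w) (i2 : ι (e₀ (ω * ω)) = χ w + (χ w)⁻¹) :
    ∃ c, c ≠ 0 ∧ ∀ x ∈ Q, ι (e₀ (x * x)) = σ (c * e x) * (c * e x) := by
  have h := U.hg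
  have m1 := U.mu_norm C hK hW s1 s2 i1 P i2
  have dZ := fun {x y} (hx : x ∈ Q) (hy : y ∈ Q) => Sq_le_iff.2 U.sq (dl_mem_Sq hx hy)
  obtain ⟨B, hB⟩ := C.lift2 C.toLin (f := fun x y => e₀ (x * y * x⁻¹ * y⁻¹)) (fun y hy x hx x' hx' => by
      rw [dl_mul_left, h.cjZ (dZ hx' hy) hx, h.crd.add _ (dZ hx' hy) _ (dZ hx hy), add_comm])
    (fun x hx y hy y' hy' => by rw [dl_mul_right, h.cjZ (dZ hx hy') hy, h.crd.add _ (dZ hx hy) _ (dZ hx hy')])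
    (fun y hy x hx => by rw [dl_of_comm (h.comm hx hy).symm, h.crd.one])
    (fun x hx y hy => by rw [dl_of_comm (h.comm hy hx), h.crd.one])
  have pol : ∀ x ∈ Q, ∀ y ∈ Q, e₀ (x * y * (x * y)) = e₀ (x * x) + B (e x) (e y) + e₀ (y * y) := fun x hx y hy => by
    rw [show x * y * (x * y) = x * x * (x⁻¹ * y * x⁻¹⁻¹ * y⁻¹) * (y * y) by group,
      h.crd.add _ (mul_mem (U.sq x hx) (dZ (inv_mem hx) hy)) _ (U.sq y hy), h.crd.add _ (U.sq x hx) _ (dZ (inv_mem hx) hy),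
      ← hB _ (inv_mem hx) y hy, C.inv hx, CharTwo.neg_eq]
  choose p p1 p2 using C.surj
  have wd : ∀ x ∈ Q, e₀ (p (e x) * p (e x)) = e₀ (x * x) := fun x hx => by
    rw [← U.sq_mul hx ((C.eq_iff hx (p1 _)).1 (p2 _).symm), mul_inv_cancel_left]
  have key := quad_form s1 s2 s3 (α := e₀ (ω * ω)) (fun e0 => U.sq_ne P.hω P.hn (U.e_zero (U.sq ω P.hω) e0)) m1
    (by rw [i2, eq_inv_of_mul_eq_one_left m1]) (S := fun a => e₀ (p a * p a)) (T := B) (fun a b => by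
      have := pol _ (p1 a) _ (p1 b)
      rwa [← wd _ (mul_mem (p1 a) (p1 b)), C.add _ (p1 a) _ (p1 b), p2, p2] at this) (fun c a => by
      by_cases c0 : c = 0
      · rw [c0, map_zero, zero_mul, zero_mul, zero_mul, Q0_sq ((C.ker _ (p1 0)).1 (p2 0)), h.crd.one]
      obtain ⟨k, hk, e1, e2⟩ := U.exists_K i1 c0
      have := wd _ (C.cjA (hK hk) (p1 a))
      rw [C.conj _ (hK hk) _ (p1 a), p2, e1] at this
      rw [this, ← e2, ← h.crd.conj k hk _ (U.sq _ (p1 a))]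
      congr 1; group) fun a => by
      have := wd _ (C.cjA P.hΓ (p1 a))
      rw [C.conj _ P.hΓ _ (p1 a), p2] at this
      rw [this, ← U.wz' P.hw (U.sq _ (p1 a))]
      congr 1; group
  refine ⟨ι ((fr F)⁻¹ (e₀ (p 1 * p 1))), (map_ne_zero ι).2 ((map_ne_zero _).2 fun e0 => U.sq_ne (p1 1)
    (fun h => one_ne_zero ((p2 1).symm.trans (C.zero h))) (U.e_zero (U.sq _ (p1 1)) e0)), fun x hx => ?_⟩
  rw [← wd x hx, key, map_mul, s1, mul_mul_mul_comm, ← map_mul ι, fr_symm_sq]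

variable (hN : ∀ x ∈ Q, ι (e₀ (x * x)) = σ (e x) * e x)

include U C hW s1 s2 s3 hN in
omit [Finite F] in
theorem exists_l {δ : E} (hδ : δ + σ δ = 1) : ∃ l : G → E, (∀ x ∈ Q, ∀ y ∈ Q, l (x * y) = l x + l y + σ (e x) * e y) ∧
    (∀ z ∈ Q0 Q, l z = ι (e₀ z)) ∧ (∀ x ∈ Q, l x + σ (l x) = σ (e x) * e x) ∧
    ∀ g ∈ Γ, ∀ x ∈ Q, l (g * x * g⁻¹) = σ (χ g) * χ g * l x := by
  have c := U.hg.crd
  have hD : Γ ≤ DD H t := hW.trans (sup_le U.KD U.WD)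
  choose τ hτ using fun a : E => s2 (a + σ a) (by rw [map_add, s3, add_comm])
  have c' : Crd Γ (Q0 Q) ⊥ e₀ fun g => e₀ (g * s * g⁻¹) := ⟨c.toLin, hD.trans (U.DH.trans U.nQ0), fun g hg z hz => by
    obtain ⟨k, hk, v, hv, rfl⟩ := (mem_sup_of_normalizer (U.WD.trans U.norm_K)).1 (hW hg)
    simp only [mul_inv_rev, ← mul_assoc]
    rw [mul_assoc k, mul_assoc k, U.wz' hv hz, mul_assoc k v, mul_assoc k (v * s), U.wz' hv U.s_mem_Q0, c.conj k hk z hz,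
      c.conj k hk s U.s_mem_Q0, U.es, mul_one]⟩
  have nχ : ∀ g ∈ Γ, ι (e₀ (g * s * g⁻¹)) = σ (χ g) * χ g := fun g hg => by
    obtain ⟨x, hx, e1⟩ := C.surj 1
    have h1 := hN _ (C.cjA hg hx)
    have h2 := hN x hx
    rw [e1, map_one, mul_one] at h2
    rwa [show g * x * g⁻¹ * (g * x * g⁻¹) = g * (x * x) * g⁻¹ by group, c'.conj g hg _ (U.sq x hx), map_mul, h2, mul_one,
      C.conj g hg x hx, e1, mul_one] at h1
  obtain ⟨l, l1, l2, l3⟩ := exists_ell C.toLin c' (Q0_le_cent Q) C.nA (U.odd.of_dvd_nat (card_dvd_of_le hD))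
    (AddMonoidHom.mk' (fun a => AddMonoidHom.mk' (fun b => τ (δ * (σ a * b))) fun b b' => ι.injective (by
      simp only [map_add, hτ, mul_add]; ring)) fun a a' => AddMonoidHom.ext fun b => ι.injective (by
      simp only [AddMonoidHom.mk'_apply, AddMonoidHom.add_apply, map_add, hτ, mul_add, add_mul]; ring))
    U.sq (fun x hx => ι.injective (by
      simp only [AddMonoidHom.mk'_apply, hτ, hN x hx, map_mul, s3]
      linear_combination (-σ (e x) * e x) * hδ)) fun g hg x hx y hy => ι.injective (by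
      simp only [AddMonoidHom.mk'_apply, hτ, map_mul, s3, C.conj g hg x hx, C.conj g hg y hy, nχ g hg]; ring)
  refine ⟨fun x => ι (l x) + σ δ * (σ (e x) * e x), fun x hx y hy => ?_, fun z hz => by simp only [l2 z hz, C.zero hz]; simp,
    fun x hx => ?_, fun g hg x hx => ?_⟩
  · simp only [l1 x hx y hy, C.add x hx y hy, map_add, AddMonoidHom.mk'_apply, hτ, map_mul, s3]
    linear_combination (norm := (ring_nf; reduce_mod_char!)) σ (e x) * e y * hδ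
  · simp only [map_add, map_mul, s1, s3]
    linear_combination (norm := (ring_nf; reduce_mod_char!)) σ (e x) * e x * hδ
  · simp only [l3 g hg x hx, C.conj g hg x hx, map_mul, nχ g hg]; ring

section L

variable {l : G → E} (l1 : ∀ x ∈ Q, ∀ y ∈ Q, l (x * y) = l x + l y + σ (e x) * e y) (l2 : ∀ z ∈ Q0 Q, l z = ι (e₀ z))
  (l3 : ∀ g ∈ Γ, ∀ x ∈ Q, l (g * x * g⁻¹) = σ (χ g) * χ g * l x)

include U l3 in
omit [Finite F] [CharP F 2] [CharP E 2] in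
theorem l_W (P : GP H Q Γ t ω w) (m1 : σ (χ w) * χ w = 1) {x : G} (hx : x ∈ Q) : l (w⁻¹ * x * w) = l x := by
  have := l3 w P.hΓ _ (U.conjQ' (U.DH (U.WD P.hw)) hx)
  rw [m1, one_mul] at this
  rw [← this]; congr 1; group

include U C hK s1 s3 i1 hN l1 l2 l3 in
theorem star_l (P : GP H Q Γ t ω w) (m1 : σ (χ w) * χ w = 1) (i2 : ι (e₀ (ω * ω)) = χ w + (χ w)⁻¹) {a u : G}
    (ha : a ∈ KK H t) (hu : u ∈ Q) (h : Pt H t (ω⁻¹ * (a * s * a⁻¹)) t u) :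
    (ι (ζ a) * ι (ζ a) + 1) * l u * (ι (ζ a) + χ w) = (ι (ζ a) + l ω⁻¹) * (ι (ζ a) + χ w) + (χ w * χ w + 1) := by
  have m0 := C.χ_ne P.hΓ
  have wH := U.DH (U.WD P.hw)
  have c := U.hg.crd
  have hz := c.cjA ha U.s_mem_Q0
  have m := U.conjQ' wH hu
  have aa := mul_mem ha ha
  have h1 := congrArg σ (U.star_e C hK P (ν := ι) (map_zero ι) i1 hz hu h)
  have h2 := congrArg l (U.star P ha hu h)
  have h3 := hN ω P.hω
  have m2 := eq_inv_of_mul_eq_one_left m1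
  rw [c.conj a ha s U.s_mem_Q0, U.es, mul_one, ← m2, map_mul, map_add, s1, s3] at h1
  rw [l1 _ (C.cjA (hK aa) m) _ (C.le hz), C.zero hz, l2 _ hz, l3 _ (hK aa) _ m, sig_K s1 i1 aa, C.χ_mul (hK ha) (hK ha),
    ← i1 a ha, l1 _ (U.conjQ' wH m) _ (U.conjQ' wH (inv_mem P.hω)), U.l_W l3 P m1 m, U.l_W l3 P m1 hu,
    U.l_W l3 P m1 (inv_mem P.hω), C.conj' P.hΓ m, C.conj' P.hΓ hu, C.conj' P.hΓ (inv_mem P.hω), C.inv P.hω,
    c.conj a ha s U.s_mem_Q0, U.es, mul_one, CharTwo.neg_eq, ← m2, map_mul, map_mul, s3] at h2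
  rw [i2, ← m2] at h3
  linear_combination (norm := (ring_nf; reduce_mod_char!)) (ι (ζ a) + χ w) * h2 + χ w * χ w * σ (χ w) * e ω * h1 +
    χ w * h3 + (χ w * σ (e ω) * e ω + 1) * m1

include U C hK hW s1 s3 i1 hN l1 l2 l3 in
theorem l_omega (P : GP H Q Γ t ω w) (m1 : σ (χ w) * χ w = 1) (i2 : ι (e₀ (ω * ω)) = χ w + (χ w)⁻¹) : l ω⁻¹ = χ w := by
  obtain ⟨u, hu, h⟩ := U.exists_f (mul_mem (inv_mem P.hω) U.sQ) fun e1 => P.hn (inv_mul_eq_one.1 e1 ▸ U.s_mem_Q0)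
  have := U.star_l C hK s1 s3 i1 hN l1 l2 l3 P m1 i2 (one_mem _) hu (by simpa using h)
  rw [U.hg.crd.χ_one, map_one] at this
  apply mul_left_cancel₀ (a := χ w + 1) fun e0 => P.w1 (U.chi_inj hW C P.hΓ (by
    linear_combination (norm := (ring_nf; reduce_mod_char!)) e0))
  linear_combination (norm := (ring_nf; reduce_mod_char!)) this

end L

omit [Finite G] in
/-- the expected formula for the action of `t` at the point `x` -/
def _root_.CfsgSuz.Gd (H Q : Subgroup G) (t : G) (σ : E ≃+* E) (e l : G → E) (x : G) : Prop :=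
  ∀ y ∈ Q, Pt H t x t y → e y * σ (l x) = e x ∧ l y * l x = 1

include U C hK hW s1 s2 s3 i1 hN in
theorem ut (P : GP H Q Γ t ω w) (i2 : ι (e₀ (ω * ω)) = χ w + (χ w)⁻¹) : ∃ l, UT H Q t σ e l := by
  have c := U.hg.crd
  have m0 := C.χ_ne P.hΓ
  have m1 := U.mu_norm C hK hW s1 s2 i1 P i2
  have m2 := eq_inv_of_mul_eq_one_left m1
  have a0 : ι (e₀ (ω * ω)) ≠ 0 := (map_ne_zero ι).2 fun e0 => U.sq_ne P.hω P.hn (U.e_zero (U.sq ω P.hω) e0)
  obtain ⟨l, l1, l2, ln, l3⟩ := U.exists_l C hW s1 s2 s3 hN (δ := χ w / ι (e₀ (ω * ω))) (by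
    rw [map_div₀, s1, ← add_div, m2, ← i2, div_self a0])
  have lZ : ∀ x ∈ Q, ∀ z ∈ Q0 Q, e (x * z) = e x ∧ l (x * z) = l x + ι (e₀ z) := fun x hx z hz => by
    rw [C.add x hx z (C.le hz), l1 x hx z (C.le hz), C.zero hz, l2 z hz]; simp
  have ea : ∀ a ∈ KK H t, e₀ (a * s * a⁻¹) = ζ a := fun a ha => by rw [c.conj a ha s U.s_mem_Q0, U.es, mul_one]
  have ea' : ∀ a ∈ KK H t, ι (ζ a) * ι (e₀ (a⁻¹ * s * a)) = 1 := fun a ha => by
    rw [c.conj' ha U.s_mem_Q0, U.es, mul_one, ← map_mul, mul_inv_cancel₀ (c.χ_ne ha), map_one]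
  have lK : ∀ a ∈ KK H t, ∀ x ∈ Q, l (a * x * a⁻¹) = χ a * χ a * l x := fun a ha x hx => by
    rw [l3 a (hK ha) x hx, sig_K s1 i1 ha]
  have gK : ∀ k ∈ KK H t, ∀ x ∈ Q, Gd H Q t σ e l x → Gd H Q t σ e l (k * x * k⁻¹) := fun k hk x hx g y hy h => by
    have := U.pt_K (inv_mem hk) h
    simp only [inv_inv, mul_assoc, inv_mul_cancel_left, inv_mul_cancel, mul_one] at this
    obtain ⟨g1, g2⟩ := g _ (C.cjA (hK hk) hy) (by simpa only [mul_assoc] using this)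
    rw [C.conj k (hK hk) y hy] at g1
    rw [lK k hk y hy] at g2
    rw [lK k hk x hx, C.conj k (hK hk) x hx, map_mul, map_mul, sig_K s1 i1 hk]
    exact ⟨by linear_combination χ k * g1, by linear_combination g2⟩
  have gf : ∀ x ∈ Q, ∀ y ∈ Q, Pt H t x t y → Gd H Q t σ e l x → Gd H Q t σ e l y := fun x hx y hy h g u hu h' => by
    obtain ⟨g1, g2⟩ := g y hy h
    have g3 := congrArg σ g2
    rw [map_mul, map_one] at g3
    rw [U.pt_uniq hu hx h' (U.pt_symm h)]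
    exact ⟨by linear_combination (-σ (l y)) * g1 + e y * g3, by linear_combination g2⟩
  have gZ : ∀ x ∈ Q, ∀ y ∈ Q, y ∉ Q0 Q → Pt H t x t y → (∀ z ∈ Q0 Q, Gd H Q t σ e l (y * z)) → ∀ z ∈ Q0 Q,
      Gd H Q t σ e l (x * z) := fun x hx y hy yn h g z hz => by
    have g0 := gf y hy x hx (U.pt_symm h) (by simpa using g 1 (one_mem _))
    by_cases z1 : z = 1
    · rwa [z1, mul_one]
    obtain ⟨a, ha, rfl⟩ := U.Z_form hz z1
    have hz' := c.cjA ha U.s_mem_Q0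
    have aa := mul_mem ha ha
    obtain ⟨u, hu, h1⟩ := U.exists_f (mul_mem hy (C.le hz')) fun e1 => U.mul_not yn hz' (e1 ▸ one_mem _)
    intro v hv h2
    obtain ⟨g1, g2⟩ := g0 y hy h
    obtain ⟨g3, g4⟩ := g _ hz' u hu h1
    have g5 := congrArg σ g2
    rw [map_mul, map_one] at g5
    rw [(lZ y hy _ hz').2, ea a ha] at g3 g4
    rw [(lZ y hy _ hz').1, map_add, s1] at g3
    have := ea' a ha
    rw [U.pt_uniq hv (mul_mem (C.cjA (hK aa) hu) (C.le hz')) h2 (U.f_Z ha h h1), (lZ x hx _ hz).1, (lZ x hx _ hz).2,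
      (lZ _ (C.cjA (hK aa) hu) _ hz').1, (lZ _ (C.cjA (hK aa) hu) _ hz').2, ea a ha, lK _ aa u hu, C.conj _ (hK aa) u hu,
      C.χ_mul (hK ha) (hK ha), ← i1 a ha, map_add, s1]
    exact ⟨by linear_combination g1 + σ (l x) * g3 + e u * this - e u * g5, by
      linear_combination (norm := (ring_nf; reduce_mod_char!)) ι (ζ a) * l x * g4 + ι (ζ a) * l u * g2 +
        (ι (ζ a) * l u + 1) * this⟩
  have P' := U.GP_inv P
  have m1' : σ (χ w⁻¹) * χ w⁻¹ = 1 := by rw [C.χ_inv P.hΓ, map_inv₀, ← mul_inv, m1, inv_one]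
  have i2' : ι (e₀ (ω⁻¹ * ω⁻¹)) = χ w⁻¹ + (χ w⁻¹)⁻¹ := by
    rw [← mul_inv_rev, inv_of_sq (Q0_sq (U.sq ω P.hω)), i2, C.χ_inv P.hΓ, inv_inv, add_comm]
  have g1 : ∀ {ω w}, GP H Q Γ t ω w → σ (χ w) * χ w = 1 → ι (e₀ (ω * ω)) = χ w + (χ w)⁻¹ → l ω * χ w = 1 →
      ∀ z ∈ Q0 Q, z ≠ s → Gd H Q t σ e l (ω⁻¹ * z) := fun {ω w} P m1 i2 m3 z hz zs u hu h => by
    have lo := U.l_omega C hK hW s1 s3 i1 hN l1 l2 l3 P m1 i2
    have h1 := U.star_e C hK P (ν := ι) (map_zero ι) i1 hz hu h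
    rw [(lZ _ (inv_mem P.hω) z hz).1, (lZ _ (inv_mem P.hω) z hz).2, lo, map_add, s1, eq_inv_of_mul_eq_one_left m1,
      C.inv P.hω, CharTwo.neg_eq, add_comm]
    refine ⟨h1, ?_⟩
    by_cases z1 : z = 1
    · have := U.GP_pt (U.GP_inv P)
      rw [inv_inv, inv_inv] at this
      rw [z1, mul_one] at h
      rw [U.pt_uniq hu (C.cjA P.hΓ P.hω) h this, z1, c.one, map_zero, add_zero, l3 _ P.hΓ _ P.hω, m1, one_mul, m3]
    obtain ⟨a, ha, rfl⟩ := U.Z_form hz z1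
    replace ha := inv_mem ha
    rw [← inv_inv a] at hz h zs ⊢
    generalize a⁻¹ = a at ha hz h zs ⊢
    rw [inv_inv] at hz h zs ⊢
    have := U.star_l C hK s1 s3 i1 hN l1 l2 l3 P m1 i2 ha hu h
    rw [lo] at this
    rw [ea a ha]
    apply mul_left_cancel₀ (a := ι (ζ a) * ι (ζ a) + 1) fun e0 => zs (U.e_inj hz U.s_mem_Q0 (ι.injective (by
      rw [ea a ha, U.es, map_one]
      have : (ι (ζ a) - 1) * (ι (ζ a) - 1) = 0 := by linear_combination (norm := (ring_nf; reduce_mod_char!)) e0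
      exact sub_eq_zero.1 (mul_self_eq_zero.1 this))))
    linear_combination (norm := (ring_nf; reduce_mod_char!)) this
  have g2 : ∀ z ∈ Q0 Q, Gd H Q t σ e l (ω * z) := fun z hz => by
    have lo := U.l_omega C hK hW s1 s3 i1 hN l1 l2 l3 P m1 i2
    have lo' := U.l_omega C hK hW s1 s3 i1 hN l1 l2 l3 P' m1' i2'
    rw [inv_inv, C.χ_inv P.hΓ] at lo'
    by_cases zs : z = s
    · have := g1 P m1 i2 (by rw [lo', inv_mul_cancel₀ m0]) _ (mul_mem (U.sq ω P.hω) hz) fun e1 =>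
        U.sq_ne P.hω P.hn (mul_eq_right.1 (zs ▸ e1))
      rwa [← mul_assoc, inv_mul_cancel_left] at this
    · simpa only [inv_inv] using g1 P' m1' i2' (by rw [lo, C.χ_inv P.hΓ, mul_inv_cancel₀ m0]) z hz zs
  have g3 : ∀ k ∈ KK H t, ∀ z ∈ Q0 Q, ∀ z' ∈ Q0 Q, Gd H Q t σ e l (k⁻¹ * (ω * z) * k * z') := fun k hk z hz z' hz' => by
    have := gK _ (inv_mem hk) _ (mul_mem P.hω (C.le (mul_mem hz (c.cjA hk hz')))) (g2 _ (mul_mem hz (c.cjA hk hz')))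
    simpa only [inv_inv, mul_assoc, inv_mul_cancel, mul_one, inv_mul_cancel_left] using this
  refine ⟨l, C.add, l1, fun x hx y hy e1 e2 => ?_, ln, fun a b h => ?_, fun x hx => ?_⟩
  · have hz := (C.eq_iff hx hy).1 e1
    have := (lZ x hx _ hz).2
    rw [mul_inv_cancel_left, e2, left_eq_add, map_eq_zero] at this
    exact inv_mul_eq_one.1 (U.e_zero hz this)
  · obtain ⟨x, hx, rfl⟩ := C.surj a
    obtain ⟨d, hd⟩ := s2 (b + l x) (by
      rw [map_add]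
      linear_combination (norm := (ring_nf; reduce_mod_char!)) h + ln x hx)
    obtain ⟨z, hz, rfl⟩ := c.surj d
    exact ⟨_, mul_mem hx (C.le hz), (lZ x hx z hz).1, by
      rw [(lZ x hx z hz).2, hd]; linear_combination (norm := (ring_nf; reduce_mod_char!))⟩
  by_cases hn : x ∈ Q0 Q
  · intro y hy h
    obtain ⟨a, ha, rfl⟩ := U.Z_form hn (U.f_ne_one hy h)
    have hz' := c.cjA ha U.s_mem_Q0
    rw [U.pt_uniq hy (C.le hz') h (U.pt_of_eq (mul_mem (U.QH (C.le hz')) (U.DH (U.KD (mul_mem ha ha)))) (U.tz' ha)),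
      C.zero hn, C.zero hz', zero_mul, l2 _ hn, l2 _ hz', ea a ha]
    exact ⟨rfl, ea' a ha⟩
  obtain ⟨g, hg, h⟩ := U.L0_trans U.cube P.hω P.hn hx hn
  have q1 := fun {z k} (hz : z ∈ Q0 Q) (hk : k ∈ KK H t) => U.conjQ' (U.DH (U.KD hk)) (mul_mem P.hω (C.le hz))
  have q2 := fun {z k} (hk : k ∈ KK H t) => U.pt_mul (U.pt_Q ω z) (U.pt_D (U.KD hk) _)
  rcases U.L0_cases hg with ⟨z, hz, k, hk, rfl⟩ | ⟨z₁, h1, k, hk, z₂, h2, rfl⟩
  · rw [U.pt_uniq hx (q1 hz hk) h (q2 hk)]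
    have := g3 k hk z hz 1 (one_mem _)
    rwa [mul_one] at this
  · have := U.pt_mul (U.pt_mul (U.pt_inv (q2 (z := z₁) hk)) h) (U.pt_Q x z₂)
    rw [mul_assoc _ t, inv_mul_cancel_left, mul_assoc t, Q0_sq h2, mul_one] at this
    have := gZ _ (mul_mem hx (C.le h2)) _ (q1 h1 hk) (U.cj_not (U.DH (U.KD hk)) (U.mul_not P.hn h1)) (U.pt_symm this)
      (g3 k hk z₁ h1) z₂ h2
    rwa [mul_assoc, Q0_sq h2, mul_one] at this

include U in
theorem exists_UT [Finite E] {n : ℕ} (hn : q0 Q = 2 ^ n) (hE : Nat.card E = (2 ^ n) ^ 2) :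
    ∃ e l : G → E, UT H Q t (fr E ^ n) e l := by
  haveI := Fintype.ofFinite E
  haveI := Fintype.ofFinite F
  obtain ⟨A, hA, h0, hc, e, χ, C⟩ := U.exists_E E (hn ▸ hE)
  obtain ⟨⟨w, hw⟩, w1⟩ := ne_bot_iff_exists_ne_one.1 h0
  replace w1 : w ≠ 1 := fun e => w1 (Subtype.ext e)
  obtain ⟨ω, h1, h2, h3⟩ := U.exists_omega (hA hw) w1 fun v hv => mem_cent1.2 (hc hv w hw)
  have P : GP H Q (KK H t ⊔ A) t ω w := ⟨h1, h2, hA hw, mem_sup_right hw, w1, h3⟩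
  obtain ⟨ι, i1, i2⟩ := U.exists_iota C le_sup_left P
  have hF := U.card_F.trans hn
  have s1 : ∀ a, (fr E ^ n) (ι a) = ι a := fun a => by
    rw [fr_pow, ← map_pow, ← hF, Nat.card_eq_fintype_card, FiniteField.pow_card]
  have s2 : ∀ c, (fr E ^ n) c = c → ∃ a, ι a = c := fun c h => mem_range_of_pow ι (by rwa [hF, ← fr_pow])
  have s3 : ∀ c, (fr E ^ n) ((fr E ^ n) c) = c := fun c => by
    rw [fr_pow, fr_pow, ← pow_mul, ← pow_two, ← hE, Nat.card_eq_fintype_card, FiniteField.pow_card]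
  obtain ⟨c, c0, hN⟩ := U.exists_norm C le_sup_left (sup_le_sup_left hA _) s1 s2 s3 i1 P i2
  exact ⟨_, U.ut (C.smul c0) le_sup_left (sup_le_sup_left hA _) s1 s2 s3 i1 hN P i2⟩

end UC

theorem UT.iso [Finite G] [IsSimpleGroup G] {G' : Type*} [Group G'] [Finite G'] [IsSimpleGroup G'] {H Q : Subgroup G}
    {t s r : G} {H' Q' : Subgroup G'} {t' s' r' : G'} (R : RK ⊤ H Q t s r) (R' : RK ⊤ H' Q' t' s' r') {E : Type*} [Field E]
    {σ : E ≃+* E} {e l : G → E} {e' l' : G' → E} (T : UT H Q t σ e l) (T' : UT H' Q' t' σ e' l') : Nonempty (G ≃* G') := by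
  choose! p h1 h2 h3 using T'.surj
  have n := fun x : Q => T.norm x x.2
  let f : Q →* Q' := MonoidHom.mk' (fun x => ⟨p (e x) (l x), h1 _ _ (n x)⟩) fun x y => Subtype.ext
    (T'.ext _ (h1 _ _ (n _)) _ (mul_mem (h1 _ _ (n _)) (h1 _ _ (n _))) (by
      rw [coe_mul Q', T'.add _ (h1 _ _ (n _)) _ (h1 _ _ (n _)), h2 _ _ (n _), h2 _ _ (n _), h2 _ _ (n _), coe_mul, T.add _ x.2 _ y.2]) (by
      rw [coe_mul Q', T'.ladd _ (h1 _ _ (n _)) _ (h1 _ _ (n _)), h2 _ _ (n _), h2 _ _ (n _), h3 _ _ (n _), h3 _ _ (n _), h3 _ _ (n _),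
        coe_mul, T.ladd _ x.2 _ y.2]))
  have hf : ∀ x : Q, e' (f x) = e x ∧ l' (f x) = l x := fun x => ⟨h2 _ _ (n x), h3 _ _ (n x)⟩
  have fi : Function.Injective f := fun x y h => Subtype.ext (T.ext _ x.2 _ y.2 (by rw [← (hf x).1, h, (hf y).1])
    (by rw [← (hf x).2, h, (hf y).2]))
  refine iso_of_pt R R' (MulEquiv.ofBijective f ⟨fi, fun y => ?_⟩) fun x y h => ?_
  · obtain ⟨x, hx, a, b⟩ := T.surj (e' y) (l' y) (T'.norm y y.2)
    exact ⟨⟨x, hx⟩, Subtype.ext (T'.ext _ (f _).2 _ y.2 ((hf _).1.trans a) ((hf _).2.trans b))⟩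
  · obtain ⟨u, hu, h'⟩ := R'.exists_f (f x).2 fun e1 => R.f_ne_one y.2 h (congrArg Subtype.val
      (fi (a₁ := x) (a₂ := 1) (Subtype.ext (by rw [e1, map_one]; rfl))))
    obtain ⟨a1, a2⟩ := T.pt x x.2 y y.2 h
    obtain ⟨b1, b2⟩ := T'.pt _ (f x).2 u hu h'
    rw [(hf x).1, (hf x).2] at b1
    rw [(hf x).2] at b2
    have l0 : l x ≠ 0 := right_ne_zero_of_mul_eq_one a2
    have := T'.ext u hu _ (f y).2 (by rw [(hf y).1]; exact mul_right_cancel₀ ((map_ne_zero σ).2 l0) (b1.trans a1.symm))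
      (by rw [(hf y).2]; exact mul_right_cancel₀ l0 (b2.trans a2.symm))
    exact this ▸ h'

theorem RK.exists_UT [Finite G] [IsSimpleGroup G] {H Q : Subgroup G} {t s : G} (R : RK ⊤ H Q t s s) (big : 2 < q0 Q)
    (hc : Nat.card Q = q0 Q ^ 3) {n : ℕ} (hn : q0 Q = 2 ^ n) (E : Type*) [Field E] [Finite E] [CharP E 2]
    (hE : Nat.card E = (2 ^ n) ^ 2) : ∃ e l : G → E, UT H Q t (fr E ^ n) e l := by
  obtain ⟨pg, h2⟩ := R.concl big
  have hna : ¬ Q ≤ C(Q) := h2.elim (fun e => by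
    rw [e] at hc; exact absurd (Nat.pow_right_injective (by omega) ((pow_one _).trans hc)) (by decide)) (·.1)
  obtain ⟨F, _, _, _, hF⟩ := exists_field_two ⟨_, hn⟩ (by omega)
  obtain ⟨u, hu, u1, u2, us⟩ := R.exists_ne_of_big big
  obtain ⟨e₀, ζ, h, es⟩ := R.exists_HG hu u1 u2 us F (hF.trans R.q0_eq)
  rw [Opi_eq_self (isPi_singleton_iff.2 pg)] at h
  exact UC.exists_UT ⟨R, h, es, hc, (R.two_cases big pg hna).1, R.faith, R.gen_top⟩ hn hE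

theorem psu_model {E : Type} [Field E] [Fintype E] [CharP E 2] {n : ℕ} (hn : 2 < 2 ^ n) (hE : Fintype.card E = (2 ^ n) ^ 2) :
    ∃ (H Q : Subgroup (PSU 3 E (2 ^ n))) (t s : PSU 3 E (2 ^ n)), RK ⊤ H Q t s s ∧ q0 Q = 2 ^ n ∧
      Nat.card Q = q0 Q ^ 3 := by
  obtain ⟨Ω, _, _, a, t, Q, S, -, ⟨φ⟩, c, -, -⟩ := CfsgH5.psu3_setup hE
  haveI : Finite (PSU 3 E (2 ^ n)) := inferInstance
  obtain ⟨s, r, R⟩ := (rk0_of_setup S).exists_RK
  have q : q0 Q = 2 ^ n := by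
    exact (Nat.card_congr (φ.symm.toEquiv.subtypeEquiv fun x => by
      rw [CfsgH5.UH.mem_center_iff (CfsgH5.frobQ_ne hE), ← CfsgH5.UH.mul_self_eq_one CharTwo.two_eq_zero,
        MulEquiv.toEquiv_eq_coe, EquivLike.coe_coe, ← map_mul, map_eq_one_iff _ φ.symm.injective])).trans
      (CfsgH5.card_center_UH hE)
  replace c := c.trans (congrArg (· ^ 3) q.symm)
  replace hn := hn.trans_eq q.symm
  obtain rfl : r = s := by
    rcases (R.concl hn).2 with h | ⟨-, h | h⟩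
    · exact R.r_eq_of_card h
    · exact absurd (Nat.pow_right_injective (by omega) (h.1.symm.trans c)) (by decide)
    · exact h.2
  exact ⟨_, Q, t, r, R, q, c⟩

theorem RK.psu [Finite G] [IsSimpleGroup G] {H Q : Subgroup G} {t s : G} (R : RK ⊤ H Q t s s) (big : 2 < q0 Q)
    (hc : Nat.card Q = q0 Q ^ 3) : ∃ (F : Type) (_ : Field F) (_ : Fintype F) (n : ℕ), 2 ≤ n ∧ q0 Q = 2 ^ n ∧
      Fintype.card F = (2 ^ n) ^ 2 ∧ Nonempty (G ≃* PSU 3 F (2 ^ n)) := by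
  obtain ⟨n, hn⟩ := R.q0_pow
  obtain ⟨E, _, _, _, hE⟩ := exists_field_two (m := (2 ^ n) ^ 2) ⟨_, (pow_mul 2 n 2).symm⟩ (by nlinarith)
  have hE' := Nat.card_eq_fintype_card.symm.trans hE
  obtain ⟨H', Q', t', s', R', q', c'⟩ := psu_model (hn ▸ big) hE'
  haveI := CfsgH5.isSimple_PSU hE' le_rfl fun h => by omega
  obtain ⟨e, l, T⟩ := R.exists_UT big hc hn E hE
  obtain ⟨e', l', T'⟩ := R'.exists_UT (by omega) c' q' E hE
  exact ⟨E, _, _, n, (Nat.pow_le_pow_iff_right one_lt_two).1 (hn ▸ R.four_le big), hn, hE', T.iso R R' T'⟩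

/-- the conclusion of Suzuki's theorem -/
def IsBender (G : Type*) [Group G] : Prop :=
  (∃ (F : Type) (_ : Field F) (_ : Fintype F), (∃ n : ℕ, 2 ≤ n ∧ Fintype.card F = 2 ^ n) ∧
    Nonempty (G ≃* Matrix.ProjectiveSpecialLinearGroup (Fin 2) F)) ∨ Lie.IsoSuzuki G ∨
  (∃ (F : Type) (_ : Field F) (_ : Fintype F) (n : ℕ), 2 ≤ n ∧ Fintype.card F = (2 ^ n) ^ 2 ∧
    Nonempty (G ≃* PSU 3 F (2 ^ n)))

/-- Suzuki's theorem for simple groups -/
theorem RK.ident [Finite G] [IsSimpleGroup G] {H Q : Subgroup G} {t s r : G} (R : RK ⊤ H Q t s r) (big : 2 < q0 Q) :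
    IsBender G := by
  obtain ⟨pg, h | ⟨hna, h | ⟨h, rfl⟩⟩⟩ := R.concl big
  · obtain ⟨n, hn⟩ := R.q0_pow
    obtain ⟨F, _, _, _, hF⟩ := exists_field_two ⟨_, hn⟩ (by omega)
    exact Or.inl ⟨F, _, _, ⟨n, (Nat.pow_le_pow_iff_right one_lt_two).1 (hn ▸ R.four_le big),
      Nat.card_eq_fintype_card.symm.trans (hF.trans hn)⟩, R.psl big h F hF⟩
  · exact Or.inr (Or.inl (R.isoSuzuki big pg hna h.1 h.2))
  · obtain ⟨F, _, _, n, h1, -, h2⟩ := R.psu big h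
    exact Or.inr (Or.inr ⟨F, _, _, n, h1, h2⟩)

theorem RK.gen_simple [Finite G] {L H Q : Subgroup G} {t s r : G} (R : RK L H Q t s r) (big : 2 < q0 Q)
    (hf : DD H t ⊓ C(Q) = ⊥) : ∃ H' : Subgroup ↥(Q ⊔ zpowers t), IsSimpleGroup ↥(Q ⊔ zpowers t) ∧
      RK ⊤ H' (Q.subgroupOf _) ⟨t, mem_sup_right (mem_zpowers t)⟩ ⟨s, mem_sup_left R.sQ⟩ ⟨r, mem_sup_left R.rQ⟩ ∧
      2 < q0 (Q.subgroupOf (Q ⊔ zpowers t)) := by
  have hL : Q ⊔ zpowers t ≤ L := sup_le R.QL (zpowers_le.2 R.tL)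
  have R1 : RK (Q ⊔ zpowers t) (H ⊓ (Q ⊔ zpowers t)) Q t s r :=
    ⟨R.inf_sub hL le_sup_left (mem_sup_right (mem_zpowers t)), R.sQ, R.s1, R.ss, R.rQ, R.eqn⟩
  have R2 := R1.map (MonoidHom.id _) Function.surjective_id (by simp)
  simp only [map_id, MonoidHom.id_apply] at R2
  refine ⟨_, ?_, R2, q0_congr (subgroupOfEquivOfLe (le_sup_left : Q ≤ Q ⊔ zpowers t)) ▸ big⟩
  haveI : Nontrivial ↥(Q ⊔ zpowers t) := ⟨_, _, R2.t1⟩
  refine ⟨fun N hN => or_iff_not_imp_left.2 fun h0 => ?_⟩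
  obtain ⟨h1, h2⟩ := R1.normal_cases big (eq_bot_iff.2 (hf ▸ inf_le_inf_right _ fun x hx =>
    R.mem_D.2 ⟨(R1.mem_D.1 hx).1.1, (R1.mem_D.1 hx).2.1⟩)) (map_subtype_le N) (fun g hg => mem_normalizer_of_conj_mem (by
      rintro _ ⟨x, hx, rfl⟩
      exact ⟨_, hN.conj_mem x hx ⟨g, hg⟩, rfl⟩)) fun e => h0 ((map_eq_bot_iff_of_injective _ (subtype_injective _)).1 e)
  exact map_injective (subtype_injective _) (le_antisymm (map_mono le_top) ((map_subtype_le _).trans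
    (sup_le h1 (zpowers_le.2 h2))))

/-- Suzuki's theorem -/
theorem RK.bender [Finite G] {L H Q : Subgroup G} {t s r : G} (R : RK L H Q t s r) (big : 2 < q0 Q)
    (hf : DD H t ⊓ C(Q) = ⊥) : IsSimpleGroup ↥(Q ⊔ zpowers t) ∧ IsBender ↥(Q ⊔ zpowers t) := by
  obtain ⟨H', _, R', big'⟩ := R.gen_simple big hf
  exact ⟨‹_›, R'.ident big'⟩

theorem RK.odd_gen [Finite G] {L H Q : Subgroup G} {t s r : G} (R : RK L H Q t s r) :
    Odd ((Q ⊔ zpowers t).relIndex L) := by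
  refine Odd.of_dvd_nat ?_ (relIndex_dvd_of_le_left L (le_sup_left : Q ≤ _))
  rw [← relIndex_mul_relIndex Q H L R.QH R.HL, R.relIndex_Q, R.relIndex_H]
  exact R.odd.mul R.even.add_one

theorem isSuzuki_of_iso [IsSimpleGroup G] (h : Lie.IsoSuzuki G) : IsSuzuki G := by
  obtain ⟨F, _, _, m, hm, hF, ⟨e⟩⟩ := h
  haveI : CharP F 2 := charP_of_card_eq_prime_pow hF
  obtain ⟨_, ⟨S⟩⟩ := CfsgH7.SzM.lie_model hm hF
  refine ⟨‹_›, m, hm, ?_⟩
  rw [Nat.card_congr e.toEquiv, S.card_G, Nat.card_eq_fintype_card, hF]; ring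

end CfsgSuz
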