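import Cfsg.Agent.H3.Suz3

/-! The permutation form of the rank-one set-up: points and fixed points. -/

set_option autoImplicit false

namespace CfsgSuz

open Subgroup Cfsg CfsgH2 CfsgLead CfsgFT MulAction

variable {G : Type*} [Group G] [Finite G] {Ω : Type*} [MulAction G Ω] {a : Ω} {t : G} {Q : Subgroup G}
  (hS : IsRankOneSetup G Ω a t Q)
include hS

omit [Finite G] in
theorem setup_pre : IsPretransitive G Ω := ⟨fun x y => by
  have h : a ≠ t • a := fun e => hS.not_mem e.symm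
  have key : ∀ z : Ω, ∃ g : G, g • a = z := fun z => by
    by_cases e : z = a
    · exact ⟨1, by simp [e]⟩
    · obtain ⟨g, h1, -⟩ := CfsgH8.mt_two hS.two_transitive h e
      exact ⟨g, h1⟩
  obtain ⟨g, rfl⟩ := key x
  obtain ⟨k, rfl⟩ := key y
  exact ⟨k * g⁻¹, by simp [mul_smul]⟩⟩

theorem pt_form {b : Ω} (hb : b ≠ a) : ∃ y ∈ Q, y • t • a = b := by
  have R := rk0_of_setup hS
  obtain ⟨g, rfl⟩ := (setup_pre hS).1 a b
  obtain ⟨h, hh, y, hy, e⟩ := R.cover g⁻¹ (mem_top _) (fun h => hb (inv_mem_iff.1 h))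
  refine ⟨y⁻¹, inv_mem hy, ?_⟩
  rw [inv_eq_iff_eq_inv.1 e, mul_inv_rev, mul_inv_rev, R.ti, mul_smul, mul_smul,
    mem_stabilizer_iff.1 (inv_mem hh)]

theorem pt_uniq {y z : G} (hy : y ∈ Q) (hz : z ∈ Q) (e : y • t • a = z • t • a) : y = z := by
  have R := rk0_of_setup hS
  refine (inv_mul_eq_one.1 (R.disj _ (mul_mem (inv_mem hz) hy) ?_)).symm
  rw [mem_stabilizer_iff, mul_smul, mul_smul, mul_smul, e, inv_smul_smul, ← mul_smul, R.tt, one_smul]

theorem pt_ne {y : G} (hy : y ∈ Q) : y • t • a ≠ a := fun e => hS.not_mem (by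
  rw [smul_eq_iff_eq_inv_smul, mem_stabilizer_iff.1 (inv_mem (hS.le hy))] at e; exact e)

theorem pt_reg {b c : Ω} (hb : b ≠ a) (hc : c ≠ a) : ∃! x : Q, (x : G) • b = c := by
  obtain ⟨y, hy, rfl⟩ := pt_form hS hb
  obtain ⟨z, hz, rfl⟩ := pt_form hS hc
  refine ⟨⟨z * y⁻¹, mul_mem hz (inv_mem hy)⟩, by simp [mul_smul], fun x hx => Subtype.ext ?_⟩
  beta_reduce at hx
  rw [← mul_smul] at hx
  simp [← pt_uniq hS (mul_mem x.2 hy) hz hx]

theorem card_pts : Nat.card Ω = Nat.card Q + 1 := by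
  haveI := setup_pre hS
  rw [← (rk0_of_setup hS).relIndex_H, relIndex_top_right, index_stabilizer_of_transitive]

theorem pt_fix {x y : G} (hx : x ∈ stabilizer G a ⊓ stabilizer G (t • a)) (hy : y ∈ Q)
    (e : x • y • t • a = y • t • a) : x * y = y * x := by
  have R := rk0_of_setup hS
  have := R.cent_of_fix (x := x) (y := y⁻¹) (by rwa [DD_stab R.tt]) (inv_mem hy) (by
    rw [mem_stabilizer_iff, inv_inv, mul_smul, mul_smul, mul_smul, mul_smul, e, inv_smul_smul, ← mul_smul,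
      R.tt, one_smul])
  exact Commute.inv_right_iff.1 (show Commute x y⁻¹ from this)

theorem exists_cent_of_three {X : Set G} (hX : X ⊆ (stabilizer G a ⊓ stabilizer G (t • a) : Set G))
    (h3 : ∃ b c d : Ω, b ≠ c ∧ b ≠ d ∧ c ≠ d ∧ ∀ x ∈ X, x • b = b ∧ x • c = c ∧ x • d = d) :
    ∃ y ∈ Q, y ≠ 1 ∧ y ∈ centralizer X := by
  obtain ⟨b, hb1, hb2, hb⟩ : ∃ b, b ≠ a ∧ b ≠ t • a ∧ ∀ x ∈ X, x • b = b := by
    obtain ⟨b, c, d, h1, h2, h3, h⟩ := h3
    by_cases e1 : b ≠ a ∧ b ≠ t • a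
    · exact ⟨b, e1.1, e1.2, fun x hx => (h x hx).1⟩
    by_cases e2 : c ≠ a ∧ c ≠ t • a
    · exact ⟨c, e2.1, e2.2, fun x hx => (h x hx).2.1⟩
    refine ⟨d, ?_, ?_, fun x hx => (h x hx).2.2⟩ <;> grind
  obtain ⟨y, hy, rfl⟩ := pt_form hS hb1
  exact ⟨y, hy, fun e => hb2 (by simp [e]), mem_centS.2 fun x hx => pt_fix hS (hX hx) hy (hb x hx)⟩

end CfsgSuz
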