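import Cfsg.Agent.H3.Hig4
import Cfsg.Agent.H3.Suz4

/-! Split rank-one groups with at least two involutions in `Q`: field coordinates on `Q₀`. -/

set_option autoImplicit false

namespace CfsgSuz

open Subgroup Cfsg CfsgH2 CfsgLead CfsgFT
open scoped commutatorElement

variable {G : Type*} [Group G] [Finite G]

theorem suzuki_of {K P : Subgroup G} (pg : IsPGroup 2 P) (hna : ¬ P ≤ C(P)) (nP : K ≤ N(P)) (hK : IsCyclic K)
    (fpf : ∀ k ∈ K, k ≠ 1 → P ⊓ C1(k) = ⊥)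
    (two : ∃ x ∈ P, ∃ y ∈ P, x ≠ y ∧ x ≠ 1 ∧ x * x = 1 ∧ y ≠ 1 ∧ y * y = 1)
    (tr : ∀ x ∈ P, ∀ y ∈ P, x ≠ 1 → x * x = 1 → y ≠ 1 → y * y = 1 → ∃ k ∈ K, k * x * k⁻¹ = y) :
    IsSuzukiTwoGroup P := by
  refine ⟨inferInstance, pg, ?_, ?_, (CfsgH1.conjHom nP).range, isCyclic_of_surjective _ (CfsgH1.conjHom nP).rangeRestrict_surjective,
    fun x y x1 x2 y1 y2 => ?_⟩
  · by_contra hc
    push Not at hc
    exact hna fun a ha b hb => congrArg Subtype.val (hc ⟨b, hb⟩ ⟨a, ha⟩)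
  · obtain ⟨x, hx, y, hy, h1, h2, h3, h4, h5⟩ := two
    exact ⟨⟨x, hx⟩, ⟨y, hy⟩, by simpa using h1, by simpa using h2, Subtype.ext h3, by simpa using h4, Subtype.ext h5⟩
  · have x1' : (x : G) ≠ 1 := by simpa using x1
    obtain ⟨k, hk, e⟩ := tr x x.2 y y.2 x1' (congrArg Subtype.val x2) (by simpa using y1) (congrArg Subtype.val y2)
    refine ⟨⟨CfsgH1.conjHom nP ⟨k, hk⟩, _, rfl⟩, Subtype.ext e, ?_⟩
    rintro ⟨_, l, rfl⟩ hl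
    have e2 : (l : G) * x * (l : G)⁻¹ = y := congrArg Subtype.val hl
    have : k⁻¹ * l = 1 := by
      by_contra h1
      have h2 : (x : G) ∈ P ⊓ C1(k⁻¹ * l) := ⟨x.2, mem_centralizer_singleton_iff.2 (by
        calc (x : G) * (k⁻¹ * l) = k⁻¹ * (k * x * k⁻¹) * l := by group
          _ = k⁻¹ * (l * x * (l : G)⁻¹) * l := by rw [e, e2]
          _ = _ := by group)⟩
      rw [fpf _ (mul_mem (inv_mem hk) l.2) h1] at h2
      exact x1' h2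
    have e3 : l = ⟨k, hk⟩ := Subtype.ext (inv_mul_eq_one.1 this).symm
    simp [e3]

theorem HG.suzuki {F : Type*} [Field F] [Finite F] {K P Z : Subgroup G} {e₀ ζ : G → F} (h : HG K P Z e₀ ζ)
    (hK : IsCyclic K) (hna : ¬ P ≤ C(P)) : IsSuzukiTwoGroup P := by
  have inj : ∀ {x y}, x ∈ Z → y ∈ Z → e₀ x = e₀ y → x = y := fun hx hy e =>
    inv_mul_eq_one.1 (by simpa using (h.crd.eq_iff hx hy).1 e)
  refine suzuki_of h.pg hna h.nP hK h.fpf ?_ fun x hx y hy x1 x2 y1 y2 => ?_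
  · obtain ⟨a, a0, a1⟩ := exists_ne_01 h.big
    obtain ⟨x, hx, rfl⟩ := h.crd.surj a
    obtain ⟨y, hy, ey⟩ := h.crd.surj 1
    refine ⟨x, h.ZP hx, y, h.ZP hy, fun e => a1 (e ▸ ey), fun e => a0 (e ▸ h.crd.one), ((h.mem x).1 hx).2,
      fun e => one_ne_zero (ey.symm.trans (e ▸ h.crd.one)), ((h.mem y).1 hy).2⟩
  · have hx' := (h.mem x).2 ⟨hx, x2⟩
    have hy' := (h.mem y).2 ⟨hy, y2⟩
    have x0 : e₀ x ≠ 0 := fun e => x1 (by simpa using (h.crd.ker x hx').1 e)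
    have y0 : e₀ y ≠ 0 := fun e => y1 (by simpa using (h.crd.ker y hy').1 e)
    obtain ⟨k, hk, e⟩ := h.gen (e₀ y / e₀ x) (div_ne_zero y0 x0)
    exact ⟨k, hk, inj (h.crd.cjA hk hx') hy' (by rw [h.crd.conj k hk x hx', e, div_mul_cancel₀ _ x0])⟩

/-- rank-one group with field coordinates: `e₀ : Q₀ ≃ F`, `ζ : K ≃ F^×`, `ρ : V → Aut F`. -/
structure SZ {F : Type*} [Field F] (L H Q : Subgroup G) (t s r : G) (e₀ ζ : G → F) (ρ : G → F ≃+* F) : Prop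
    extends RK L H Q t s r where
  hg : HG (KK H t) (Opi {2} Q) (Q0 Q) e₀ ζ
  es : e₀ s = 1
  ρe : ∀ v ∈ VV H t, ∀ x ∈ Q0 Q, e₀ (v * x * v⁻¹) = ρ v (e₀ x)
  nil : Group.IsNilpotent Q

theorem RK.exists_SZ {L H Q : Subgroup G} {t s r : G} (R : RK L H Q t s r) {u : G} (hu : u ∈ H) (u1 : u ≠ 1)
    (u2 : u * u = 1) (us : u ≠ s) (F : Type*) [Field F] [Finite F] [CharP F 2] (hF : Nat.card F = Nat.card (Q0 Q)) :
    ∃ (e₀ ζ : G → F) (ρ : G → F ≃+* F), SZ L H Q t s r e₀ ζ ρ := by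
  classical
  obtain ⟨e₀, ζ, h, es⟩ := R.exists_HG hu u1 u2 us F hF
  have key : ∀ v, ∃ σ : F ≃+* F, v ∈ VV H t → ∀ x ∈ Q0 Q, e₀ (v * x * v⁻¹) = σ (e₀ x) := fun v => by
    by_cases hv : v ∈ VV H t
    · obtain ⟨c, σ, -, h1, -⟩ := h.crd.semilin h.gen (R.norm_K (R.VD hv)) (R.nQ0 (R.VH hv))
        (by rw [normalizer_eq_top]; trivial)
      have := h1 s R.s_mem_Q0
      rw [(R.V_cent hv).1, mul_inv_cancel_right, es, map_one, mul_one] at this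
      exact ⟨σ, fun _ x hx => by rw [h1 x hx, ← this, one_mul]⟩
    · exact ⟨1, fun h => absurd h hv⟩
  choose ρ hρ using key
  exact ⟨e₀, ζ, ρ, R, h, es, hρ, R.nilpotent hu u1 u2 us⟩

theorem RK.exists_SZ' {L H Q : Subgroup G} {t s r : G} (R : RK L H Q t s r) {u : G} (hu : u ∈ H) (u1 : u ≠ 1)
    (u2 : u * u = 1) (us : u ≠ s) :
    ∃ (F : Type) (_ : Field F) (_ : Fintype F) (_ : CharP F 2) (e₀ ζ : G → F) (ρ : G → F ≃+* F),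
      SZ L H Q t s r e₀ ζ ρ := by
  obtain ⟨F, _, _, _, hF⟩ := exists_field_two (card_Q0_pow Q)
    ((one_lt_card_iff_ne_bot _).2 fun e => R.s1 (by simpa [e] using R.s_mem_Q0))
  obtain ⟨e₀, ζ, ρ, h⟩ := R.exists_SZ hu u1 u2 us F hF
  exact ⟨F, _, ‹_›, ‹_›, e₀, ζ, ρ, h⟩

namespace SZ

variable {F : Type*} [Field F] {L H Q : Subgroup G} {t s r : G} {e₀ ζ : G → F} {ρ : G → F ≃+* F}
  (R : SZ L H Q t s r e₀ ζ ρ)
include R

theorem e_inj {x y : G} (hx : x ∈ Q0 Q) (hy : y ∈ Q0 Q) (e : e₀ x = e₀ y) : x = y :=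
  inv_mul_eq_one.1 (by simpa using (R.hg.crd.eq_iff hx hy).1 e)

theorem e_eq_zero {x : G} (hx : x ∈ Q0 Q) : e₀ x = 0 ↔ x = 1 := by simpa using R.hg.crd.ker x hx

theorem cjQ0 {h x : G} (hh : h ∈ H) (hx : x ∈ Q0 Q) : h * x * h⁻¹ ∈ Q0 Q :=
  conj_mem_of_mem_normalizer (R.nQ0 hh) hx

theorem cjK {d k : G} (hd : d ∈ DD H t) (hk : k ∈ KK H t) : d * k * d⁻¹ ∈ KK H t :=
  conj_mem_of_mem_normalizer (R.norm_K hd) hk

theorem ζ_inj {k l : G} (hk : k ∈ KK H t) (hl : l ∈ KK H t) (e : ζ k = ζ l) : k = l := by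
  have := R.hg.crd.inj_of_fpf (by rw [normalizer_eq_top]; exact le_top) (fun k hk k1 => le_bot_iff.1
    ((inf_le_inf_right _ R.hg.ZP).trans (R.hg.fpf k hk k1).le)) (k⁻¹ * l) (mul_mem (inv_mem hk) hl) (by
      rw [R.hg.crd.χ_mul (inv_mem hk) hl, R.hg.crd.χ_inv hk, e, inv_mul_cancel₀ (R.hg.crd.χ_ne hl)])
  exact inv_mul_eq_one.1 this

theorem ζ_eq {k : G} (hk : k ∈ KK H t) : ζ k = e₀ (k * s * k⁻¹) := by
  rw [R.hg.crd.conj k hk s R.s_mem_Q0, R.es, mul_one]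

theorem ρζ {v k : G} (hv : v ∈ VV H t) (hk : k ∈ KK H t) : ζ (v * k * v⁻¹) = ρ v (ζ k) := by
  rw [R.ζ_eq (R.cjK (R.VD hv) hk), R.ζ_eq hk, ← R.ρe v hv _ (R.cjQ0 (R.DH (R.KD hk)) R.s_mem_Q0)]
  congr 1
  calc v * k * v⁻¹ * s * (v * k * v⁻¹)⁻¹ = v * k * (v⁻¹ * s * v) * k⁻¹ * v⁻¹ := by group
    _ = _ := by rw [mul_assoc v⁻¹, ← (R.V_cent hv).1]; group

theorem ρ_mul {v w : G} (hv : v ∈ VV H t) (hw : w ∈ VV H t) : ρ (v * w) = ρ v * ρ w := by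
  ext a
  obtain ⟨x, hx, rfl⟩ := R.hg.crd.surj a
  rw [← R.ρe _ (mul_mem hv hw) x hx, RingAut.mul_apply, ← R.ρe w hw x hx, ← R.ρe v hv _ (R.cjQ0 (R.VH hw) hx)]
  congr 1
  group

theorem ρ_eq_one {v : G} (hv : v ∈ VV H t) : ρ v = 1 ↔ v ∈ WW H Q t := by
  refine ⟨fun h => ⟨R.VD hv, fun x hx => ?_⟩, fun h => ?_⟩
  · have := R.e_inj (R.cjQ0 (R.VH hv) hx) hx (by rw [R.ρe v hv x hx, h]; rfl)
    rw [← this]
    nth_rewrite 2 [this]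
    group
  · ext a
    obtain ⟨x, hx, rfl⟩ := R.hg.crd.surj a
    rw [← R.ρe v hv x hx, ← h.2 x hx]
    simp

/-- the action of `V` on the field. -/
def ρH : VV H t →* (F ≃+* F) := MonoidHom.mk' (fun v => ρ v) fun v w => R.ρ_mul v.2 w.2

theorem ρ_one : ρ 1 = 1 := R.ρH.map_one

theorem ρ_pow {v : G} (hv : v ∈ VV H t) (n : ℕ) : ρ (v ^ n) = ρ v ^ n := R.ρH.map_pow ⟨v, hv⟩ n

theorem ρ_inv {v : G} (hv : v ∈ VV H t) : ρ v⁻¹ = (ρ v)⁻¹ := R.ρH.map_inv ⟨v, hv⟩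

theorem exists_V_gen [Finite F] [CharP F 2] : ∃ v ∈ VV H t, WW H Q t ⊔ zpowers v = VV H t := by
  haveI : IsCyclic (F ≃+* F) := ⟨fr F, fun σ => by
    obtain ⟨n, rfl⟩ := aut_eq_pow σ
    exact ⟨n, zpow_natCast _ _⟩⟩
  obtain ⟨⟨_, v, rfl⟩, hv⟩ := IsCyclic.exists_zpow_surjective (G := R.ρH.range)
  refine ⟨v, v.2, le_antisymm (sup_le R.WV ((zpowers_le).2 v.2)) fun x hx => ?_⟩
  obtain ⟨n, hn⟩ := hv ⟨_, ⟨x, hx⟩, rfl⟩
  have h1 : R.ρH (v ^ n) = R.ρH ⟨x, hx⟩ := by rw [map_zpow]; exact congrArg Subtype.val hn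
  have h2 : x * ((v : G) ^ n)⁻¹ ∈ WW H Q t := by
    rw [← R.ρ_eq_one (mul_mem hx (inv_mem (zpow_mem v.2 n)))]
    exact (show R.ρH (⟨x, hx⟩ * (v ^ n)⁻¹) = 1 by rw [map_mul, map_inv, h1, mul_inv_cancel])
  simpa using mul_mem (mem_sup_left h2) (mem_sup_right (zpow_mem_zpowers (v : G) n))

theorem card_Q0 : Nat.card (Q0 Q) = Nat.card F := R.hg.card_Z

theorem card_K : Nat.card (KK H t) + 1 = Nat.card F := R.hg.card.symm

theorem big : 2 < Nat.card F := R.hg.big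

theorem Q0_le_S : Q0 Q ≤ Opi {2} Q := R.hg.ZP

end SZ

end CfsgSuz
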