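import Cfsg.Agent.H3.Suz5

/-! Split rank-one groups: points, subsystems, quotients, normal subgroups. -/

set_option autoImplicit false

namespace CfsgSuz

open Subgroup Cfsg CfsgH2 CfsgLead CfsgFT
open scoped commutatorElement

variable {G : Type*} [Group G]

/-- `H t y g = H t y'` -/
def Pt (H : Subgroup G) (t y g y' : G) : Prop := t * y * g * y'⁻¹ * t ∈ H

namespace RK0

variable {L H Q : Subgroup G} {t : G} (R : RK0 L H Q t)
include R

theorem pt_uniq {y g a b : G} (ha : a ∈ Q) (hb : b ∈ Q) (h1 : Pt H t y g a) (h2 : Pt H t y g b) : a = b := by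
  have h3 := mul_mem (inv_mem h1) h2
  have e : (t * y * g * a⁻¹ * t)⁻¹ * (t * y * g * b⁻¹ * t) = t * (a * b⁻¹) * t := by
    simp [mul_assoc, R.ti, R.tt']
  rw [e] at h3
  exact mul_inv_eq_one.1 (R.disj _ (mul_mem ha (inv_mem hb)) h3)

theorem pt_of_eq {y g h y' : G} (hh : h ∈ H) (e : t * y * g = h * t * y') : Pt H t y g y' := by
  unfold Pt
  rw [e]
  simpa [mul_assoc, R.tt] using hh

theorem pt_eq {y g y' : G} (h : Pt H t y g y') : ∃ h ∈ H, t * y * g = h * t * y' :=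
  ⟨_, h, by simp [mul_assoc, R.tt']⟩

theorem exists_pt {y g : G} (hy : y ∈ L) (hg : g ∈ L) (hn : t * y * g ∉ H) : ∃ y' ∈ Q, Pt H t y g y' := by
  obtain ⟨h, hh, y', hy', e⟩ := R.cover _ (mul_mem (mul_mem R.tL hy) hg) hn
  exact ⟨y', hy', R.pt_of_eq hh e⟩

theorem exists_f {x : G} (hx : x ∈ Q) (h1 : x ≠ 1) : ∃ y ∈ Q, Pt H t x t y :=
  R.exists_pt (R.QL hx) R.tL (R.tx_not_mem hx h1)

theorem pt_mul {y g y' g' y'' : G} (h1 : Pt H t y g y') (h2 : Pt H t y' g' y'') : Pt H t y (g * g') y'' := by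
  have := mul_mem h1 h2
  simpa [Pt, mul_assoc, R.tt'] using this

theorem pt_inv {y g y' : G} (h1 : Pt H t y g y') : Pt H t y' g⁻¹ y := by
  have := inv_mem h1
  simpa [Pt, mul_assoc, R.ti] using this

theorem pt_symm {x y : G} (h : Pt H t x t y) : Pt H t y t x := by simpa [R.ti] using R.pt_inv h

theorem pt_Q (y x : G) : Pt H t y x (y * x) := by simp [Pt, mul_assoc, R.tt, one_mem]

theorem pt_one (y : G) : Pt H t y 1 y := by simpa using R.pt_Q y 1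

theorem pt_D {d : G} (hd : d ∈ DD H t) (y : G) : Pt H t y d (d⁻¹ * y * d) := by
  simpa [Pt, mul_assoc] using (R.mem_D.1 hd).2

theorem pt_not_mem {y g y' : G} (hy : y' ∈ H) (h : Pt H t y g y') : t * y * g ∉ H := by
  obtain ⟨h, hh, e⟩ := R.pt_eq h
  rw [e]
  exact R.not_mem hh hy

theorem f_ne_one {x y : G} (hy : y ∈ Q) (h : Pt H t x t y) : x ≠ 1 := by
  rintro rfl
  exact R.pt_not_mem (R.QH hy) h (by simp [R.tt, one_mem])

/-- `f (x ^ d) = f(x) ^ (d ^ t)`. -/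
theorem f_conj {x y d : G} (hd : d ∈ DD H t) (h : Pt H t x t y) :
    Pt H t (d⁻¹ * x * d) t ((t * d * t)⁻¹ * y * (t * d * t)) := by
  have := R.pt_mul (R.pt_mul (R.pt_inv (R.pt_D hd x)) h) (R.pt_D (R.conjD hd) y)
  have e : d⁻¹ * t * (t * d * t) = t := by simp [mul_assoc, R.tt']
  rwa [e] at this

theorem f_conjV {x y v : G} (hv : v ∈ VV H t) (h : Pt H t x t y) : Pt H t (v * x * v⁻¹) t (v * y * v⁻¹) := by
  have := R.f_conj (R.VD (inv_mem hv)) h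
  have e : t * v⁻¹ * t = v⁻¹ := by rw [(R.mem_V.1 (inv_mem hv)).2, R.tt'']
  simpa [e] using this

/-- `f (x y) = f (f(x) g(y)) ^ (h(y) ^ t) f(y)`. -/
theorem f_mul {x x' y g d f u : G} (hd : d ∈ DD H t) (e : t * y * t = g * d * t * f) (h1 : Pt H t x t x')
    (h2 : Pt H t (x' * g) t u) : Pt H t (x * y) t ((t * d * t)⁻¹ * u * (t * d * t) * f) := by
  have h3 := R.pt_mul (R.pt_mul (R.pt_mul (R.pt_mul (R.pt_mul (R.pt_inv (R.pt_Q x y)) h1) (R.pt_Q x' g)) h2)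
    (R.pt_D (R.conjD hd) u)) (R.pt_Q _ f)
  have e2 : y⁻¹ * t * g * t * (t * d * t) * f = t := by
    calc _ = y⁻¹ * t * (g * d * t * f) := by simp [mul_assoc, R.tt']
      _ = t := by rw [← e]; simp [mul_assoc, R.tt']
  rwa [e2] at h3

/-! ### subsystems -/

section Sub

variable {Q₁ D₁ : Subgroup G} (hQ : Q₁ ≤ Q) (hD : D₁ ≤ DD H t) (hn : D₁ ≤ N(Q₁)) (ht : ∀ d ∈ D₁, t * d * t ∈ D₁)
  (hf : ∀ x ∈ Q₁, x ≠ 1 → ∃ g ∈ Q₁, ∃ d ∈ D₁, ∃ y ∈ Q₁, t * x * t = g * d * t * y)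
include hQ hD hn ht hf

theorem sub_cover {g : G} (hg : g ∈ Q₁ ⊔ D₁ ⊔ zpowers t) :
    g ∈ Q₁ ⊔ D₁ ∨ ∃ h ∈ Q₁ ⊔ D₁, ∃ y ∈ Q₁, g = h * t * y := by
  have key : ∀ h ∈ Q₁ ⊔ D₁, ∃ h' ∈ Q₁ ⊔ D₁, (t * h * t = h' ∨ ∃ y ∈ Q₁, t * h * t = h' * t * y) ∧
      ∃ d ∈ D₁, ∃ y ∈ Q₁, t * h = d * t * y := fun h hh => by
    obtain ⟨x, hx, d, hd, rfl⟩ := (mem_sup_of_normalizer hn).1 hh
    have e2 : ∃ d' ∈ D₁, ∃ y ∈ Q₁, t * (x * d) = d' * t * y :=
      ⟨_, ht d hd, d⁻¹ * x * d, by simpa using conj_mem_of_mem_normalizer (hn (inv_mem hd)) hx, by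
        simp [mul_assoc, R.tt']⟩
    by_cases x1 : x = 1
    · exact ⟨_, mem_sup_right (ht d hd), Or.inl (by simp [x1]), e2⟩
    · obtain ⟨g, hg, c, hc, y, hy, e⟩ := hf x hx x1
      refine ⟨g * c * d, mul_mem (mul_mem (mem_sup_left hg) (mem_sup_right hc)) (mem_sup_right hd), Or.inr
        ⟨(t * d * t)⁻¹ * y * (t * d * t), by simpa using conj_mem_of_mem_normalizer (hn (inv_mem (ht d hd))) hy, ?_⟩, e2⟩
      calc t * (x * d) * t = (t * x * t) * (t * d * t) := by simp [mul_assoc, R.tt']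
        _ = _ := by rw [e]; simp [mul_assoc, R.tt', R.ti]
  let X : Subgroup G :=
    { carrier := {g | g ∈ Q₁ ⊔ D₁ ∨ ∃ h ∈ Q₁ ⊔ D₁, ∃ y ∈ Q₁, g = h * t * y}
      one_mem' := Or.inl (one_mem _)
      mul_mem' := by
        rintro _ _ (ha | ⟨a, ha, y, hy, rfl⟩) (hb | ⟨b, hb, z, hz, rfl⟩)
        · exact Or.inl (mul_mem ha hb)
        · exact Or.inr ⟨_, mul_mem ha hb, z, hz, by group⟩
        · obtain ⟨-, -, -, d, hd, w, hw, e⟩ := key _ (mul_mem (mem_sup_left hy) hb)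
          exact Or.inr ⟨a * d, mul_mem ha (mem_sup_right hd), w, hw, by
            rw [mul_assoc a d, mul_assoc a (d * t), ← e]; group⟩
        · obtain ⟨h', hh', e | ⟨w, hw, e⟩, -⟩ := key _ (mul_mem (mem_sup_left hy) hb)
          · exact Or.inl (by
              rw [show a * t * y * (b * t * z) = a * (t * (y * b) * t) * z by group, e]
              exact mul_mem (mul_mem ha hh') (mem_sup_left hz))
          · exact Or.inr ⟨a * h', mul_mem ha hh', w * z, mul_mem hw hz, by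
              rw [show a * t * y * (b * t * z) = a * (t * (y * b) * t) * z by group, e]; group⟩
      inv_mem' := by
        rintro _ (ha | ⟨a, ha, y, hy, rfl⟩)
        · exact Or.inl (inv_mem ha)
        · obtain ⟨-, -, -, d, hd, w, hw, e⟩ := key _ (inv_mem ha)
          exact Or.inr ⟨y⁻¹ * d, mul_mem (mem_sup_left (inv_mem hy)) (mem_sup_right hd), w, hw, by
            rw [mul_assoc y⁻¹, mul_assoc y⁻¹, ← e]; simp [mul_assoc, R.ti]⟩ }
  exact (sup_le (fun g hg => Or.inl hg) (zpowers_le.2 (Or.inr ⟨1, one_mem _, 1, one_mem _, by simp⟩)) :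
    _ ≤ X) hg

theorem sub_inf : (Q₁ ⊔ D₁ ⊔ zpowers t) ⊓ H = Q₁ ⊔ D₁ := by
  have h1 : Q₁ ⊔ D₁ ≤ H := sup_le (hQ.trans R.QH) (hD.trans R.DH)
  refine le_antisymm (fun g hg => ?_) (le_inf le_sup_left h1)
  obtain h | ⟨h, hh, y, hy, rfl⟩ := R.sub_cover hQ hD hn ht hf hg.1
  · exact h
  · exact absurd hg.2 (R.not_mem (h1 hh) (R.QH (hQ hy)))

theorem sub_DD : DD (Q₁ ⊔ D₁) t = D₁ := by
  ext d
  rw [DD, mem_inf, mem_cj, R.ti]
  refine ⟨fun h => ?_, fun h => ⟨mem_sup_right h, mem_sup_right (ht d h)⟩⟩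
  have h1 : Q₁ ⊔ D₁ ≤ H := sup_le (hQ.trans R.QH) (hD.trans R.DH)
  obtain ⟨x, hx, c, hc, rfl⟩ := (mem_sup_of_normalizer hn).1 h.1
  have := R.eq_one_of_QD (hQ hx) (by
    simpa using mul_mem (R.mem_D.2 ⟨h1 h.1, h1 h.2⟩) (inv_mem (hD hc)))
  simpa [this] using hc

theorem sub_RK0 [Finite G] (he : Even (Nat.card Q₁)) : RK0 (Q₁ ⊔ D₁ ⊔ zpowers t) (Q₁ ⊔ D₁) Q₁ t where
  HL := le_sup_left
  tL := mem_sup_right (mem_zpowers t)
  tt := R.tt
  tH h := R.tH (sup_le (hQ.trans R.QH) (hD.trans R.DH) h)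
  QH := le_sup_left
  nQ := sup_le le_normalizer hn
  cover g hg hn' := (R.sub_cover hQ hD hn ht hf hg).resolve_left hn'
  disj x hx h := R.disj x (hQ hx) (sup_le (hQ.trans R.QH) (hD.trans R.DH) h)
  even := he
  odd := by
    rw [R.sub_DD hQ hD hn ht hf]
    exact R.odd.of_dvd_nat (card_dvd_of_le hD)

end Sub

/-- a subgroup normalised by `H` and `t` is normalised by `L`. -/
theorem le_norm {X : Subgroup G} (h1 : H ≤ N(X)) (h2 : t ∈ N(X)) : L ≤ N(X) := fun g hg => by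
  by_cases h : g ∈ H
  · exact h1 h
  · obtain ⟨h, hh, y, hy, rfl⟩ := R.cover g hg h
    exact mul_mem (mul_mem (h1 hh) h2) (h1 (R.QH hy))

theorem le_of {X : Subgroup G} (h1 : H ≤ X) (h2 : t ∈ X) : L ≤ X := fun g hg => by
  by_cases h : g ∈ H
  · exact h1 h
  · obtain ⟨h, hh, y, hy, rfl⟩ := R.cover g hg h
    exact mul_mem (mul_mem (h1 hh) h2) (h1 (R.QH hy))

theorem inf_sub [Finite G] {N : Subgroup G} (hN : N ≤ L) (hQ : Q ≤ N) (ht : t ∈ N) : RK0 N (H ⊓ N) Q t where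
  HL := inf_le_right
  tL := ht
  tt := R.tt
  tH h := R.tH h.1
  QH := le_inf R.QH hQ
  nQ := inf_le_left.trans R.nQ
  cover g hg hn := by
    obtain ⟨h, hh, y, hy, rfl⟩ := R.cover g (hN hg) fun h => hn ⟨h, hg⟩
    exact ⟨h, ⟨hh, by simpa using mul_mem (mul_mem hg (inv_mem (hQ hy))) (inv_mem ht)⟩, y, hy, rfl⟩
  disj x hx h := R.disj x hx h.1
  even := R.even
  odd := R.odd.of_dvd_nat (card_dvd_of_le (inf_le_inf inf_le_left (cj_mono t inf_le_left)))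

end RK0

/-- the number of solutions of `x ^ 2 = 1`. -/
noncomputable def q0 (Q : Subgroup G) : ℕ := Nat.card {x : Q // x * x = 1}

/-- the conclusion carried through the induction. -/
def Concl (Q : Subgroup G) (s r : G) : Prop :=
  IsPGroup 2 Q ∧ (Nat.card Q = q0 Q ∨ (¬ Q ≤ C(Q) ∧
    ((Nat.card Q = q0 Q ^ 2 ∧ r ≠ s) ∨ (Nat.card Q = q0 Q ^ 3 ∧ r = s))))

theorem q0_congr {G' : Type*} [Group G'] {Q : Subgroup G} {Q' : Subgroup G'} (e : Q ≃* Q') : q0 Q = q0 Q' :=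
  Nat.card_congr (e.toEquiv.subtypeEquiv fun x => by
    rw [MulEquiv.toEquiv_eq_coe, EquivLike.coe_coe, ← map_mul, map_eq_one_iff _ e.injective])

theorem Concl.of_equiv {G' : Type*} [Group G'] {Q : Subgroup G} {Q' : Subgroup G'} (e : Q ≃* Q') {s r : Q}
    (h : Concl Q' (e s) (e r)) : Concl Q s r := by
  obtain ⟨h1, h2⟩ := h
  have e1 : (e r : G') = e s ↔ (r : G) = s := by rw [Subtype.coe_inj, Subtype.coe_inj, e.injective.eq_iff]
  rw [← q0_congr e, ← Nat.card_congr e.toEquiv, Ne, e1] at h2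
  refine ⟨h1.of_equiv e.symm, h2.imp_right (And.imp_left fun h3 h4 => h3 fun a ha b hb => ?_)⟩
  have := congrArg e (Subtype.ext (h4 (e.symm ⟨a, ha⟩).2 _ (e.symm ⟨b, hb⟩).2) :
    e.symm ⟨b, hb⟩ * e.symm ⟨a, ha⟩ = e.symm ⟨a, ha⟩ * e.symm ⟨b, hb⟩)
  simpa using congrArg Subtype.val this

namespace RK

variable [Finite G] {L H Q : Subgroup G} {t s r : G} (R : RK L H Q t s r)
include R

theorem q0_eq : q0 Q = Nat.card (Q0 Q) :=
  Nat.card_congr
    { toFun := fun x => ⟨x.1, R.mem_Q0_iff.2 ⟨x.1.2, congrArg Subtype.val x.2⟩⟩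
      invFun := fun x => ⟨⟨x, Q0_le Q x.2⟩, Subtype.ext (Q0_sq x.2)⟩
      left_inv := fun _ => rfl
      right_inv := fun _ => rfl }

theorem exists_ne_of_big (h : 2 < q0 Q) : ∃ u ∈ H, u ≠ 1 ∧ u * u = 1 ∧ u ≠ s := by
  by_contra hc
  push Not at hc
  have : Q0 Q ≤ zpowers s := fun x hx => by
    by_cases x1 : x = 1
    · simp [x1]
    · rw [hc x (R.QH (Q0_le Q hx)) x1 (Q0_sq hx)]; exact mem_zpowers s
  have := card_le_of_le this
  rw [Nat.card_zpowers, R.ord_s, ← R.q0_eq] at this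
  omega

theorem big_of_ne {u : G} (hu : u ∈ H) (u1 : u ≠ 1) (u2 : u * u = 1) (us : u ≠ s) : 2 < q0 Q := by
  have h1 := R.mem_Q0_of_sq hu u2
  have h2 := R.s_mem_Q0
  letI := Fintype.ofFinite (Q0 Q)
  rw [R.q0_eq, Nat.card_eq_fintype_card, Fintype.two_lt_card_iff]
  refine ⟨⟨1, one_mem _⟩, ⟨u, h1⟩, ⟨s, h2⟩, ?_, ?_, ?_⟩ <;> simp [u1.symm, R.s1.symm, us]

omit [Finite G] in
theorem f_s : Pt H t s t r := R.pt_of_eq (inv_mem (R.QH R.rQ)) R.eqn

theorem rs : r * s = s * r := (Q0_le_cent Q R.s_mem_Q0) r R.rQ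

theorem conj_st : r⁻¹ * (s * t) * r = (s * t) ^ 2 := by
  calc r⁻¹ * (s * t) * r = r⁻¹ * s * r * (r⁻¹ * t * r) := by group
    _ = _ := by rw [← R.eqn, mul_assoc r⁻¹, ← R.rs]; simp [pow_two, mul_assoc]

theorem conj_st_pow (k n : ℕ) : (r ^ k)⁻¹ * (s * t) ^ n * r ^ k = (s * t) ^ (2 ^ k * n) := by
  induction k with
  | zero => simp
  | succ k ih =>
    calc _ = r⁻¹ * ((r ^ k)⁻¹ * (s * t) ^ n * r ^ k) * r := by group
      _ = (r⁻¹ * (s * t) * r) ^ (2 ^ k * n) := by rw [ih]; simpa using (conj_pow (a := r⁻¹)).symm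
      _ = _ := by rw [R.conj_st, ← pow_mul]; ring_nf

theorem odd_st : Odd (orderOf (s * t)) := R.odd_mul R.sQ R.s1 R.ss R.tL R.tH R.tt

omit [Finite G] in
theorem st_ne : s * t ≠ 1 := fun e => R.tH (by
  rw [← mul_eq_one_iff_inv_eq.1 e]; exact inv_mem (R.QH R.sQ))

omit [Finite G] in
theorem s_inverts : s * (s * t) * s⁻¹ = (s * t)⁻¹ := by
  simp [R.si, R.ti, ← mul_assoc, R.ss]

/-- no involution centralises a nontrivial power of `s t`. -/
theorem st_pow_eq_one {z : G} (zL : z ∈ L) (z2 : z * z = 1) {n : ℕ} (h : z * (s * t) ^ n = (s * t) ^ n * z) :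
    z = 1 ∨ (s * t) ^ n = 1 := by
  refine or_iff_not_imp_left.2 fun z1 => eq_one_of_inv_of_odd (R.odd_st.of_dvd_nat (orderOf_pow_dvd n)) ?_
  exact R.inv_eq_of_real (pow_mem (mul_mem (R.QL R.sQ) R.tL) n) (R.QL R.sQ) R.s1 R.ss (inverts_pow R.s_inverts n)
    zL z1 z2 h

theorem r_eq_of_cube (h : (s * t) ^ 3 = 1) : r = s := by
  refine (R.dist_uniq (R.QH R.sQ) R.s1 R.ss R.sQ ?_).2.symm
  have : t * s * t = (s * t * s)⁻¹ := eq_inv_of_mul_eq_one_right (by simpa [pow_succ, mul_assoc] using h)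
  rw [this]
  simp [R.si, R.ti, mul_assoc]

theorem r_eq_of_sq (h : r * r = 1) : r = s := by
  have := R.conj_st_pow 2 1
  rw [pow_two, h] at this
  refine R.r_eq_of_cube (mul_left_cancel (a := s * t) ?_)
  rw [← pow_succ', mul_one]
  simpa using this.symm

theorem cube_of_eq (h : r = s) : (s * t) ^ 3 = 1 := by
  have := R.conj_st
  rw [h, R.si] at this
  rw [pow_succ, ← this]
  simp [mul_assoc, R.tt', R.tt, ← mul_assoc s s, R.ss]

theorem five (h4 : r * r * (r * r) = 1) (h : r ≠ s) : (s * t) ^ 5 = 1 ∧ r * r = s := by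
  have hu : r * r ∈ Q := mul_mem R.rQ R.rQ
  have u1 : r * r ≠ 1 := fun e => h (R.r_eq_of_sq e)
  have ui := inv_of_sq h4
  have h15 : (s * t) ^ 15 = 1 := by
    have := R.conj_st_pow 4 1
    rw [show r ^ 4 = 1 by rw [← h4]; simp [pow_succ, mul_assoc]] at this
    refine mul_left_cancel (a := s * t) ?_
    rw [← pow_succ', mul_one]
    simpa using this.symm
  have h5 : (s * t) ^ 5 = 1 := by
    refine (R.st_pow_eq_one (R.QL hu) h4 ?_).resolve_left u1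
    have := R.conj_st_pow 2 5
    rw [pow_two, show 2 ^ 2 * 5 = 15 + 5 by norm_num, pow_add, h15, one_mul] at this
    calc _ = r * r * ((r * r)⁻¹ * (s * t) ^ 5 * (r * r)) := by rw [this]
      _ = _ := by group
  refine ⟨h5, ?_⟩
  have h0 := R.mem_Q0_iff.2 ⟨hu, h4⟩
  have h6 : r * r * s * (r * r * s) = 1 := Q0_sq (mul_mem h0 R.s_mem_Q0)
  have h7 := (R.st_pow_eq_one (n := 1) (R.QL (mul_mem hu R.sQ)) h6 ?_).resolve_right (by simpa using R.st_ne)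
  · rw [← mul_eq_one_iff_eq_inv.1 h7 |>.trans R.si]
  · have := R.conj_st_pow 2 4
    rw [pow_two, ui, show 2 ^ 2 * 4 = 15 + 1 by norm_num, pow_add, h15, one_mul] at this
    have e : (s * t) ^ 4 = (s * t)⁻¹ := eq_inv_of_mul_eq_one_left (by rw [← pow_succ, h5])
    rw [e, ← R.s_inverts] at this
    rw [pow_one] at this ⊢
    calc _ = r * r * (s * (s * t) * s⁻¹) * (r * r * (r * r)) * s := by rw [h4]; group
      _ = r * r * (s * (s * t) * s⁻¹) * (r * r) * ((r * r) * s) := by group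
      _ = _ := by rw [this]

/-! ### the kernel of the action -/

theorem ker_le_V : DD H t ⊓ C(Q) ≤ VV H t := fun _ hd => R.mem_V_of_comm hd.1 (hd.2 s R.sQ).symm

theorem norm_ker : L ≤ N(DD H t ⊓ C(Q)) := by
  refine R.le_norm ?_ (CfsgH2.mem_normalizer_of_conj_mem fun x hx => ?_)
  · refine R.sup_QD.ge.trans (sup_le (fun y hy => centralizer_le_normalizer _ fun x hx => (hx.2 y hy).symm) ?_)
    exact le_normalizer_inf le_normalizer (R.nQD.trans (CfsgH2.normalizer_le_normalizer_centralizer _))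
  · rwa [(R.mem_V.1 (R.ker_le_V hx)).2, mul_inv_cancel_right]

theorem map {G' : Type*} [Group G'] (f : L →* G') (hf : Function.Surjective f)
    (hk : f.ker ≤ (DD H t).subgroupOf L) :
    RK ⊤ ((H.subgroupOf L).map f) ((Q.subgroupOf L).map f) (f ⟨t, R.tL⟩) (f ⟨s, R.QL R.sQ⟩) (f ⟨r, R.QL R.rQ⟩) := by
  have mH : ∀ x : L, f x ∈ (H.subgroupOf L).map f → (x : G) ∈ H := by
    rintro x ⟨y, hy, e⟩
    have : y⁻¹ * x ∈ f.ker := by simp [MonoidHom.mem_ker, e]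
    simpa [mem_subgroupOf] using mul_mem hy (R.DH (hk this))
  have inj : ∀ x : L, (x : G) ∈ Q → f x = 1 → x = 1 := fun x hx e =>
    Subtype.ext (R.eq_one_of_QD hx (hk e))
  refine ⟨⟨le_top, mem_top _, by rw [← map_mul, ← map_one f]; congr 1; exact Subtype.ext R.tt,
    fun h => R.tH (mH _ h), map_mono (comap_mono R.QH), ?_, fun g _ hg => ?_, ?_, ?_, ?_⟩, ⟨_, R.sQ, rfl⟩,
    fun e => R.s1 (congrArg Subtype.val (inj _ R.sQ e)), by rw [← map_mul, ← map_one f]; congr 1; exact Subtype.ext R.ss,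
    ⟨_, R.rQ, rfl⟩, by simp only [← map_mul, ← map_inv]; congr 1; exact Subtype.ext R.eqn⟩
  · haveI := Finite.of_surjective f hf
    rintro _ ⟨h, hh, rfl⟩
    refine CfsgH2.mem_normalizer_of_conj_mem ?_
    rintro _ ⟨y, hy, rfl⟩
    exact ⟨h * y * h⁻¹, R.conjQ hh hy, by simp⟩
  · obtain ⟨g, rfl⟩ := hf g
    obtain ⟨h, hh, y, hy, e⟩ := R.cover g g.2 fun h => hg ⟨g, h, rfl⟩
    exact ⟨f ⟨h, R.HL hh⟩, ⟨_, hh, rfl⟩, f ⟨y, R.QL hy⟩, ⟨_, hy, rfl⟩, by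
      simp only [← map_mul]; congr 1; exact Subtype.ext e⟩
  · rintro _ ⟨x, hx, rfl⟩ h
    rw [← map_mul, ← map_mul] at h
    rw [show x = 1 from Subtype.ext (R.disj x hx (mH _ h)), map_one]
  · have hi : Function.Injective (f.subgroupMap (Q.subgroupOf L)) := (injective_iff_map_eq_one _).2
      fun x e => Subtype.ext (inj x.1 x.2 (congrArg Subtype.val e))
    rw [← Nat.card_eq_of_bijective _ ⟨hi, f.subgroupMap_surjective _⟩,
      Nat.card_congr (subgroupOfEquivOfLe R.QL).toEquiv]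
    exact R.even
  · have : DD ((H.subgroupOf L).map f) (f ⟨t, R.tL⟩) ≤ ((DD H t).subgroupOf L).map f := by
      rintro _ ⟨⟨x, hx, rfl⟩, h⟩
      replace h := mem_cj.1 h
      rw [← map_inv, ← map_mul, ← map_mul] at h
      exact ⟨x, ⟨hx, mem_cj.2 (mH _ h)⟩, rfl⟩
    refine R.odd.of_dvd_nat ((card_dvd_of_le this).trans ((card_map_dvd _ f).trans ?_))
    rw [Nat.card_congr (subgroupOfEquivOfLe R.DL).toEquiv]

end RK

universe u in
/-- passage to the faithful quotient. -/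
theorem RK.exists_faithful {G : Type u} [Group G] [Finite G] {L H Q : Subgroup G} {t s r : G} (R : RK L H Q t s r) :
    ∃ (G' : Type u) (_ : Group G') (_ : Finite G') (H' Q' : Subgroup G') (t' : G') (e : Q ≃* Q'),
      Nat.card G' ≤ Nat.card L ∧ RK ⊤ H' Q' t' (e ⟨s, R.sQ⟩) (e ⟨r, R.rQ⟩) ∧ DD H' t' ⊓ C(Q') = ⊥ := by
  haveI : ((DD H t ⊓ C(Q)).subgroupOf L).Normal := normal_subgroupOf_of_le_normalizer R.norm_ker
  let f := QuotientGroup.mk' ((DD H t ⊓ C(Q)).subgroupOf L)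
  have hf : Function.Surjective f := QuotientGroup.mk'_surjective _
  have hk : f.ker = (DD H t ⊓ C(Q)).subgroupOf L := QuotientGroup.ker_mk' _
  have R' := R.map f hf (hk.le.trans (comap_mono inf_le_left))
  have inj : ∀ x : L, (x : G) ∈ Q → f x = 1 → x = 1 := fun x hx e =>
    Subtype.ext (R.eq_one_of_QD hx (hk.le e).1)
  refine ⟨_, inferInstance, inferInstance, _, _, _, (subgroupOfEquivOfLe R.QL).symm.trans
    (MulEquiv.ofBijective (f.subgroupMap (Q.subgroupOf L)) ⟨(injective_iff_map_eq_one _).2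
      fun x e => Subtype.ext (inj x x.2 (congrArg Subtype.val e)), f.subgroupMap_surjective _⟩),
    Nat.card_le_card_of_surjective f hf, R', ?_⟩
  rw [eq_bot_iff]
  rintro _ ⟨⟨⟨x, hx, rfl⟩, h1⟩, h2⟩
  obtain ⟨y, hy, d, hd, e⟩ := R.split hx
  have hyd : x = ⟨y, R.QL hy⟩ * ⟨d, R.DL hd⟩ := Subtype.ext e
  have hd' : f ⟨d, R.DL hd⟩ ∈ DD ((H.subgroupOf L).map f) (f ⟨t, R.tL⟩) :=
    R'.mem_D.2 ⟨⟨_, R.DH hd, rfl⟩, ⟨⟨_, R.DL (R.conjD hd)⟩, R.DH (R.conjD hd), by simp only [← map_mul]; rfl⟩⟩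
  have y1 : f ⟨y, R.QL hy⟩ = 1 := R'.eq_one_of_QD ⟨_, hy, rfl⟩ (by
    have := mul_mem (show f x ∈ DD ((H.subgroupOf L).map f) (f ⟨t, R.tL⟩) from ⟨⟨x, hx, rfl⟩, h1⟩) (inv_mem hd')
    rwa [hyd, map_mul, mul_inv_cancel_right] at this)
  rw [hyd, map_mul, y1, one_mul] at h2 ⊢
  refine hk.ge ⟨hd, fun z hz => ?_⟩
  have h3 := h2 _ ⟨⟨z, R.QL hz⟩, hz, rfl⟩
  have := inj (⟨z, R.QL hz⟩⁻¹ * (⟨d, R.DL hd⟩ * ⟨z, R.QL hz⟩ * ⟨d, R.DL hd⟩⁻¹))
    (mul_mem (inv_mem hz) (R.conjQ (R.DH hd) hz)) (by simp only [map_mul, map_inv, ← h3]; group)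
  have := congrArg Subtype.val this
  simp only [coe_mul, coe_inv, OneMemClass.coe_one, inv_mul_eq_one] at this
  exact (eq_mul_inv_iff_mul_eq.1 this)

end CfsgSuz
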