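import Cfsg.Agent.H3.PF6d
import Mathlib.LinearAlgebra.Matrix.Kronecker

/-! Character tools for split rank-one groups: the Frobenius–Schur indicator, sums over TI-subsets, and the
exclusion of Zassenhaus groups whose Frobenius kernel is a Suzuki 2-group of order `q ^ 3`. -/

set_option autoImplicit false

open Module Cfsg CfsgH3 Submodule CfsgH3.IP
open scoped ComplexConjugate commutatorElement Kronecker

namespace CfsgSuz

attribute [local simp] ip_add_left ip_add_right ip_sub_left ip_sub_right ip_neg_left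
  ip_neg_right ip_smul_left ip_smul_right ip_zero_left ip_zero_right

universe u v w x

section FS

variable {G : Type*} [Group G]

theorem isChar_trace_idem {V : Type*} [AddCommGroup V] [Module ℂ V] [FiniteDimensional ℂ V]
    (ρ : Representation ℂ G V) {e : V →ₗ[ℂ] V} (he : e * e = e) (hc : ∀ g, ρ g * e = e * ρ g) :
    IsCharacter G (fun g => LinearMap.trace ℂ V (ρ g * e)) := by
  let U : Subrepresentation ρ := ⟨LinearMap.range e, by
    rintro g _ ⟨v, rfl⟩
    exact ⟨ρ g v, (LinearMap.congr_fun (hc g) v).symm⟩⟩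
  have h := isCharacter_rep U.toRepresentation
  convert h using 2 with g
  have h1 : ρ g * e = (ρ g ∘ₗ U.toSubmodule.subtype) ∘ₗ e.rangeRestrict := by
    ext v; rfl
  rw [h1, LinearMap.trace_comp_comm']
  change _ = LinearMap.trace ℂ _ (U.toRepresentation g)
  congr 1
  ext ⟨_, v, rfl⟩
  change e (ρ g (e v)) = ρ g (e v)
  have h2 := LinearMap.congr_fun (hc g) (e v)
  have h3 := LinearMap.congr_fun he v
  simp only [Module.End.mul_apply] at h2 h3
  rw [← h2, h3]

theorem isChar_sq_aux {χ : G → ℂ} (hχ : IsCharacter G χ) {ε : ℂ} (hε : ε * ε = 1) :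
    IsCharacter G (fun g => (χ g ^ 2 + ε * χ (g ^ 2)) / 2) := by
  obtain ⟨n, ρ, rfl⟩ := hχ
  let R : G → Matrix (Fin n) (Fin n) ℂ := fun g => LinearMap.toMatrix' (ρ g)
  have hR : ∀ g h, R (g * h) = R g * R h := fun g h => by
    simp only [R, map_mul, LinearMap.toMatrix'_mul]
  have hR1 : R 1 = 1 := by simp only [R, map_one, LinearMap.toMatrix'_one]
  have htr : ∀ g, ρ.character g = (R g).trace := fun g => by
    rw [Representation.character, ← Matrix.trace_toLin'_eq]; simp [R]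
  let σ : Representation ℂ G (Fin n × Fin n → ℂ) :=
    { toFun := fun g => Matrix.toLin' (R g ⊗ₖ R g)
      map_one' := by rw [hR1, Matrix.one_kronecker_one, Matrix.toLin'_one]; rfl
      map_mul' := fun g h => by rw [hR, Matrix.mul_kronecker_mul, Matrix.toLin'_mul]; rfl }
  let S : Matrix (Fin n × Fin n) (Fin n × Fin n) ℂ :=
    Matrix.of fun a b => if a = b.swap then 1 else 0
  have hS1 : ∀ (A : Matrix (Fin n × Fin n) (Fin n × Fin n) ℂ) a b, (A * S) a b = A a b.swap :=
    fun A a b => by simp [S, Matrix.mul_apply]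
  have hS2 : ∀ (A : Matrix (Fin n × Fin n) (Fin n × Fin n) ℂ) a b, (S * A) a b = A a.swap b :=
    fun A a b => by
      simp only [S, Matrix.mul_apply, Matrix.of_apply]
      rw [Finset.sum_eq_single a.swap]
      · simp
      · intro c _ hc
        rw [if_neg, zero_mul]
        rintro rfl; exact hc rfl
      · simp
  have hSS : S * S = 1 := by
    ext a b; rw [hS1]; simp [S, Matrix.one_apply]
  let E : Matrix (Fin n × Fin n) (Fin n × Fin n) ℂ := (2 : ℂ)⁻¹ • (1 + ε • S)
  have hE : E * E = E := by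
    simp only [E, Matrix.smul_mul, Matrix.mul_smul, add_mul, mul_add, one_mul, mul_one, hSS,
      smul_add, smul_smul]
    match_scalars
    · linear_combination (1 / 4) * hε
    · ring
  have hc : ∀ g, (R g ⊗ₖ R g) * E = E * (R g ⊗ₖ R g) := fun g => by
    have : (R g ⊗ₖ R g) * S = S * (R g ⊗ₖ R g) := by
      ext a b; rw [hS1, hS2]; simp [Matrix.kroneckerMap_apply, mul_comm]
    simp only [E, Matrix.smul_mul, Matrix.mul_smul, add_mul, mul_add, one_mul, mul_one, this]
  have h := isChar_trace_idem σ (e := Matrix.toLin' E)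
    (by rw [Module.End.mul_eq_comp, ← Matrix.toLin'_mul, hE])
    (fun g => by
      change Matrix.toLin' _ ∘ₗ _ = _ ∘ₗ Matrix.toLin' _
      rw [← Matrix.toLin'_mul, ← Matrix.toLin'_mul, hc])
  convert h using 2 with g
  change _ = LinearMap.trace ℂ _ (Matrix.toLin' _ ∘ₗ _)
  rw [← Matrix.toLin'_mul, Matrix.trace_toLin'_eq, htr, htr, sq g, hR]
  have h1 : ((R g ⊗ₖ R g) * S).trace = (R g * R g).trace := by
    simp only [Matrix.trace, Matrix.diag, hS1, Matrix.mul_apply, Fintype.sum_prod_type,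
      Matrix.kroneckerMap_apply, Prod.swap]
  simp only [E, Matrix.mul_smul, mul_add, mul_one, Matrix.trace_smul, Matrix.trace_add, h1,
    Matrix.trace_kronecker, smul_eq_mul]
  ring

theorem isChar_sym2 {χ : G → ℂ} (hχ : IsCharacter G χ) :
    IsCharacter G (fun g => (χ g ^ 2 + χ (g ^ 2)) / 2) := by
  simpa using isChar_sq_aux hχ (ε := 1) (by simp)

theorem isChar_alt2 {χ : G → ℂ} (hχ : IsCharacter G χ) :
    IsCharacter G (fun g => (χ g ^ 2 - χ (g ^ 2)) / 2) := by
  simpa [sub_eq_add_neg] using isChar_sq_aux hχ (ε := -1) (by simp)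

theorem fs_real [Fintype G] {χ : G → ℂ} (hχ : IsIrrCharacter G χ) (h : conjFun χ = χ) :
    ∑ g, χ (g * g) = Nat.card G ∨ ∑ g, χ (g * g) = -Nat.card G := by
  obtain ⟨s, hs⟩ := (isChar_sym2 hχ.isChar).inner_nat isChar_one
  obtain ⟨a, ha⟩ := (isChar_alt2 hχ.isChar).inner_nat isChar_one
  have h0 := card_ne_zero_complex G
  have h1 : (Nat.card G : ℂ)⁻¹ * ∑ g, χ (g * g) = s - a := by
    rw [← hs, ← ha, inner_one_right, inner_one_right, ← mul_sub, ← Finset.sum_sub_distrib]
    congr 1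
    exact Finset.sum_congr rfl fun g _ => by rw [sq g]; ring
  have h2 : classInner χ (conjFun χ) = s + a := by
    rw [← hs, ← ha, inner_one_right, inner_one_right, ← mul_add, ← Finset.sum_add_distrib]
    unfold classInner
    congr 1
    exact Finset.sum_congr rfl fun g _ => by simp only [conjFun, RingHomCompTriple.comp_apply, RingHom.id_apply]; ring
  rw [h, hχ.inner_self] at h2
  have : s + a = 1 := by exact_mod_cast h2.symm
  rw [inv_mul_eq_iff_eq_mul₀ h0] at h1
  rcases Nat.add_eq_one_iff.mp this with ⟨rfl, rfl⟩ | ⟨rfl, rfl⟩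
  · right; simpa using h1
  · left; simpa using h1

end FS

variable {L : Type u} [Group L] [Fintype L] {G : Type x} [Group G] [Fintype G]

theorem sum_TI {j : L →* G} (hj : Function.Injective j) {A : Set L} (hTI : TIOn j A)
    (hA : ∀ a ∈ A, ∀ g, g * a * g⁻¹ ∈ A) {F : G → ℂ} (hF : IsClassFunction G F) {A' : Finset L}
    (hA' : ∀ a, a ∈ A' ↔ a ∈ A) {B : Finset G} (hB : ∀ g, g ∈ B ↔ ∃ x, ∃ a ∈ A, x * g * x⁻¹ = j a) :
    ∑ g ∈ B, F g = j.range.index * ∑ a ∈ A', F (j a) := by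
  classical
  obtain rfl : A' = Finset.univ.filter (· ∈ A) := Finset.ext fun a => by simp [hA']
  obtain rfl : B = Finset.univ.filter (fun g => ∃ x, ∃ a ∈ A, x * g * x⁻¹ = j a) := Finset.ext fun a => by simp [hB]
  let θ : L → ℂ := fun a => if a ∈ A then 1 else 0
  have hθ : IsClassFunction L θ := fun a g => by
    have : g * a * g⁻¹ ∈ A ↔ a ∈ A := ⟨fun h => by simpa [mul_assoc] using hA _ h g⁻¹, fun h => hA _ h g⟩
    simp only [θ, this]
  have h1 : ∀ g, ind j θ g = if ∃ x, ∃ a ∈ A, x * g * x⁻¹ = j a then 1 else 0 := fun g => by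
    split_ifs with h
    · obtain ⟨x, a, ha, e⟩ := h
      rw [← ind_classFun j θ g x, e, hTI.ind_apply hj hθ (fun y hy => if_neg hy) ha]
      exact if_pos ha
    · exact ind_eq_zero_of_forall hj θ fun x a e => if_neg fun ha => h ⟨x, a, ha, e⟩
  have h2 := ip_ind_left hj θ (isClassFunction_conj hF)
  unfold classInner at h2
  simp only [h1, θ, RingHomCompTriple.comp_apply, RingHom.id_apply, ite_mul, one_mul, zero_mul] at h2
  rw [← Finset.sum_filter, ← Finset.sum_filter] at h2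
  have h3 := card_eq_card_mul_index j.range
  rw [← Nat.card_congr (MonoidHom.ofInjective hj).toEquiv] at h3
  have h0 := card_ne_zero_complex L
  rw [inv_mul_eq_iff_eq_mul₀ (card_ne_zero_complex G), h3] at h2
  rw [h2]; field_simp

open Classical in
theorem ip_ind_one (A : Subgroup L) [A.Normal] (ψ : L → ℂ) :
    Nat.card A * ⟪ψ, indFun A (fun _ => 1)⟫ = ∑ a ∈ Finset.univ.filter (· ∈ A), ψ a := by
  have h : ∀ a, ψ a * conj (indFun A (fun _ => 1) a) = A.index * if a ∈ A then ψ a else 0 := fun a => by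
    split_ifs with h
    · rw [indFun_one_of_mem A h]; simp [mul_comm]
    · rw [indFun_of_not_mem_normal A _ h]; simp
  unfold classInner
  simp only [h]
  rw [← Finset.mul_sum, ← Finset.sum_filter, card_eq_card_mul_index A]
  have h0 := card_ne_zero_complex A
  have h1 : (A.index : ℂ) ≠ 0 := by exact_mod_cast A.index_ne_zero_of_finite
  field_simp

theorem z3_arith {q D c μ : ℤ} {S T : ℝ} (hq : 4 ≤ q) (hμ : μ = 1 ∨ μ = -1)
    (h1 : D + (q - 1) * S - q * (q - 1) = c * q ^ 3)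
    (h2 : μ * q ^ 3 * (q - 1) = (q - 1) * D + (q ^ 3 - q) * S - (c * q ^ 3 - D))
    (h3 : q ^ 3 * (q - 1) - q * (q - 1) ^ 2 ≤ T)
    (h4 : D ^ 2 + (q ^ 3 + 1) * (T + (q - 1) * S ^ 2) ≤ (q ^ 3 + 1) * (q ^ 3 * (q - 1))) : S = D := by
  have q0 : (4 : ℝ) ≤ q := by exact_mod_cast hq
  have e1 : (D : ℝ) = μ * q ^ 3 - (q ^ 2 + q - 1) * S - q := by
    have : ((q : ℝ) - 1) * (D - (μ * q ^ 3 - (q ^ 2 + q - 1) * S - q)) = 0 := by linear_combination -h2 - h1
    rcases mul_eq_zero.1 this with h | h <;> linarith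
  have e2 : S = ((μ - c) * q - 1 : ℤ) := by
    have : (q : ℝ) ^ 2 * (S - ((μ - c) * q - 1)) = 0 := by linear_combination e1 - h1
    rcases mul_eq_zero.1 this with h | h
    · nlinarith
    · push_cast; linarith
  obtain ⟨n, hn⟩ : ∃ n : ℤ, n = μ - c := ⟨_, rfl⟩
  rw [← hn] at e2
  subst e2
  have e3 : D = μ * q ^ 3 - (q ^ 2 + q - 1) * (n * q - 1) - q := by exact_mod_cast e1
  have p : (0 : ℝ) < q ^ 3 + 1 := by positivity
  have h5 : (D : ℝ) ^ 2 + (q ^ 3 + 1) * ((q - 1) * (((n * q - 1 : ℤ) : ℝ) ^ 2 - q * (q - 1))) ≤ 0 := by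
    nlinarith [mul_le_mul_of_nonneg_left h3 p.le]
  have h6 : D ^ 2 + (q ^ 3 + 1) * ((q - 1) * ((n * q - 1) ^ 2 - q * (q - 1))) ≤ 0 := by exact_mod_cast h5
  have p3 : 0 < (q ^ 3 + 1) * (q - 1) := mul_pos (by positivity) (by omega)
  have h7 : (n * q - 1) ^ 2 ≤ q * (q - 1) := by
    by_contra h
    nlinarith [mul_pos p3 (sub_pos.2 (not_le.1 h)), sq_nonneg D]
  have h8 : n = 0 ∨ n = 1 := by
    by_contra h
    rcases (show n ≤ -1 ∨ 2 ≤ n by omega) with h | h
    · have : n * q - 1 ≤ -q := by nlinarith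
      nlinarith
    · have : q ≤ n * q - 1 := by nlinarith
      nlinarith
  obtain ⟨y, rfl⟩ : ∃ y, q = y + 4 := ⟨q - 4, by ring⟩
  have y0 : 0 ≤ y := by omega
  rcases h8 with rfl | rfl <;> rcases hμ with rfl | rfl <;> subst e3
  · exfalso; ring_nf at h6; nlinarith [pow_nonneg y0 2, pow_nonneg y0 3, pow_nonneg y0 4, pow_nonneg y0 5]
  · exfalso; ring_nf at h6; nlinarith [pow_nonneg y0 2, pow_nonneg y0 3, pow_nonneg y0 4, pow_nonneg y0 5]
  · push_cast; ring
  · exfalso; ring_nf at h6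
    nlinarith [pow_nonneg y0 2, pow_nonneg y0 3, pow_nonneg y0 4, pow_nonneg y0 5, pow_nonneg y0 6]

theorem real_of_sq {K Z H : Subgroup L} (sq : ∀ x ∈ K, x * x ∈ Z) {φ : L → ℂ} (h : φ ∈ indD K H Z) :
    conjFun φ = φ := by
  obtain ⟨θ, h1, h2, -, rfl⟩ := mem_indD.1 h
  rw [conjFun_ind]
  congr 1
  funext x
  have := h1.isChar.ker_mul (h2 (x * x) (sq x x.2)) x⁻¹
  rw [mul_inv_cancel_right, h1.isChar.apply_inv] at this
  exact this.symm

theorem ip_ind_ind_one (K : Subgroup L) [K.Normal] :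
    ⟪indFun K (fun _ => 1), indFun K (fun _ => (1 : ℂ))⟫ = K.index := by
  classical
  have h := ip_ind_one K (indFun K (fun _ => 1))
  rw [Finset.sum_congr rfl fun a ha => indFun_one_of_mem K (Finset.mem_filter.1 ha).2, Finset.sum_const,
    ← Fintype.card_subtype, ← Nat.card_eq_fintype_card, nsmul_eq_mul] at h
  exact mul_left_cancel₀ (card_ne_zero_complex K) h

theorem ip_ind_one_one (K : Subgroup L) : ⟪indFun K (fun _ => 1), fun _ => (1 : ℂ)⟫ = 1 := by
  classical
  rw [inner_indFun_left K _ (isClassFunction_const 1)]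
  exact isIrr_one.inner_self

theorem ip_indD_ind_one {K H M : Subgroup L} [K.Normal] {φ : L → ℂ} (h : φ ∈ indD K H M) :
    ⟪φ, indFun K (fun _ => 1)⟫ = 0 := by
  obtain ⟨θ, h1, -, h3, rfl⟩ := mem_indD.1 h
  refine ip_indFun_indFun_of_not_conj h1 isIrr_one fun g e => h3 fun a _ => ?_
  rw [← cj_inv_cj g θ, e]; rfl

/-- the exceptional character attached to a linear character of `K` -/
theorem z3_char {j : L →* G} (hj : Function.Injective j) {K Z : Subgroup L} [K.Normal] [Z.Normal] {q : ℕ}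
    (hq : 4 ≤ q) (hTI : TIOn j {h | h ∈ K ∧ h ≠ 1}) (hf : FrobQ K K ⊥) (hZ : Z ≤ K) (iK : K.index + 1 = q)
    (iZ : Z.index = K.index * q ^ 2) (sq : ∀ x ∈ K, x * x ∈ Z) :
    ∃ φ ∈ indD K K Z, ∃ (X : G → ℂ) (c : ℤ), IsDirr X ∧ conjFun X = X ∧ ⟪X, fun _ => 1⟫ = 0 ∧
      (∀ η ∈ indD K K Z, ⟪(fun a => X (j a)) - φ, η⟫ = c) ∧ ⟪(fun a => X (j a)) - φ, indFun K (fun _ => 1)⟫ = c := by
  classical
  have hi : ∀ χ ∈ (indD K K Z : Set (L → ℂ)), IsIrrCharacter L χ := fun χ h => (hf.quot hZ).irr le_rfl h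
  have hder : ⁅K, K⁆ ≤ Z := Subgroup.commutator_le.2 fun x hx y hy => by
    have := mul_mem (mul_mem (sq _ hx) (sq _ (mul_mem (inv_mem hx) hy))) (inv_mem (sq _ hy))
    convert this using 1
    rw [commutatorElement_def]; group
  have hd : ∀ χ ∈ indD K K Z, χ 1 = K.index := fun χ h => indD_deg_of_le hder h
  have I : IsoOn (indD K K Z) (indL hj) := (hTI.isoOn hj).mono (Finset.coe_subset.2 (indD_mono le_rfl bot_le))
  obtain ⟨ν, hν⟩ := irr_uniform I hi fun a ha b hb => by rw [hd a ha, hd b hb]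
  have e0 : 0 < K.index := Nat.pos_of_ne_zero K.index_ne_zero_of_finite
  have hc : (indD K K Z).card = q + 1 := by
    have h := sum_indD_sq (K := K) hZ le_rfl
    rw [Finset.sum_congr rfl (g := fun _ => (K.index : ℝ) ^ 2) fun χ h => by
      rw [hd χ h, (hi χ h).inner_self]; simp, Finset.sum_const, nsmul_eq_mul, iZ, ← iK] at h
    have e1 : (0 : ℝ) < K.index := by exact_mod_cast e0
    have : ((indD K K Z).card : ℝ) = K.index + 1 + 1 := by
      push_cast at h
      have : (K.index : ℝ) ^ 2 * ((indD K K Z).card - (K.index + 1 + 1)) = 0 := by linear_combination h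
      rcases mul_eq_zero.1 this with h | h
      · nlinarith
      · linarith
    rw [← iK]; exact_mod_cast this
  obtain ⟨φ, hφ, φ', hφ', hne⟩ := Finset.one_lt_card.1 (show 1 < (indD K K Z).card by omega)
  have hdir : ∀ η ∈ indD K K Z, IsDirr (ν η) := fun η h => hν.dirr h (hi η h)
  have hsub : ∀ η ∈ indD K K Z, ind j (φ - η) = ν φ - ν η := fun η h => hν.sub hφ h (by rw [hd _ h, hd _ hφ])
  have horth : ∀ a ∈ indD K K Z, ∀ b ∈ indD K K Z, a ≠ b → ⟪ν a, ν b⟫ = 0 := fun a ha b hb h => by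
    rw [hν.iso a ha b hb, indD_orth ha hb h]
  have hone' : ∀ η ∈ indD K K Z, ⟪ν φ - ν η, fun _ => 1⟫ = 0 := fun η h => by
    rw [← hsub η h, ip_ind_left hj _ (isClassFunction_const 1)]
    simp [indD_ip_one h, indD_ip_one hφ]
  have hone1 : ⟪ν φ, fun _ => 1⟫ = 0 :=
    orth_of_add_orth (hdir φ hφ) (hdir φ' hφ').neg isIrr_one.isDirr (by simp [horth φ hφ φ' hφ' hne])
      (by rw [← sub_eq_add_neg]; exact hone' φ' hφ')
  have hone : ∀ η ∈ indD K K Z, ⟪ν η, fun _ => 1⟫ = 0 := fun η h => by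
    have := hone' η h
    simpa [hone1] using this
  have hreal : conjFun (ν φ) = ν φ := by
    have r1 := real_of_sq sq hφ
    have r2 := real_of_sq sq hφ'
    have := hν.map_ringHom I (starRingEnd ℂ) (fun α => ind_conj hj α) hφ hφ' (hi φ hφ) (hi φ' hφ') hne
      (by change conjFun φ ∈ _; rw [r1]; exact hφ) (by change conjFun φ' ∈ _; rw [r2]; exact hφ')
    change ν (conjFun φ) = conjFun (ν φ) at this
    rw [← this, r1]
  -- the generalized character `α`
  obtain ⟨α, hα⟩ : ∃ α, α = indFun K (fun _ => 1) - φ := ⟨_, rfl⟩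
  have gα : IsGeneralizedCharacter L α := hα ▸ isChar_one.ind.isGen.sub (hi φ hφ).isGen
  have sα : ∀ x, x ∉ {h | h ∈ K ∧ h ≠ 1} → α x = 0 := fun x hx => by
    by_cases h : x ∈ K
    · have : x = 1 := by by_contra h1; exact hx ⟨h, h1⟩
      subst this
      simp [hα, indFun_one, hd φ hφ]
    · simp [hα, indFun_of_not_mem_normal K _ h, indD_out hφ h]
  have o1 : ∀ η ∈ indD K K Z, ⟪indFun K (fun _ => 1), η⟫ = 0 := fun η h => ip_eq_zero_symm.1 (ip_indD_ind_one h)
  have n1 : ⟪ind j α, ind j α⟫ = q := by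
    rw [hTI.ip_ind hj sα gα.classFun sα, hα, ← iK]
    simp [ip_ind_ind_one, o1 φ hφ, ip_indD_ind_one hφ, (hi φ hφ).inner_self]
  have n2 : ⟪ind j α, fun _ => 1⟫ = 1 := by
    rw [ip_ind_left hj _ (isClassFunction_const 1), hα]
    simp [ip_ind_one_one, indD_ip_one hφ]
  have n3 : ∀ η ∈ indD K K Z, η ≠ φ → ⟪ind j α, ν φ - ν η⟫ = -1 := fun η h hn => by
    have m : φ - η ∈ span ℂ (indD K K Z : Set (L → ℂ)) := sub_mem (subset_span hφ) (subset_span h)
    rw [← hsub η h, hTI.ip_ind hj sα (span_indD_classFun m) (span_indD_supp m (by simp [hd _ h, hd _ hφ])), hα]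
    simp [o1 φ hφ, o1 η h, (hi φ hφ).inner_self, indD_orth hφ h hn.symm]
  obtain ⟨b, hb⟩ := (gα.indH hj).inner_int (hdir φ hφ).isGen
  have n4 : b = -1 := by
    have h := bessel_orth_le (indD K K Z) (fun η => ν η) horth (ind j α - fun _ => 1)
    have n2' : ⟪fun _ => 1, ind j α⟫ = 1 := by rw [← ip_conj_symm, n2, map_one]
    rw [← Finset.add_sum_erase _ _ hφ, Finset.sum_congr rfl (g := fun _ => ((b : ℝ) + 1) ^ 2) fun η h => by
      have h' := Finset.mem_of_mem_erase h
      have := n3 η h' (Finset.ne_of_mem_erase h)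
      rw [ip_sub_right, hb] at this
      rw [(hdir η h').ip_self, ip_sub_left, ip_eq_zero_symm.1 (hone η h'),
        show ⟪ind j α, ν η⟫ = ((b + 1 : ℝ) : ℂ) by push_cast; linear_combination -this, sub_zero, Complex.norm_real]
      simp, Finset.sum_const, Finset.card_erase_of_mem hφ, hc, (hdir φ hφ).ip_self, ip_sub_left, hb,
      ip_eq_zero_symm.1 hone1] at h
    simp only [ip_sub_left, ip_sub_right, n1, n2, n2', isIrr_one.inner_self] at h
    simp at h
    have h' : b ^ 2 + q * (b + 1) ^ 2 ≤ (q : ℤ) - 1 := by exact_mod_cast h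
    by_contra hb
    have : 1 ≤ (b + 1) ^ 2 := by
      have : b + 1 ≠ 0 := by omega
      nlinarith [sq_pos_of_ne_zero this]
    nlinarith [sq_nonneg b]
  have gψ : IsGeneralizedCharacter L ((fun a => ν φ (j a)) - φ) := ((hdir φ hφ).isGen.comp j).sub (hi φ hφ).isGen
  obtain ⟨c, hc'⟩ := gψ.inner_int (hi φ hφ).isGen
  refine ⟨φ, hφ, ν φ, c, hdir φ hφ, hreal, hone1, fun η h => ?_, ?_⟩
  · by_cases hn : η = φ
    · rw [hn, hc']
    have := ip_ind_right hj (φ - η) (hdir φ hφ).isGen.classFun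
    rw [hsub η h] at this
    simp only [ip_sub_left, ip_sub_right, (hdir φ hφ).ip_self, horth φ hφ η h (Ne.symm hn), (hi φ hφ).inner_self,
      indD_orth hφ h (Ne.symm hn)] at this hc' ⊢
    linear_combination hc' + this
  · have := ip_ind_right hj α (hdir φ hφ).isGen.classFun
    rw [← ip_conj_symm, hb, n4, hα] at this
    simp only [ip_sub_left, ip_sub_right, (hi φ hφ).inner_self, ip_indD_ind_one hφ] at this hc' ⊢
    simp at this
    linear_combination hc' - this

theorem z3_core [IsSimpleGroup G] {j : L →* G} (hj : Function.Injective j) {K Z : Subgroup L} [K.Normal] [Z.Normal]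
    {q : ℕ} (hq : 4 ≤ q) (hTI : TIOn j {h | h ∈ K ∧ h ≠ 1}) (hf : FrobQ K K ⊥) (hZ : Z ≤ K) (iK : K.index + 1 = q)
    (cK : Nat.card K = q ^ 3) (cZ : Nat.card Z = q) (iH : j.range.index = q ^ 3 + 1) (sq : ∀ x ∈ K, x * x ∈ Z)
    (sq1 : ∀ x ∈ K, x * x = 1 ↔ x ∈ Z) {s : L} (sZ : s ∈ Z) (s1 : s ≠ 1) (tr : ∀ z ∈ Z, z ≠ 1 → IsConj s z)
    (odd : ∀ g, Odd (orderOf g) ↔ ¬ ∃ x, ∃ a ∈ {h | h ∈ K ∧ h ≠ 1}, x * g * x⁻¹ = j a) : False := by
  classical
  have cL : Nat.card L = q ^ 3 * K.index := by rw [← cK, K.card_mul_index]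
  have iZ : Z.index = K.index * q ^ 2 := by
    have := Z.card_mul_index
    rw [cZ, cL] at this
    exact Nat.eq_of_mul_eq_mul_left (show 0 < q by omega) (by rw [this]; ring)
  have cG : Nat.card G = q ^ 3 * K.index * (q ^ 3 + 1) := by
    rw [← cL, ← iH, Nat.card_congr (MonoidHom.ofInjective hj).toEquiv, j.range.card_mul_index]
  have e1 : (K.index : ℝ) = q - 1 := by rw [← iK]; push_cast; ring
  have e1' : (K.index : ℂ) = q - 1 := by rw [← iK]; push_cast; ring
  obtain ⟨φ, hφ, X, c, hX, rX, oX, h1, h2⟩ := z3_char hj hq hTI hf hZ iK iZ sq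
  have hi : ∀ χ ∈ indD K K Z, IsIrrCharacter L χ := fun χ h => (hf.quot hZ).irr le_rfl h
  have hder : ⁅K, K⁆ ≤ Z := Subgroup.commutator_le.2 fun x hx y hy => by
    have := mul_mem (mul_mem (sq _ hx) (sq _ (mul_mem (inv_mem hx) hy))) (inv_mem (sq _ hy))
    convert this using 1
    rw [commutatorElement_def]; group
  have hd : ∀ χ ∈ indD K K Z, χ 1 = K.index := fun χ h => indD_deg_of_le hder h
  have cX := hX.isGen.classFun
  obtain ⟨D, hD⟩ := hX.isGen.exists_deg
  obtain ⟨x, hx⟩ : ∃ x : G → ℝ, ∀ g, X g = x g :=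
    ⟨fun g => (X g).re, fun g => (Complex.conj_eq_iff_re.1 (congrFun rX g)).symm⟩
  obtain ⟨p, hp⟩ : ∃ p : L → ℝ, ∀ g, φ g = p g :=
    ⟨fun g => (φ g).re, fun g => (Complex.conj_eq_iff_re.1 (congrFun (real_of_sq sq hφ) g)).symm⟩
  have x1 : x 1 = D := by exact_mod_cast (hx 1).symm.trans hD
  have xZ : ∀ z ∈ Z, z ≠ 1 → x (j z) = x (j s) := fun z hz h => by
    exact_mod_cast (hx _).symm.trans ((cX.of_isConj (j.map_isConj (tr z hz h))).symm.trans (hx _))
  have pZ : ∀ z ∈ Z, p z = q - 1 := fun z hz => by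
    have := ((mem_indD_iff le_rfl hZ hφ).1 hφ).1 z hz
    rw [hd φ hφ, hp, e1'] at this
    exact_mod_cast this
  -- the sets `Z#`, `K - Z`
  obtain ⟨A, hA⟩ : ∃ A : Finset L, ∀ a, a ∈ A ↔ a ∈ Z ∧ a ≠ 1 := ⟨Finset.univ.filter fun a => a ∈ Z ∧ a ≠ 1, fun a => by simp⟩
  obtain ⟨B, hB⟩ : ∃ B : Finset L, ∀ a, a ∈ B ↔ a ∈ K ∧ a ∉ Z := ⟨Finset.univ.filter fun a => a ∈ K ∧ a ∉ Z, fun a => by simp⟩
  have sZ' : ∀ {M : Type} [AddCommMonoid M] (F : L → M), ∑ a ∈ Finset.univ.filter (· ∈ Z), F a = F 1 + ∑ a ∈ A, F a :=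
    fun F => by
      rw [← Finset.sum_insert (by simp [hA])]
      exact Finset.sum_congr (Finset.ext fun a => by by_cases h : a = 1 <;> simp [hA, h, one_mem]) fun _ _ => rfl
  have sK1 : ∀ {M : Type} [AddCommMonoid M] (F : L → M),
      ∑ a ∈ Finset.univ.filter (· ∈ {h | h ∈ K ∧ h ≠ 1}), F a = ∑ a ∈ A, F a + ∑ a ∈ B, F a := fun F => by
    rw [← Finset.sum_union (Finset.disjoint_left.2 fun a h1 h2 => ((hB a).1 h2).2 ((hA a).1 h1).1)]
    refine Finset.sum_congr (Finset.ext fun a => ?_) fun _ _ => rfl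
    simp only [Finset.mem_filter, Finset.mem_univ, true_and, Set.mem_setOf_eq, Finset.mem_union, hA, hB]
    exact ⟨fun h => by by_cases h' : a ∈ Z <;> simp [h', h.1, h.2], fun h => h.elim (fun h => ⟨hZ h.1, h.2⟩)
      fun h => ⟨h.1, fun e => h.2 (e ▸ one_mem _)⟩⟩
  have sK : ∀ {M : Type} [AddCommMonoid M] (F : L → M),
      ∑ a ∈ Finset.univ.filter (· ∈ K), F a = F 1 + (∑ a ∈ A, F a + ∑ a ∈ B, F a) := fun F => by
    rw [← sK1, ← Finset.sum_insert (by simp)]
    exact Finset.sum_congr (Finset.ext fun a => by by_cases h : a = 1 <;> simp [h, one_mem]) fun _ _ => rfl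
  have cA : (A.card : ℝ) = q - 1 := by
    have := sZ' fun _ => (1 : ℝ)
    simp only [Finset.sum_const, nsmul_eq_mul, mul_one] at this
    rw [← Fintype.card_subtype, ← Nat.card_eq_fintype_card, cZ] at this
    linarith
  have cB : (B.card : ℝ) = q ^ 3 - q := by
    have := sK fun _ => (1 : ℝ)
    simp only [Finset.sum_const, nsmul_eq_mul, mul_one] at this
    rw [← Fintype.card_subtype, ← Nat.card_eq_fintype_card, cK] at this
    push_cast at this
    linarith
  have sA : ∀ F : L → ℝ, ∀ y, (∀ z ∈ Z, z ≠ 1 → F z = y) → ∑ a ∈ A, F a = (q - 1) * y := fun F y h => by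
    rw [Finset.sum_congr rfl fun a ha => h a ((hA a).1 ha).1 ((hA a).1 ha).2, Finset.sum_const, nsmul_eq_mul, cA]
  -- restriction to `Z` and to `K`
  have hc : ((indD K K Z).card : ℂ) * K.index = q ^ 2 - 1 := by
    have h := congrFun (sum_indD (K := K) hZ le_rfl) 1
    rw [Finset.sum_apply, Finset.sum_congr rfl (g := fun _ => (K.index : ℂ) ^ 2) fun χ h => by
      simp [hd χ h, (hi χ h).inner_self, pow_two], Finset.sum_const, nsmul_eq_mul] at h
    simp only [Pi.sub_apply, indFun_one, iZ, mul_one] at h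
    have : (K.index : ℂ) ≠ 0 := by exact_mod_cast K.index_ne_zero_of_finite
    push_cast at h
    exact mul_left_cancel₀ this (by linear_combination h)
  have h3 : ⟪(fun a => X (j a)) - φ, indFun Z (fun _ => 1)⟫ = c * q ^ 2 := by
    have h := sum_indD (K := K) hZ le_rfl
    rw [eq_sub_iff_add_eq] at h
    rw [← h, ip_add_right, h2, ip_sum_right, Finset.sum_congr rfl (g := fun _ => (K.index : ℂ) * c) fun χ h => by
      rw [ip_smul_right, h1 χ h, hd χ h, (hi χ h).inner_self]; simp, Finset.sum_const, nsmul_eq_mul]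
    linear_combination c * hc
  have E1 : (D : ℝ) + (q - 1) * x (j s) - q * (q - 1) = c * q ^ 3 := by
    have h := ip_ind_one Z ((fun a => X (j a)) - φ)
    rw [h3, cZ, sZ'] at h
    simp only [Pi.sub_apply, hx, hp, map_one] at h
    have h' : (q : ℝ) * (c * q ^ 2) = x 1 - p 1 + ∑ a ∈ A, (x (j a) - p a) := by exact_mod_cast h
    rw [sA _ (x (j s) - (q - 1)) fun z hz h => by rw [xZ z hz h, pZ z hz], x1, pZ 1 (one_mem _)] at h'
    linear_combination -h'
  have E2 : ∑ a ∈ A, x (j a) + ∑ a ∈ B, x (j a) = c * q ^ 3 - D := by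
    have h := ip_ind_one K (fun a => X (j a))
    rw [ip_sub_left, ip_indD_ind_one hφ, sub_zero] at h2
    rw [h2, cK, sK] at h
    simp only [hx, map_one] at h
    have h' : ((q ^ 3 : ℕ) : ℝ) * c = x 1 + (∑ a ∈ A, x (j a) + ∑ a ∈ B, x (j a)) := by exact_mod_cast h
    push_cast at h'
    linear_combination -h' - x1
  have sL : ∀ F : L → ℂ, ∑ a, F a * conj (φ a) = F 1 * p 1 + (∑ a ∈ A, F a * p a + ∑ a ∈ B, F a * p a) := fun F => by
    rw [← sK (fun a => F a * p a), Finset.sum_filter]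
    refine Finset.sum_congr rfl fun a _ => ?_
    split_ifs with h
    · rw [hp, Complex.conj_ofReal]
    · rw [indD_out hφ h]; simp
  have L0 := card_ne_zero_complex L
  have E3 : ∑ a ∈ B, p a * p a = q ^ 3 * (q - 1) - q * (q - 1) ^ 2 := by
    have h := (hi φ hφ).inner_self
    unfold classInner at h
    rw [inv_mul_eq_iff_eq_mul₀ L0, sL, cL] at h
    simp only [hp] at h
    have h' : p 1 * p 1 + (∑ a ∈ A, p a * p a + ∑ a ∈ B, p a * p a) = ((q ^ 3 * K.index : ℕ) : ℝ) * 1 := by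
      exact_mod_cast h
    rw [sA _ ((q - 1) * (q - 1)) fun z hz _ => by rw [pZ z hz], pZ 1 (one_mem _)] at h'
    push_cast at h'
    rw [e1] at h'
    linear_combination h'
  have E4 : ∑ a ∈ B, (x (j a) - p a) * p a = 0 := by
    have h := h1 φ hφ
    unfold classInner at h
    rw [inv_mul_eq_iff_eq_mul₀ L0, sL, cL] at h
    simp only [Pi.sub_apply, hp, hx, map_one] at h
    have h' : (x 1 - p 1) * p 1 + (∑ a ∈ A, (x (j a) - p a) * p a + ∑ a ∈ B, (x (j a) - p a) * p a) =
        ((q ^ 3 * K.index : ℕ) : ℝ) * c := by exact_mod_cast h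
    rw [sA _ ((x (j s) - (q - 1)) * (q - 1)) fun z hz h => by rw [pZ z hz, xZ z hz h], pZ 1 (one_mem _), x1] at h'
    push_cast at h'
    rw [e1] at h'
    linear_combination h' - (q - 1) * E1
  have E5 : (q : ℝ) ^ 3 * (q - 1) - q * (q - 1) ^ 2 ≤ ∑ a ∈ B, x (j a) ^ 2 := by
    have : 0 ≤ ∑ a ∈ B, (x (j a) - p a) ^ 2 := Finset.sum_nonneg fun _ _ => sq_nonneg _
    have h : ∑ a ∈ B, x (j a) ^ 2 = ∑ a ∈ B, (x (j a) - p a) ^ 2 + 2 * ∑ a ∈ B, (x (j a) - p a) * p a +
        ∑ a ∈ B, p a * p a := by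
      rw [Finset.mul_sum, ← Finset.sum_add_distrib, ← Finset.sum_add_distrib]
      exact Finset.sum_congr rfl fun _ _ => by ring
    linarith
  -- sums over `G`
  have hAc : ∀ a ∈ {h | h ∈ K ∧ h ≠ 1}, ∀ g : L, g * a * g⁻¹ ∈ {h | h ∈ K ∧ h ≠ 1} := fun a ha g =>
    ⟨‹K.Normal›.conj_mem a ha.1 g, fun e => ha.2 (by simpa [mul_inv_eq_one] using e)⟩
  have sG : ∀ F : G → ℝ, (∀ g h, F (h * g * h⁻¹) = F g) →
      ∑ g ∈ Finset.univ.filter (fun g => ¬ Odd (orderOf g)), F g =
        (q ^ 3 + 1) * (∑ a ∈ A, F (j a) + ∑ a ∈ B, F (j a)) := fun F hF => by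
    have h := sum_TI hj hTI hAc (F := fun g => (F g : ℂ)) (fun g h => by simp only [hF])
      (A' := Finset.univ.filter (· ∈ {h | h ∈ K ∧ h ≠ 1})) (fun a => by simp only [Finset.mem_filter, Finset.mem_univ, true_and])
      (B := Finset.univ.filter (fun g => ¬ Odd (orderOf g))) (fun g => by
        simp only [Finset.mem_filter, Finset.mem_univ, true_and, odd, not_not])
    rw [sK1, iH] at h
    exact_mod_cast h
  have cx : ∀ g h, x (h * g * h⁻¹) = x g := fun g h => by exact_mod_cast (hx _).symm.trans ((cX g h).trans (hx _))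
  have G0 := card_ne_zero_complex G
  have E6 : (D : ℝ) ^ 2 + (q ^ 3 + 1) * (∑ a ∈ B, x (j a) ^ 2 + (q - 1) * x (j s) ^ 2) ≤
      (q ^ 3 + 1) * (q ^ 3 * (q - 1)) := by
    have h := hX.ip_self
    unfold classInner at h
    rw [inv_mul_eq_iff_eq_mul₀ G0, cG] at h
    simp only [hx, Complex.conj_ofReal] at h
    have h' : ∑ g, x g * x g = ((q ^ 3 * K.index * (q ^ 3 + 1) : ℕ) : ℝ) * 1 := by exact_mod_cast h
    rw [← Finset.sum_filter_add_sum_filter_not _ (fun g => Odd (orderOf g)), sG _ fun g h => by rw [cx],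
      sA _ (x (j s) ^ 2) fun z hz h => by rw [xZ z hz h, pow_two]] at h'
    have : x 1 * x 1 ≤ ∑ g ∈ Finset.univ.filter (fun g => Odd (orderOf g)), x g * x g :=
      Finset.single_le_sum (f := fun g => x g * x g) (fun _ _ => mul_self_nonneg _) (by simp)
    push_cast at h'
    rw [e1] at h'
    simp only [pow_two (x _)] at h' ⊢
    rw [x1] at this
    nlinarith
  obtain ⟨ε, χ, hε, hχ, eX⟩ := hX.exists_sign
  have rχ : conjFun χ = χ := by
    rw [eX, conjFun_smul] at rX
    rcases hε with rfl | rfl <;> simpa using rX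
  obtain ⟨μ, hμ, h7⟩ : ∃ μ : ℤ, (μ = 1 ∨ μ = -1) ∧ ∑ g, X (g * g) = μ * Nat.card G := by
    simp only [eX, Pi.smul_apply, smul_eq_mul, ← Finset.mul_sum]
    rcases fs_real hχ rχ with h | h <;> rw [h]
    · exact ⟨ε, hε, rfl⟩
    · exact ⟨-ε, by omega, by push_cast; ring⟩
  have E7 : (μ : ℝ) * q ^ 3 * (q - 1) = (q - 1) * D + (q ^ 3 - q) * x (j s) - (c * q ^ 3 - D) := by
    rw [cG] at h7
    simp only [hx] at h7
    have h' : ∑ g, x (g * g) = μ * ((q ^ 3 * K.index * (q ^ 3 + 1) : ℕ) : ℝ) := by exact_mod_cast h7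
    rw [ip_one_right, mul_eq_zero, inv_eq_zero, or_iff_right G0] at oX
    simp only [hx] at oX
    have h0 : ∑ g, x g = 0 := by exact_mod_cast oX
    have hb : ∑ g ∈ Finset.univ.filter (fun g => Odd (orderOf g)), x (g * g) =
        ∑ g ∈ Finset.univ.filter (fun g => Odd (orderOf g)), x g := by
      have m : ∀ g ∈ Finset.univ.filter (fun g : G => Odd (orderOf g)),
          g * g ∈ Finset.univ.filter (fun g : G => Odd (orderOf g)) := fun g hg => by
        simp only [Finset.mem_filter, Finset.mem_univ, true_and] at hg ⊢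
        rw [← pow_two]; exact hg.of_dvd_nat (orderOf_pow_dvd 2)
      have inj : ∀ a ∈ Finset.univ.filter (fun g : G => Odd (orderOf g)),
          ∀ b ∈ Finset.univ.filter (fun g : G => Odd (orderOf g)), a * a = b * b → a = b := fun a ha b hb e => by
        simp only [Finset.mem_filter, Finset.mem_univ, true_and] at ha hb
        obtain ⟨n, hn⟩ := ha.mul hb
        have k : ∀ y : G, orderOf y ∣ orderOf a * orderOf b → (y * y) ^ (n + 1) = y := fun y h => by
          rw [← pow_two, ← pow_mul, show 2 * (n + 1) = orderOf a * orderOf b + 1 by omega, pow_succ,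
            orderOf_dvd_iff_pow_eq_one.1 h, one_mul]
        rw [← k a (dvd_mul_right _ _), e, k b (dvd_mul_left _ _)]
      exact Finset.sum_bij (fun g _ => g * g) m inj
        (fun b hb => by
          obtain ⟨a, ha, e⟩ := Finset.surj_on_of_inj_on_of_card_le (fun g _ => g * g) m
            (fun a b ha hb => inj a ha b hb) le_rfl b hb
          exact ⟨a, ha, e.symm⟩) fun _ _ => rfl
    rw [← Finset.sum_filter_add_sum_filter_not _ (fun g => Odd (orderOf g))] at h' h0
    rw [hb, sG _ fun g h => by rw [← cx (g * g) h]; congr 1; group,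
      sA _ D fun z hz _ => by rw [← map_mul, (sq1 z (hZ hz)).2 hz, map_one, x1],
      Finset.sum_congr (s₁ := B) rfl (g := fun _ => x (j s)) fun a ha => by
        rw [← map_mul, xZ _ (sq a ((hB a).1 ha).1) fun e => ((hB a).1 ha).2 ((sq1 a ((hB a).1 ha).1).1 e)],
      Finset.sum_const, nsmul_eq_mul, cB] at h'
    rw [sG _ cx, E2] at h0
    push_cast at h'
    rw [e1] at h'
    have p : (q : ℝ) ^ 3 + 1 ≠ 0 := by positivity
    exact mul_left_cancel₀ p (by linear_combination h0 - h')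
  have fin := z3_arith (q := q) (D := D) (c := c) (μ := μ) (S := x (j s)) (by exact_mod_cast hq) hμ
    (by exact_mod_cast E1) (by exact_mod_cast E7) (by exact_mod_cast E5) (by exact_mod_cast E6)
  have hk : j s ∈ hχ.isChar.ker := by
    have : X (j s) = X 1 := by rw [hx, hx, fin, x1]
    rw [hχ.isChar.mem_ker]
    rcases hε with rfl | rfl <;> simpa [eX] using this
  rcases IsSimpleGroup.eq_bot_or_eq_top_of_normal hχ.isChar.ker inferInstance with h | h
  · rw [h, Subgroup.mem_bot, map_eq_one_iff j hj] at hk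
    exact s1 hk
  · have : ⟪χ, fun _ => 1⟫ = 0 := by rcases hε with rfl | rfl <;> simpa [eX] using oX
    rw [ip_one_right, Finset.sum_congr rfl fun g _ => hχ.isChar.mem_ker.1 (h ▸ Subgroup.mem_top g)] at this
    simp [hχ.one_ne_zero] at this

end CfsgSuz
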