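import Cfsg.Agent.H3.Suz6
import Cfsg.Agent.H3.ZC1
import Cfsg.Agent.H3.Suz4
import Cfsg.Agent.H8.Zass7

/-! Split rank-one groups: fixed points, the subgroup `SL₂(q)`, normal subgroups, the case `V = 1`. -/

set_option autoImplicit false

namespace CfsgSuz

open Subgroup Cfsg CfsgH2 CfsgLead CfsgFT
open scoped commutatorElement

variable {G : Type*} [Group G]

theorem exists_conj_of_not_dvd [Finite G] {H L : Subgroup G} (h : H ≤ L) {p : ℕ} (hp : p.Prime) {x : G} (hx : x ∈ L)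
    (ho : orderOf x = p) (hn : ¬ p ∣ H.relIndex L) : ∃ c ∈ L, c * x * c⁻¹ ∈ H := by
  haveI := Fact.mk hp
  obtain ⟨S, hS⟩ := IsSylowIn.exists_sylowIn p H
  obtain ⟨c, hc, h2⟩ := (hS.trans_of_not_dvd h hn).exists_cj_le
    (isPGroup_zpowers_of_orderOf (k := 1) (x := x) (by simpa using ho)) (zpowers_le.2 hx)
  exact ⟨c, hc, hS.le (cj_le_iff.1 h2 x (mem_zpowers x))⟩

theorem exists_eq_comm [Finite G] {A : Subgroup G} {k : G} (hk : k ∈ N(A)) (h : A ⊓ C1(k) = ⊥) {x : G} (hx : x ∈ A) :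
    ∃ y ∈ A, x = y⁻¹ * (k * y * k⁻¹) := by
  let f : A → A := fun y => ⟨y⁻¹ * (k * y * k⁻¹), mul_mem (inv_mem y.2) (conj_mem_of_mem_normalizer hk y.2)⟩
  have hf : Function.Injective f := fun a b e => by
    have e' : (a : G)⁻¹ * (k * a * k⁻¹) = (b : G)⁻¹ * (k * b * k⁻¹) := congrArg Subtype.val e
    have : (b : G) * (a : G)⁻¹ ∈ A ⊓ C1(k) := ⟨A.mul_mem b.2 (A.inv_mem a.2), mem_centralizer_singleton_iff.2 (by
      calc (b : G) * (a : G)⁻¹ * k = b * ((a : G)⁻¹ * (k * a * k⁻¹)) * (k * (a : G)⁻¹) := by group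
        _ = k * (b * (a : G)⁻¹) := by rw [e']; group)⟩
    rw [h, mem_bot, mul_inv_eq_one] at this
    exact Subtype.ext this.symm
  obtain ⟨y, hy⟩ := Finite.surjective_of_injective hf ⟨x, hx⟩
  exact ⟨y, y.2, (congrArg Subtype.val hy).symm⟩

namespace RK

variable [Finite G] {L H Q : Subgroup G} {t s r : G} (R : RK L H Q t s r)
include R

theorem K_comm' {k y : G} (hk : k ∈ KK H t) (hy : y ∈ Q) (h1 : y ≠ 1) (h : k * y = y * k) : k = 1 :=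
  R.K_comm (R.mem_K.1 hk) hy h1 h

/-- a non-trivial element of `K` fixes only two points -/
theorem fix_K {k g : G} (hk : k ∈ KK H t) (h1 : k ≠ 1) (hg : g ∈ L) (h : g * k * g⁻¹ ∈ H) : g ∈ H ∨ g * t ∈ H := by
  by_cases hn : g ∈ H
  · exact Or.inl hn
  obtain ⟨a, ha, y, hy, rfl⟩ := R.cover g hg hn
  have h2 : t * (y * k * y⁻¹) * t ∈ H := by
    have := mul_mem (mul_mem (inv_mem ha) h) ha
    simpa [mul_assoc, R.ti] using this
  by_cases hy1 : y = 1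
  · right; simpa [hy1, R.tt''] using ha
  · exact absurd (R.K_comm' hk hy hy1 (R.cent_of_fix (R.KD hk) hy h2)) h1

theorem norm_K_elt {k a : G} (hk : k ∈ KK H t) (h1 : k ≠ 1) (ha : a ∈ L) (h : a * k * a⁻¹ ∈ DD H t) :
    a ∈ DD H t ∨ a * t ∈ DD H t := by
  have h2 := R.fix_K hk h1 (mul_mem R.tL ha) (by simpa [mul_assoc, R.ti] using (R.mem_D.1 h).2)
  rcases R.fix_K hk h1 ha (R.DH h) with h3 | h3 <;> rcases h2 with h2 | h2
  · exact absurd (by simpa using mul_mem h2 (inv_mem h3)) R.tH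
  · exact Or.inl (R.mem_D.2 ⟨h3, h2⟩)
  · exact Or.inr (R.mem_D.2 ⟨h3, by simpa [← mul_assoc, R.tt''] using h2⟩)
  · exact absurd (by simpa [mul_assoc] using mul_mem h2 (inv_mem h3)) R.tH

theorem exists_K_sqrt {k : G} (hk : k ∈ KK H t) : ∃ c ∈ KK H t, c * c = k := by
  obtain ⟨n, hn⟩ := exists_sqrt (R.odd_D (R.KD hk))
  exact ⟨_, pow_mem hk n, hn⟩

theorem Q0_comm' {x y : G} (hx : x ∈ Q0 Q) (hy : y ∈ Q) : x * y = y * x := (mem_Q0.1 hx).2.2 y hy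

/-- a strongly real element fixing a point is conjugate into `K` -/
theorem real_fix {u v g : G} (uL : u ∈ L) (u2 : u * u = 1) (v2 : v * v = 1) (hx : u * v * (u * v) ≠ 1)
    (hg : g ∈ L) (h : g * (u * v) * g⁻¹ ∈ H) : ∃ c ∈ L, c * (u * v) * c⁻¹ ∈ KK H t := by
  obtain ⟨x, hx'⟩ : ∃ x, x = g * (u * v) * g⁻¹ := ⟨_, rfl⟩
  obtain ⟨w, hw⟩ : ∃ w, w = g * u * g⁻¹ := ⟨_, rfl⟩
  have w2 : w * w = 1 := hw ▸ conj_sq u2 g
  have wx : w * x * (w * x) = 1 := by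
    have : w * x = g * v * g⁻¹ := by rw [hw, hx']; calc _ = g * (u * u) * v * g⁻¹ := by group
      _ = _ := by rw [u2, mul_one]
    rw [this]; exact conj_sq v2 g
  rw [← hx'] at h
  have wH : w ∉ H := fun hw' => hx (by
    have a := R.mem_Q0_of_sq hw' w2
    have b := R.mem_Q0_of_sq (mul_mem hw' h) wx
    have c : x * x = 1 := Q0_sq (by simpa [← mul_assoc, w2] using mul_mem a b)
    calc u * v * (u * v) = g⁻¹ * (x * x) * g := by rw [hx']; group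
      _ = 1 := by rw [c]; group)
  obtain ⟨k, hk, y, hy, e⟩ := R.invol_form (hw ▸ mul_mem (mul_mem hg uL) (inv_mem hg)) wH w2
  obtain ⟨c, hc, rfl⟩ := R.exists_K_sqrt (R.mem_K.2 hk)
  have tc : t * c = c⁻¹ * t := R.tk (R.mem_K.1 hc)
  have e2 : t = c⁻¹ * y * w * (c⁻¹ * y)⁻¹ := by
    rw [e]; calc t = c * (t * c) := by rw [tc]; group
      _ = _ := by group
  have xH : c⁻¹ * y * x * (c⁻¹ * y)⁻¹ ∈ H :=
    mul_mem (mul_mem (mul_mem (inv_mem (R.DH (R.KD hc))) (R.QH hy)) h)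
      (inv_mem (mul_mem (inv_mem (R.DH (R.KD hc))) (R.QH hy)))
  have inv : t * (c⁻¹ * y * x * (c⁻¹ * y)⁻¹) * t = (c⁻¹ * y * x * (c⁻¹ * y)⁻¹)⁻¹ := by
    conv_lhs => rw [e2]
    calc _ = c⁻¹ * y * (w * x * (w * x)) * x⁻¹ * (c⁻¹ * y)⁻¹ := by group
      _ = _ := by rw [wx]; group
  refine ⟨c⁻¹ * y * g, mul_mem (mul_mem (inv_mem (R.DL (R.KD hc))) (R.QL hy)) hg, R.mem_K.2 ?_⟩
  have : c⁻¹ * y * g * (u * v) * (c⁻¹ * y * g)⁻¹ = c⁻¹ * y * x * (c⁻¹ * y)⁻¹ := by rw [hx']; group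
  rw [this]
  exact ⟨R.mem_D.2 ⟨xH, inv ▸ inv_mem xH⟩, by rw [R.ti]; exact inv⟩

theorem cent_s {x : G} (hx : x ∈ L) (h : x * s = s * x) : x ∈ Q ⊔ VV H t := by
  obtain ⟨y, hy, d, hd, rfl⟩ := R.split (R.mem_of_comm R.sQ R.s1 hx h)
  refine mul_mem (mem_sup_left hy) (mem_sup_right (R.mem_V_of_comm hd ?_))
  have := R.Q0_comm' R.s_mem_Q0 hy
  calc d * s = y⁻¹ * (y * d * s) := by group
    _ = y⁻¹ * (s * y) * d := by rw [h]; group
    _ = s * d := by rw [this]; group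

theorem odd_K : Odd (Nat.card (KK H t)) := R.odd.of_dvd_nat (card_dvd_of_le R.KD)

theorem K_ne (big : 2 < q0 Q) : ∃ k ∈ KK H t, k ≠ 1 := by
  by_contra h
  have : KK H t = ⊥ := (eq_bot_iff_forall _).2 fun k hk => by_contra fun h1 => h ⟨k, hk, h1⟩
  have h2 := R.card_Q0'
  rw [this, card_bot, ← R.q0_eq] at h2
  omega

theorem not_cyclic_Q0 (big : 2 < q0 Q) : ¬ IsCyclic (Q0 Q) := fun h => by
  obtain ⟨g, hg⟩ := h.exists_generator
  have h1 := orderOf_eq_card_of_forall_mem_zpowers hg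
  have h2 : orderOf g ∣ 2 := orderOf_dvd_of_pow_eq_one (Subtype.ext (by simpa [pow_two] using Q0_sq g.2))
  have := Nat.le_of_dvd two_pos h2
  rw [R.q0_eq] at big
  omega

theorem conj_invol {u : G} (uL : u ∈ L) (u1 : u ≠ 1) (u2 : u * u = 1) : ∃ g ∈ L, g * u * g⁻¹ = s := by
  obtain ⟨g, hg, h⟩ := R.exists_conj_invol uL u2
  obtain ⟨a, ha, e⟩ := R.K_trans (R.QH h) (conj_ne_one u1 g) (conj_sq u2 g)
  exact ⟨a * g, mul_mem (R.DL ha.1) hg, by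
    calc _ = a * (g * u * g⁻¹) * a⁻¹ := by group
      _ = s := by rw [← e]; group⟩

/-- an odd-order subgroup normalized by `L` lies in the kernel -/
theorem odd_normal_le (big : 2 < q0 Q) {N : Subgroup G} (hN : N ≤ L) (hn : L ≤ N(N)) (ho : Odd (Nat.card N)) :
    N ≤ DD H t ⊓ C(Q) := by
  have h1 : N ≤ H := le_of_forall_cent1 (Q0_comm Q) (R.not_cyclic_Q0 big) ((Q0_le Q).trans (R.QL.trans hn))
    (by obtain ⟨n, hn⟩ := card_Q0_pow Q
        rw [hn]; exact Nat.Coprime.pow_left _ ((Nat.coprime_two_left).2 ho))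
    fun b hb b1 x hx => R.mem_of_comm (Q0_le Q hb) b1 (hN hx.1) (mem_centralizer_singleton_iff.1 hx.2)
  have h2 : N ≤ DD H t := fun x hx => R.mem_D.2 ⟨h1 hx, h1 (by
    simpa [R.ti] using conj_mem_of_mem_normalizer (hn R.tL) hx)⟩
  exact le_inf h2 (le_centralizer_of_normalize (h1.trans R.nQ) (R.QL.trans hn)
    (eq_bot_iff.2 ((inf_le_inf_right _ h2).trans (by rw [inf_comm, R.QD]))))

theorem even_normal (big : 2 < q0 Q) {N : Subgroup G} (hN : N ≤ L) (hn : L ≤ N(N)) (he : Even (Nat.card N)) :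
    Q ≤ N ∧ t ∈ N := by
  obtain ⟨u, hu, ho⟩ := exists_orderOf_eq_prime Nat.prime_two he.two_dvd
  have inv : ∀ v ∈ L, v ≠ 1 → v * v = 1 → v ∈ N := fun v hv v1 v2 => by
    obtain ⟨g, hg, e⟩ := R.conj_invol (hN hu) (fun h => by simp [h] at ho) (by rw [← pow_two, ← ho, pow_orderOf_eq_one])
    obtain ⟨g', hg', e'⟩ := R.conj_invol hv v1 v2
    have := conj_mem_of_mem_normalizer' (hn hg') (e' ▸ e ▸ conj_mem_of_mem_normalizer (hn hg) hu :)
    simpa [mul_assoc] using this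
  have tN := inv t R.tL R.t1 R.tt
  obtain ⟨k, hk, k1⟩ := R.K_ne big
  have kN : k ∈ N := by
    have := inv (k * t) (mul_mem (R.DL (R.KD hk)) R.tL) (fun e => R.tH (by
      have := inv_mem (R.DH (R.KD hk))
      rwa [← eq_inv_of_mul_eq_one_right e] at this)) (R.kt_sq (R.mem_K.1 hk))
    simpa [R.tt''] using mul_mem this tN
  refine ⟨fun x hx => ?_, tN⟩
  obtain ⟨y, hy, rfl⟩ := exists_eq_comm (R.nQ (R.DH (R.KD hk))) (R.K_fpf' hk k1) hx
  have := mul_mem (conj_mem_of_mem_normalizer' (hn (R.QL hy)) kN) (inv_mem kN)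
  simpa [mul_assoc] using this

theorem normal_cases (big : 2 < q0 Q) (hf : DD H t ⊓ C(Q) = ⊥) {N : Subgroup G} (hN : N ≤ L) (hn : L ≤ N(N))
    (h0 : N ≠ ⊥) : Q ≤ N ∧ t ∈ N := by
  rcases Nat.even_or_odd (Nat.card N) with h | h
  · exact R.even_normal big hN hn h
  · exact absurd (eq_bot_iff.2 (hf ▸ R.odd_normal_le big hN hn h)) h0

/-! ### the subgroup `L₀ = ⟨Q₀, K, t⟩` -/

end RK

def L0 (H Q : Subgroup G) (t : G) : Subgroup G := Q0 Q ⊔ KK H t ⊔ zpowers t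

namespace RK

variable [Finite G] {L H Q : Subgroup G} {t s : G} (R : RK L H Q t s s)
include R

theorem L0_aux (x : G) (hx : x ∈ Q0 Q) (h1 : x ≠ 1) :
    ∃ g ∈ Q0 Q, ∃ d ∈ KK H t, ∃ y ∈ Q0 Q, t * x * t = g * d * t * y := by
  obtain ⟨a, ha, rfl⟩ := R.K_trans (R.QH (Q0_le Q hx)) h1 (Q0_sq hx)
  have m := conj_mem_of_mem_normalizer (R.nQ0 (R.DH ha.1)) R.s_mem_Q0
  exact ⟨_, inv_mem m, _, mul_mem (R.mem_K.2 ha) (R.mem_K.2 ha), _, m, R.eqn_conj ha⟩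

theorem tKt (d : G) (hd : d ∈ KK H t) : t * d * t ∈ KK H t := by rw [R.tK hd]; exact inv_mem hd

theorem L0_RK : RK (L0 H Q t) (Q0 Q ⊔ KK H t) (Q0 Q) t s s where
  toRK0 := R.sub_RK0 (Q0_le Q) R.KD (R.KD.trans (R.DH.trans R.nQ0)) R.tKt R.L0_aux (by
    rw [R.card_Q0']; exact R.odd_K.add_one)
  sQ := R.s_mem_Q0
  s1 := R.s1
  ss := R.ss
  rQ := R.s_mem_Q0
  eqn := R.eqn

theorem L0_inf : L0 H Q t ⊓ H = Q0 Q ⊔ KK H t :=
  R.sub_inf (Q0_le Q) R.KD (R.KD.trans (R.DH.trans R.nQ0)) R.tKt R.L0_aux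

theorem L0_DD : DD (Q0 Q ⊔ KK H t) t = KK H t :=
  R.sub_DD (Q0_le Q) R.KD (R.KD.trans (R.DH.trans R.nQ0)) R.tKt R.L0_aux

theorem L0_le : L0 H Q t ≤ L :=
  sup_le (sup_le ((Q0_le Q).trans R.QL) (R.KD.trans R.DL)) (zpowers_le.2 R.tL)

theorem H0_le : Q0 Q ⊔ KK H t ≤ H := R.L0_inf ▸ inf_le_right

theorem card_L0 : Nat.card (L0 H Q t) = q0 Q * (q0 Q - 1) * (q0 Q + 1) := by
  rw [R.L0_RK.card_L, R.L0_RK.card_H, R.L0_DD, R.q0_eq, R.card_Q0']; rfl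

theorem L0_pt {y h c : G} (hy : y ∈ Q) (hh : h ∈ H) (hc : c ∈ L0 H Q t) (e : t * y = h * c) : y ∈ Q0 Q := by
  by_cases h1 : c ∈ Q0 Q ⊔ KK H t
  · exact absurd (by simpa [← e] using mul_mem (mul_mem hh (R.H0_le h1)) (inv_mem (R.QH hy))) R.tH
  obtain ⟨a, ha, z, hz, rfl⟩ := R.L0_RK.cover c hc h1
  have := (R.uniq (one_mem H) hy (mul_mem hh (R.H0_le ha)) (Q0_le Q hz) (by rw [one_mul, e]; group)).2
  exact this ▸ hz

theorem L0_real {g : G} (hg : g ∈ L0 H Q t) : ∃ u ∈ L0 H Q t, ∃ v, u * u = 1 ∧ v * v = 1 ∧ g = u * v := by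
  have R0 := R.L0_RK
  have key : ∀ g ∈ L0 H Q t, g ∉ Q0 Q ⊔ KK H t → ∃ u ∈ L0 H Q t, ∃ v, u * u = 1 ∧ v * v = 1 ∧ g = u * v :=
    fun g hg hn => by
      obtain ⟨x, hx, d, hd, y, hy, rfl⟩ := R0.canon hg hn
      rw [R.L0_DD] at hd
      exact ⟨y⁻¹ * (y * x) * y, R0.QL (mul_mem (mul_mem (inv_mem hy) (mul_mem hy hx)) hy), y⁻¹ * (d * t) * y,
        conj_sq' (Q0_sq (mul_mem hy hx)) y, conj_sq' (R.kt_sq (R.mem_K.1 hd)) y, by group⟩
  by_cases h1 : g ∈ Q0 Q ⊔ KK H t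
  swap
  · exact key g hg h1
  by_cases h2 : t * g * t ∈ Q0 Q ⊔ KK H t
  · have : g ∈ KK H t := R.L0_DD ▸ R0.mem_D.2 ⟨h1, h2⟩
    exact ⟨g * t, mul_mem hg R0.tL, t, R.kt_sq (R.mem_K.1 this), R.tt, (R.tt'' g).symm⟩
  · obtain ⟨u, hu, v, u2, v2, e⟩ := key _ (mul_mem (mul_mem R0.tL hg) R0.tL) h2
    refine ⟨t * u * t⁻¹, mul_mem (mul_mem R0.tL hu) (inv_mem R0.tL), t * v * t⁻¹, conj_sq u2 t, conj_sq v2 t, ?_⟩
    calc g = t * (t * g * t) * t := by simp [mul_assoc, R.tt', R.tt]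
      _ = _ := by rw [e, R.ti]; simp [mul_assoc, R.tt']

/-- `L₀` is semiregular on the points outside its natural orbit -/
theorem L0_semi {y g : G} (hy : y ∈ Q) (hn : y ∉ Q0 Q) (hg : g ∈ L0 H Q t) (h : Pt H t y g y) : g = 1 := by
  have R0 := R.L0_RK
  by_contra h1
  obtain ⟨n, hp⟩ := exists_prime_pow h1
  have h2 : t * y * g ^ n * (t * y)⁻¹ ∈ H := by
    rw [← conj_pow]
    exact pow_mem (by simpa [mul_assoc, R.ti, Pt] using h) n
  have hg' := pow_mem hg n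
  generalize g ^ n = x at hp h2 hg'
  have x1 : x ≠ 1 := fun e => by simp [e] at hp; exact Nat.not_prime_one hp
  have tyL := mul_mem R.tL (R.QL hy)
  have fin : ∀ c ∈ L0 H Q t, ¬ (t * y * c⁻¹ ∈ H ∨ t * y * c⁻¹ * t ∈ H) := fun c hc h => hn (h.elim
    (fun h => R.L0_pt hy h hc (by group)) fun h => R.L0_pt hy h (mul_mem R0.tL hc) (by simp [mul_assoc, R.tt']))
  by_cases h3 : x * x = 1
  · obtain ⟨c, hc, e⟩ := R0.conj_invol hg' x1 h3
    exact fin c hc (Or.inl (R.mem_of_conj R.sQ R.s1 (mul_mem tyL (inv_mem (R.L0_le hc))) (by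
      rw [← e]; simpa [mul_assoc] using h2)))
  obtain ⟨u, hu, v, u2, v2, rfl⟩ := R.L0_real hg'
  obtain ⟨c, -, hk⟩ := R.real_fix (R.L0_le hu) u2 v2 h3 tyL h2
  have hd : orderOf (u * v) ∣ Nat.card (KK H t) := orderOf_conj' c (u * v) ▸ orderOf_dvd_natCard _ hk
  obtain ⟨a, ha, h4⟩ := exists_conj_of_not_dvd R0.HL hp hg' rfl (by
    rw [R0.relIndex_H, R.card_Q0', add_assoc, Nat.dvd_add_right hd]
    exact fun h => h3 (by rw [← pow_two]; exact orderOf_dvd_iff_pow_eq_one.1 h))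
  obtain ⟨b, hb, h5⟩ := R0.real_fix hu u2 v2 h3 ha h4
  have : KK (Q0 Q ⊔ KK H t) t ≤ KK H t := R0.KD.trans R.L0_DD.le
  exact fin b hb (R.fix_K (this h5) (conj_ne_one x1 b) (mul_mem tyL (inv_mem (R.L0_le hb)))
    (by simpa [mul_assoc] using h2))

theorem L0_act {y g : G} (hy : y ∈ Q) (hn : y ∉ Q0 Q) (hg : g ∈ L0 H Q t) : ∃ z ∈ Q, z ∉ Q0 Q ∧ Pt H t y g z := by
  obtain ⟨z, hz, h⟩ := R.exists_pt (R.QL hy) (R.L0_le hg) fun h => hn (R.L0_pt hy h (inv_mem hg) (by group))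
  refine ⟨z, hz, fun h0 => hn ?_, h⟩
  obtain ⟨a, ha, e⟩ := R.pt_eq h
  exact R.L0_pt hy ha (mul_mem (mul_mem R.L0_RK.tL (R.L0_RK.QL h0)) (inv_mem hg))
    (by rw [← mul_assoc, ← mul_assoc, ← e]; group)

theorem card_diff : Nat.card {y // y ∈ Q ∧ y ∉ Q0 Q} + q0 Q = Nat.card Q := by
  classical
  rw [R.q0_eq, ← Nat.card_sum]
  exact Nat.card_congr ((Equiv.sumCongr
    (⟨fun y => ⟨⟨y.1, y.2.1⟩, y.2.2⟩, fun y => ⟨y.1, y.1.2, y.2⟩, fun _ => rfl, fun _ => rfl⟩ :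
      {y // y ∈ Q ∧ y ∉ Q0 Q} ≃ {y : Q // ¬ (y : G) ∈ Q0 Q})
    (⟨fun y => ⟨⟨y.1, Q0_le Q y.2⟩, y.2⟩, fun y => ⟨y.1, y.2⟩, fun _ => rfl, fun _ => rfl⟩ :
      Q0 Q ≃ {y : Q // (y : G) ∈ Q0 Q})).trans ((Equiv.sumComm _ _).trans (Equiv.sumCompl _)))

theorem L0_orbit {y : G} (hy : y ∈ Q) (hn : y ∉ Q0 Q) :
    ∃ f : L0 H Q t → {y // y ∈ Q ∧ y ∉ Q0 Q}, Function.Injective f ∧ ∀ g : L0 H Q t, Pt H t y g (f g) := by
  choose f h1 h2 h3 using fun g : L0 H Q t => R.L0_act hy hn g.2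
  refine ⟨fun g => ⟨f g, h1 g, h2 g⟩, fun a b e => Subtype.ext ?_, h3⟩
  have e' : f a = f b := congrArg Subtype.val e
  exact mul_inv_eq_one.1 (R.L0_semi hy hn (mul_mem a.2 (inv_mem b.2)) (R.pt_mul (h3 a) (e' ▸ R.pt_inv (h3 b))))

theorem cube_le (hne : Nat.card Q ≠ q0 Q) : q0 Q ^ 3 ≤ Nat.card Q := by
  have h := R.card_diff
  obtain ⟨⟨y, hy, hn⟩⟩ : Nonempty {y // y ∈ Q ∧ y ∉ Q0 Q} := by
    by_contra h0
    rw [not_nonempty_iff] at h0
    simp at h; exact hne h.symm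
  obtain ⟨f, hf, -⟩ := R.L0_orbit hy hn
  have h2 := Nat.card_le_card_of_injective f hf
  rw [R.card_L0] at h2
  obtain ⟨m, hm⟩ : ∃ m, q0 Q = m + 1 := ⟨_, R.q0_eq.trans R.card_Q0'⟩
  rw [hm] at h h2 ⊢
  simp only [Nat.add_sub_cancel] at h2
  nlinarith

theorem L0_trans (hc : Nat.card Q = q0 Q ^ 3) {y z : G} (hy : y ∈ Q) (hn : y ∉ Q0 Q) (hz : z ∈ Q) (hn' : z ∉ Q0 Q) :
    ∃ g ∈ L0 H Q t, Pt H t y g z := by
  obtain ⟨f, hf, h⟩ := R.L0_orbit hy hn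
  have h1 := R.card_diff
  obtain ⟨g, e⟩ := (hf.bijective_of_nat_card_le (by
    rw [R.card_L0]
    obtain ⟨m, hm⟩ : ∃ m, q0 Q = m + 1 := ⟨_, R.q0_eq.trans R.card_Q0'⟩
    rw [hc, hm] at h1
    rw [hm]
    simp only [Nat.add_sub_cancel]
    nlinarith)).2 ⟨z, hz, hn'⟩
  exact ⟨g, g.2, by simpa [e] using h g⟩

end RK

namespace RK

variable [Finite G] {L H Q : Subgroup G} {t s r : G} (R : RK L H Q t s r)
include R

theorem exists_SZb (big : 2 < q0 Q) : ∃ (F : Type) (_ : Field F) (_ : Fintype F) (_ : CharP F 2) (e₀ ζ : G → F)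
    (ρ : G → F ≃+* F), SZ L H Q t s r e₀ ζ ρ := by
  obtain ⟨u, hu, u1, u2, us⟩ := R.exists_ne_of_big big
  exact R.exists_SZ' hu u1 u2 us

theorem nil (big : 2 < q0 Q) : Group.IsNilpotent Q := by
  obtain ⟨u, hu, u1, u2, us⟩ := R.exists_ne_of_big big
  exact R.nilpotent hu u1 u2 us

theorem q0_pow : ∃ n, q0 Q = 2 ^ n := R.q0_eq ▸ card_Q0_pow Q

theorem four_le (big : 2 < q0 Q) : 4 ≤ q0 Q := by
  obtain ⟨n, hn⟩ := R.q0_pow
  rw [hn] at big ⊢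
  match n, big with
  | n + 2, _ => have := Nat.one_le_two_pow (n := n); rw [pow_add]; omega

theorem card_K' : Nat.card (KK H t) + 1 = q0 Q := (R.q0_eq.trans R.card_Q0').symm

theorem two_cases (big : 2 < q0 Q) (pg : IsPGroup 2 Q) (hna : ¬ Q ≤ C(Q)) :
    (∀ x ∈ Q, x * x ∈ Q0 Q) ∧ (Nat.card Q = q0 Q ^ 2 ∨ Nat.card Q = q0 Q ^ 3) := by
  obtain ⟨F, _, _, _, e₀, ζ, ρ, S⟩ := R.exists_SZb big
  have h := S.hg
  rw [Opi_eq_self (isPi_singleton_iff.2 pg)] at h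
  have h1 := HG.Sq_le_Z Q h hna
  refine ⟨Sq_le_iff.1 h1, ?_⟩
  rw [R.q0_eq, S.card_Q0]
  exact (h.card_cases h1 fun e => hna (e.le.trans h.cZ)).imp_left And.left

theorem pow_four (big : 2 < q0 Q) (pg : IsPGroup 2 Q) (hna : ¬ Q ≤ C(Q)) {x : G} (hx : x ∈ Q) :
    x * x * (x * x) = 1 := Q0_sq ((R.two_cases big pg hna).1 x hx)

theorem odd_exp (h4 : r * r * (r * r) = 1) (hr : r ≠ s) {n : ℕ} (hc : Nat.card Q = (2 ^ n) ^ 2) : Odd n := by
  obtain ⟨h5, rr⟩ := R.five h4 hr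
  by_contra hn
  obtain ⟨m, rfl⟩ := Nat.not_odd_iff_even.1 hn
  haveI : Fact (Nat.Prime 5) := ⟨by norm_num⟩
  have ho : orderOf (s * t) = 5 := orderOf_eq_prime h5 R.st_ne
  obtain ⟨g, hg, h⟩ := exists_conj_of_not_dvd R.HL (by norm_num) (mul_mem (R.QL R.sQ) R.tL) ho (by
    rw [R.relIndex_H, hc, ← pow_mul, show (m + m) * 2 = 4 * m by ring, pow_mul]
    have : (2 ^ 4) ^ m % 5 = 1 := by rw [Nat.pow_mod]; norm_num
    omega)
  have ne : s * t * (s * t) ≠ 1 := fun e => by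
    have := orderOf_dvd_of_pow_eq_one ((pow_two _).trans e)
    rw [ho] at this; omega
  obtain ⟨c, hc', hk⟩ := R.real_fix (R.QL R.sQ) R.ss R.tt ne hg h
  have e : c * r⁻¹ * c⁻¹ * (c * (s * t) * c⁻¹) * (c * r⁻¹ * c⁻¹)⁻¹ = (c * (s * t) * c⁻¹) ^ 2 := by
    rw [conj_pow, ← R.conj_st]; group
  have hD : c * r⁻¹ * c⁻¹ * (c * r⁻¹ * c⁻¹) ∈ DD H t := by
    rcases R.norm_K_elt hk (conj_ne_one R.st_ne c) (mul_mem (mul_mem hc' (inv_mem (R.QL R.rQ))) (inv_mem hc'))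
      (e ▸ pow_mem (R.KD hk) 2) with h | h
    · exact mul_mem h h
    · simpa [mul_assoc, R.tt', R.tt] using mul_mem h (R.conjD h)
  have := R.odd_D hD
  rw [show c * r⁻¹ * c⁻¹ * (c * r⁻¹ * c⁻¹) = c * (r * r)⁻¹ * c⁻¹ by group, orderOf_conj', rr, R.si, R.ord_s] at this
  exact absurd this (by decide)

theorem mem_Q_of_comm (hV : VV H t = ⊥) {x a : G} (hx : x ∈ L) (ha : a ∈ Q) (a1 : a ≠ 1) (a2 : a * a = 1)
    (h : x * a = a * x) : x ∈ Q := by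
  obtain ⟨k, hk, rfl⟩ := R.K_trans (R.QH ha) a1 a2
  have kH := R.DH hk.1
  have := R.cent_s (x := k * x * k⁻¹) (mul_mem (mul_mem (R.HL kH) hx) (inv_mem (R.HL kH))) (by
    calc _ = k * (x * (k⁻¹ * s * k)) * k⁻¹ := by group
      _ = _ := by rw [h]; group)
  rw [hV, sup_bot_eq] at this
  simpa [mul_assoc] using R.conjQ' kH this

omit R in
theorem exists_invol_pow {x : G} (h : ¬ Odd (orderOf x)) : ∃ n : ℕ, x ^ n ≠ 1 ∧ x ^ n * x ^ n = 1 := by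
  obtain ⟨m, hm⟩ := Nat.not_odd_iff_even.1 h
  have := orderOf_pos x
  exact ⟨m, pow_ne_one_of_lt_orderOf (by omega) (by omega), by rw [← pow_add, ← hm, pow_orderOf_eq_one]⟩

omit R in
theorem not_odd_of_two {P : Subgroup G} (pg : IsPGroup 2 P) {x : G} (hx : x ∈ P) (h1 : x ≠ 1) : ¬ Odd (orderOf x) :=
  fun h => h1 (eq_one_of_mem_pgroup_of_coprime pg hx (Nat.coprime_two_right.2 h))

end RK

theorem RK.not_cube [Finite G] [IsSimpleGroup G] {H Q : Subgroup G} {t s r : G} (R : RK ⊤ H Q t s r) (big : 2 < q0 Q)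
    (hV : VV H t = ⊥) (pg : IsPGroup 2 Q) (hna : ¬ Q ≤ C(Q)) : Nat.card Q ≠ q0 Q ^ 3 := fun hc => by
  classical
  haveI := Fintype.ofFinite G
  haveI : (Q.subgroupOf H).Normal := (normal_subgroupOf_iff_le_normalizer R.QH).2 R.nQ
  haveI : ((Q0 Q).subgroupOf H).Normal := (normal_subgroupOf_iff_le_normalizer ((Q0_le Q).trans R.QH)).2 R.nQ0
  have comm : ∀ x a : G, a ∈ Q → a ≠ 1 → x * a = a * x → x ∈ Q := fun x a ha a1 h => by
    obtain ⟨n, h1, h2⟩ := RK.exists_invol_pow (RK.not_odd_of_two pg ha a1)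
    exact R.mem_Q_of_comm hV (mem_top x) (pow_mem ha n) h1 h2 (Commute.pow_right h n)
  refine z3_core (j := H.subtype) H.subtype_injective (K := Q.subgroupOf H) (Z := (Q0 Q).subgroupOf H)
    (R.four_le big) (fun a ha b hb g e => ?_) (CfsgH3.frobQ_bot.2 fun a ha a1 x e => ?_) (fun x hx => Q0_le Q hx) ?_ ?_ ?_ ?_
    (fun x hx => (R.two_cases big pg hna).1 x hx) (fun x hx => ?_) (s := ⟨s, R.QH R.sQ⟩) R.s_mem_Q0
    (fun e => R.s1 (congrArg Subtype.val e)) (fun z hz z1 => ?_) fun g => ⟨fun ho => ?_, fun h => ?_⟩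
  · rw [range_subtype]
    exact R.mem_of_conj ha.1 (fun e => ha.2 (Subtype.ext e)) (mem_top g) (e ▸ b.2)
  · exact comm x a ha (fun e => a1 (Subtype.ext e)) (congrArg Subtype.val e)
  · rw [← R.card_K', ← one_mul (Nat.card (KK H t)), ← card_bot (G := G), ← hV, ← R.card_D', ← R.relIndex_Q]; rfl
  · rw [← hc]; exact Nat.card_congr (subgroupOfEquivOfLe R.QH).toEquiv
  · rw [R.q0_eq]; exact Nat.card_congr (subgroupOfEquivOfLe ((Q0_le Q).trans R.QH)).toEquiv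
  · rw [range_subtype, ← hc, ← R.relIndex_H, relIndex_top_right]
  · exact ⟨fun e => R.mem_Q0_iff.2 ⟨hx, congrArg Subtype.val e⟩, fun h => Subtype.ext (Q0_sq h)⟩
  · obtain ⟨k, hk, e⟩ := R.K_trans z.2 (fun e => z1 (Subtype.ext e)) (Q0_sq hz)
    exact isConj_iff.2 ⟨⟨k⁻¹, inv_mem (R.DH hk.1)⟩, Subtype.ext (by simpa using e)⟩
  · rintro ⟨x, a, ha, e⟩
    rw [← orderOf_conj' x, e] at ho
    exact RK.not_odd_of_two pg ha.1 (fun e => ha.2 (Subtype.ext e)) ho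
  · by_contra ho
    obtain ⟨n, h1, h2⟩ := RK.exists_invol_pow ho
    obtain ⟨x, -, hx⟩ := R.exists_conj_invol (mem_top _) h2
    have := comm (x * g * x⁻¹) _ hx (conj_ne_one h1 x) (by rw [← conj_pow]; exact ((Commute.refl _).pow_right n).eq)
    exact h ⟨x, ⟨_, R.QH this⟩, ⟨this, fun e => h1 (by
      have : g = 1 := by simpa [mul_inv_eq_one] using congrArg Subtype.val e
      simp [this])⟩, rfl⟩

section Perm

open MulAction CfsgH8

theorem RK0.setup {H Q : Subgroup G} {t : G} (R : RK0 ⊤ H Q t) :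
    IsRankOneSetup G (G ⧸ H) ((1 : G) : G ⧸ H) t Q := by
  have hs : stabilizer G ((1 : G) : G ⧸ H) = H := stabilizer_quotient H
  have hD := DD_stab (Ω := G ⧸ H) (a := ((1 : G) : G ⧸ H)) R.tt
  rw [hs] at hD
  have key : ∀ a b : G ⧸ H, a ≠ b → ∃ g : G, g • ((1 : G) : G ⧸ H) = a ∧ g • ((t : G) : G ⧸ H) = b := fun a b h => by
    obtain ⟨x, rfl⟩ := QuotientGroup.mk_surjective a
    obtain ⟨y, rfl⟩ := QuotientGroup.mk_surjective b
    obtain ⟨c, hc, z, hz, e⟩ := R.cover (y⁻¹ * x) (mem_top _) fun h' => h (QuotientGroup.eq.2 h').symm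
    refine ⟨x * z⁻¹, QuotientGroup.eq.2 (by simpa using R.QH hz), QuotientGroup.eq.2 ?_⟩
    have : y = x * z⁻¹ * t * c⁻¹ := by
      calc y = x * (y⁻¹ * x)⁻¹ := by group
        _ = _ := by rw [e]; simp [mul_assoc, R.ti]
    rw [this]; simpa [mul_assoc] using hc
  refine ⟨is_two_pretransitive_iff.2 fun {a b c d} h1 h2 => ?_, R.tt, R.t1, hs.symm ▸ R.tH, hs.symm ▸ R.QH,
    fun h hh x hx => R.conjQ (hs ▸ hh) hx, ?_, ?_, R.even, ?_⟩
  · obtain ⟨g, e1, e2⟩ := key a b h1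
    obtain ⟨g', e1', e2'⟩ := key c d h2
    exact ⟨g' * g⁻¹, by rw [← e1, ← e1', mul_smul, inv_smul_smul], by rw [← e2, ← e2', mul_smul, inv_smul_smul]⟩
  · rw [← R.QD, hD, ← inf_assoc, inf_of_le_left R.QH]
  · rw [hs, ← hD, R.sup_QD]
  · rw [hs, ← hD]; exact R.odd

variable [Finite G] {Ω : Type*} [MulAction G Ω] {a : Ω} {t : G} {Q : Subgroup G}

theorem zass_of_setup [IsSimpleGroup G] (hS : IsRankOneSetup G Ω a t Q) {s r : G} (R : RK ⊤ (stabilizer G a) Q t s r)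
    (big : 2 < q0 Q) (hV : VV (stabilizer G a) t = ⊥) : IsZassenhausGroup G Ω := by
  have hta : t • a ≠ a := hS.not_mem
  have hD := DD_stab (a := a) R.tt
  refine ⟨?_, hS.two_transitive, fun g b c d h1 h2 h3 e1 e2 e3 => ?_, ?_, fun N hN hT => ?_⟩
  · rcases IsSimpleGroup.eq_bot_or_eq_top_of_normal (toPermHom G Ω).ker inferInstance with h | h
    · exact ⟨fun {x y} e => (MonoidHom.ker_eq_bot_iff _).1 h (Equiv.ext e)⟩
    · have : toPermHom G Ω t = 1 := MonoidHom.mem_ker.1 (h ▸ mem_top t)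
      exact absurd (Equiv.congr_fun this a) hta
  · obtain ⟨x, x1, x2⟩ := is_two_pretransitive_iff.1 hS.two_transitive h1 hta.symm
    have m : x * g * x⁻¹ ∈ stabilizer G a ⊓ stabilizer G (t • a) :=
      ⟨mem_stabilizer_iff.2 (by rw [← x1, mul_smul, inv_smul_smul, mul_smul, e1]),
        mem_stabilizer_iff.2 (by rw [← x2, mul_smul, inv_smul_smul, mul_smul, e2])⟩
    obtain ⟨y, hy, e⟩ := pt_form hS (b := x • d) fun e => h3 (MulAction.injective x (x1.trans e.symm))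
    have c := pt_fix hS m hy (by rw [e, mul_smul, inv_smul_smul, mul_smul, e3])
    obtain ⟨k, -, hk⟩ := R.conj_into_V (X := {x * g * x⁻¹}) (by simpa [hD] using m) hy
      (fun e' => h2 (MulAction.injective x (x2.trans (by rw [e', one_smul] at e; exact e)))) (mem_centralizer_singleton_iff.2 c.symm)
    have := hk _ rfl
    rw [hV, mem_bot] at this
    by_contra h
    exact conj_ne_one (conj_ne_one h x) k this
  · obtain ⟨k, hk, k1⟩ := R.K_ne big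
    have := R.KD hk
    rw [hD] at this
    exact ⟨k, k1, a, t • a, hta.symm, this.1, this.2⟩
  · rcases IsSimpleGroup.eq_bot_or_eq_top_of_normal N hN with h | h
    · obtain ⟨⟨n, hn⟩, e⟩ := hT.exists_smul_eq a (t • a)
      obtain rfl : n = 1 := by simpa [h] using hn
      exact absurd (e.symm.trans (one_smul G a)) hta
    · refine ⟨a, fun e => R.s1 ?_⟩
      have : (⟨s, h ▸ mem_top s⟩ : N) ∈ stabilizer N a := R.QH R.sQ
      rw [e, mem_bot] at this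
      exact congrArg Subtype.val this

end Perm

/-- The case `V = 1` of the main theorem. -/
theorem RK.concl_of_V [Finite G] [IsSimpleGroup G] {H Q : Subgroup G} {t s r : G} (R : RK ⊤ H Q t s r)
    (big : 2 < q0 Q) (hV : VV H t = ⊥) :
    IsPGroup 2 Q ∧ (Nat.card Q = q0 Q ∨ ¬ Q ≤ C(Q) ∧ Nat.card Q = q0 Q ^ 2 ∧ r ≠ s) := by
  have hS := R.setup
  have hs : MulAction.stabilizer G ((1 : G) : G ⧸ H) = H := MulAction.stabilizer_quotient H
  have hZ := zass_of_setup hS (hs.symm ▸ R) big (hs.symm ▸ hV)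
  have hD := DD_stab (Ω := G ⧸ H) (a := ((1 : G) : G ⧸ H)) R.tt
  have h4 := R.four_le big
  rcases CfsgH8.zass_le_or hZ hS.not_mem (CfsgH8.KD.of_reg hS.le hS.conj_mem fun y z => pt_reg hS) with h | h
  · rw [CfsgH8.St2, ← hD, hs, R.card_D', hV, card_bot, one_mul] at h
    have h1 := R.card_K'
    obtain ⟨m, hm⟩ := card_dvd_of_le (Q0_le Q)
    rw [← R.q0_eq] at hm
    have h2 : 0 < Nat.card Q := Nat.card_pos
    have : m = 1 := by
      rcases m with _ | _ | m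
      · omega
      · rfl
      · nlinarith
    rw [this, mul_one] at hm
    exact ⟨eq_of_le_of_card_le (Q0_le Q) (by rw [hm, R.q0_eq]) ▸ pgroup_Q0 Q, Or.inl hm⟩
  · obtain ⟨-, pg, ⟨u, v, huv⟩, -⟩ := h
    have hna : ¬ Q ≤ C(Q) := fun h => huv (Subtype.ext (h v.2 u u.2))
    have hc := ((R.two_cases big pg hna).2.resolve_right (R.not_cube big hV pg hna))
    refine ⟨pg, Or.inr ⟨hna, hc, fun e => ?_⟩⟩
    subst e
    have := R.cube_le (by rw [hc]; nlinarith)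
    rw [hc] at this
    nlinarith

/-- Zassenhaus groups with a non-abelian 2-group as Frobenius kernel of the point stabiliser. -/
theorem zass_two [Finite G] [IsSimpleGroup G] {Ω : Type*} [MulAction G Ω] [Finite Ω] (hZ : IsZassenhausGroup G Ω)
    {a b : Ω} (hab : a ≠ b) {U : Subgroup G} (K : CfsgH8.KD a U) (pg : IsPGroup 2 U) (hna : ¬ U ≤ C(U)) :
    ∃ n : ℕ, Odd n ∧ 1 < n ∧ Nat.card U = (2 ^ n) ^ 2 ∧ IsCyclic (CfsgH8.St2 G a b) ∧
      Nat.card (CfsgH8.St2 G a b) = 2 ^ n - 1 ∧ ∃ (F : Type) (_ : Field F) (_ : Fintype F) (φ : F ≃+* F),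
        Fintype.card F = 2 ^ n ∧ Nonempty (U ≃* suzukiTypeA F (φ : F →+* F)) := by
  have Z := CfsgH8.Z3.of_zass hZ
  have he : 2 ∣ Nat.card U := dvd_card_of_isPGroup pg (K.ne_bot Z)
  obtain ⟨u, hu, ho⟩ := exists_orderOf_eq_prime Nat.prime_two he
  have u1 : u ≠ 1 := fun e => by simp [e] at ho
  have u2 : u * u = 1 := by rw [← pow_two, ← ho, pow_orderOf_eq_one]
  obtain ⟨g, g1, g2⟩ := Z.trans (a := b) (b := u • b) (fun e => u1 (K.free u hu b hab.symm e.symm)) hab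
  obtain ⟨t, ht⟩ : ∃ t, t = g * u * g⁻¹ := ⟨_, rfl⟩
  obtain rfl : t • a = b := by rw [ht, ← g1, mul_smul, inv_smul_smul, mul_smul, g2]
  have hS : IsRankOneSetup G Ω a t U := by
    refine ⟨Z.two, ht ▸ conj_sq u2 g, ht ▸ conj_ne_one u1 g, hab.symm, K.fix, K.norm,
      (eq_bot_iff_forall _).2 fun x hx => K.free x hx.1 _ hab.symm hx.2, le_antisymm (sup_le K.fix inf_le_left)
      fun x hx => ?_, even_iff_two_dvd.2 he, ?_⟩
    · obtain ⟨y, hy, d, hd, rfl⟩ := K.decomp hab.symm hx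
      exact mul_mem (mem_sup_left hy) (mem_sup_right hd)
    · refine Odd.of_dvd_nat ?_ (K.dvd Z hab.symm)
      exact Nat.Even.sub_odd Nat.card_pos (even_iff_two_dvd.2 he) odd_one
  obtain ⟨s, r, R⟩ := (rk0_of_setup hS).exists_RK
  have hD := DD_stab (a := a) R.tt
  have hV : VV (MulAction.stabilizer G a) t = ⊥ := (eq_bot_iff_forall _).2 fun v hv => by_contra fun h =>
    R.s1 (K.fpf Z hab.symm (hD.le (R.VD hv)) h R.sQ (R.V_cent hv).1)
  have hK : KK (MulAction.stabilizer G a) t = CfsgH8.St2 G a (t • a) := by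
    rw [CfsgH8.St2, ← hD, ← R.sup_VK, hV, bot_sup_eq]
  have big : 2 < q0 U := by
    have := (one_lt_card_iff_ne_bot _).2 (CfsgH8.St2_ne_bot hZ hab)
    rw [← R.card_K', hK]; omega
  obtain ⟨n, hn⟩ := R.q0_pow
  obtain ⟨-, h | ⟨-, hc, hr⟩⟩ := R.concl_of_V big hV
  · exact absurd (by rw [← eq_of_le_of_card_le (Q0_le U) (by rw [h, R.q0_eq])]; exact Q0_comm U) hna
  obtain ⟨F, _, _, _, e₀, ζ, ρ, S⟩ := R.exists_SZb big
  have h := S.hg
  rw [Opi_eq_self (isPi_singleton_iff.2 pg)] at h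
  have hF : Nat.card F = 2 ^ n := by rw [← S.card_Q0, ← R.q0_eq, hn]
  obtain ⟨θ, -, -, hθ⟩ := h.typeA' hna (by rw [hc, hF, hn])
  rw [hn] at hc big
  refine ⟨n, R.odd_exp (R.pow_four (hn ▸ big) pg hna R.rQ) hr hc, ?_, hc, hK ▸ R.cyclic_K, ?_, F, inferInstance, inferInstance, θ, ?_, hθ⟩
  · by_contra h
    interval_cases n <;> simp at big
  · rw [← hK, ← hn, ← R.card_K']; rfl
  · rw [← hF, Nat.card_eq_fintype_card]

theorem zass_two_suzuki [Finite G] [IsSimpleGroup G] {Ω : Type*} [MulAction G Ω] [Finite Ω]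
    (hZ : IsZassenhausGroup G Ω) {a : Ω} {U : Subgroup G} (K : CfsgH8.KD a U) (pg : IsPGroup 2 U)
    (hna : ∃ u v : U, u * v ≠ v * u) : IsSuzuki G := by
  have Z := CfsgH8.Z3.of_zass hZ
  obtain ⟨b, hb, -⟩ := Z.third a a
  obtain ⟨u, v, huv⟩ := hna
  obtain ⟨n, ⟨m, rfl⟩, h1, h2, -, h3, -⟩ := zass_two hZ hb.symm K pg fun h => huv (Subtype.ext (h v.2 u u.2))
  exact ⟨inferInstance, m, by omega, by rw [K.card_G Z hb, h2, h3]; ring⟩

end CfsgSuz
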