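import Cfsg.Agent.H3.ZC1

/-! Coherence for the characters of a group with a nilpotent normal subgroup that do not contain a central subgroup in
their kernel, and characters induced from linear characters of a point stabiliser of a doubly transitive group. -/

set_option autoImplicit false

open Module Cfsg CfsgH3 Submodule CfsgH3.IP
open scoped ComplexConjugate commutatorElement

namespace CfsgSuz

attribute [local simp] ip_add_left ip_add_right ip_sub_left ip_sub_right ip_neg_left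
  ip_neg_right ip_smul_left ip_smul_right ip_zero_left ip_zero_right

universe u v w x

variable {L : Type u} [Group L] [Fintype L] {G : Type x} [Group G] [Fintype G]

theorem coh_ppow {S : Set (L → ℂ)} {τ : (L → ℂ) →ₗ[ℂ] (G → ℂ)} (C : CohSys S τ) {X : Finset (L → ℂ)} (hXS : ↑X ⊆ S)
    (hcc : CC (X : Set (L → ℂ))) (hirr : ∀ χ ∈ X, IsIrrCharacter L χ) {p d t N : ℕ} (hp : p.Prime) (hp2 : p ≠ 2)
    (hd : ¬ p ∣ d) (h1 : ∀ χ ∈ X, ∃ k, χ 1 = d * p ^ k ∧ 2 * k ≤ t)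
    (hN : ∑ ξ ∈ X, (ξ 1).re ^ 2 / ⟪ξ, ξ⟫.re = N) (hN' : p ^ t ∣ N) : Coh X τ := by
  classical
  have e0 : 0 < d := Nat.pos_of_ne_zero fun e => hd (e ▸ dvd_zero p)
  choose! k hk hk' using h1
  have kc : ∀ χ ∈ X, k (conjFun χ) = k χ := fun χ hχ => by
    have := hk _ (hcc χ hχ)
    rw [(hirr χ hχ).isChar.conjFun_one, hk χ hχ, mul_right_inj' (by exact_mod_cast e0.ne')] at this
    exact (Nat.pow_right_injective hp.two_le (by exact_mod_cast this)).symm
  have cc : ∀ n, CC (X.filter (fun χ => k χ < n) : Set (L → ℂ)) := fun n χ hχ => by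
    rw [Finset.mem_coe, Finset.mem_filter] at hχ ⊢
    exact ⟨hcc χ hχ.1, kc χ hχ.1 ▸ hχ.2⟩
  have hsum : ∀ T ⊆ X, ∑ ξ ∈ T, (ξ 1).re ^ 2 / ⟪ξ, ξ⟫.re = (d ^ 2 * ∑ ξ ∈ T, p ^ (2 * k ξ) : ℕ) :=
    fun T hT => by
      push_cast
      rw [Finset.mul_sum]
      refine Finset.sum_congr rfl (fun ξ hξ => ?_)
      rw [(hirr ξ (hT hξ)).inner_self, hk ξ (hT hξ), ← Nat.cast_pow, ← Nat.cast_mul, Complex.natCast_re]
      simp [mul_pow, ← pow_mul, mul_comm]
  have htot : p ^ t ∣ ∑ ξ ∈ X, p ^ (2 * k ξ) := by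
    have a := hsum X subset_rfl
    rw [hN, Nat.cast_inj] at a
    exact (Nat.Coprime.pow t 2 (hp.coprime_iff_not_dvd.mpr hd)).dvd_of_dvd_mul_left (a ▸ hN')
  have sub : ∀ n, (X.filter (fun χ => k χ < n) : Set (L → ℂ)) ⊆ S := fun n =>
    (Finset.coe_subset.2 (Finset.filter_subset _ _)).trans hXS
  have key : ∀ n, Coh (X.filter (fun χ => k χ < n)) τ := fun n => by
    induction n with
    | zero => simpa using coh_empty τ
    | succ n ih =>
      rcases (X.filter (fun χ => k χ < n)).eq_empty_or_nonempty with e | ⟨φ, hφ⟩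
      · refine C.unif _ (sub _) (cc _) (fun a ha b hb => ?_)
        rw [Finset.mem_coe, Finset.mem_filter] at ha hb
        have := Finset.filter_eq_empty_iff.mp e ha.1
        have := Finset.filter_eq_empty_iff.mp e hb.1
        rw [hk a ha.1, hk b hb.1, show k a = k b by omega]
      refine C.extend_all (sub _) (cc _) (Finset.monotone_filter_right _ (fun _ _ h => by omega)) (cc _)
        ih hφ (fun χ hχ hn => ?_)
      rw [Finset.mem_filter] at hχ hn hφ
      have e : k χ = n := by have := not_and.mp hn hχ.1; omega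
      obtain ⟨r, hr⟩ : ∃ r, n = k φ + 1 + r := ⟨n - k φ - 1, by omega⟩
      rw [hk χ hχ.1, hk φ hφ.1, hsum _ (Finset.filter_subset _ _), e]
      refine ⟨⟨p ^ (1 + r), by rw [hr]; push_cast; ring⟩, ?_⟩
      have a : p ^ (2 * n) ∣ ∑ ξ ∈ X.filter (fun χ => k χ < n), p ^ (2 * k ξ) := by
        rw [← Finset.sum_filter_add_sum_filter_not X (fun χ => k χ < n)] at htot
        exact (Nat.dvd_add_left (Finset.dvd_sum (fun ξ hξ => pow_dvd_pow _ (by
          have := (Finset.mem_filter.mp hξ).2; omega)))).mp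
          ((pow_dvd_pow _ (e ▸ hk' χ hχ.1)).trans htot)
      have b := Nat.le_of_dvd (Finset.sum_pos (fun _ _ => pow_pos hp.pos _) ⟨φ, Finset.mem_filter.mpr hφ⟩) a
      have c : 2 * p ^ k φ < p ^ n := by
        have : 3 ≤ p := by have := hp.two_le; omega
        have c1 := pow_pos hp.pos (k φ)
        have c2 : 1 ≤ p ^ r := pow_pos hp.pos r
        rw [hr, pow_add, pow_succ]
        nlinarith [Nat.mul_le_mul this c2]
      simp only [← Nat.cast_pow, ← Nat.cast_mul, Complex.natCast_re]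
      have d' : 2 * (d * p ^ n) * (d * p ^ k φ) < d ^ 2 * p ^ (2 * n) := by
        rw [two_mul n, pow_add]
        nlinarith [Nat.mul_lt_mul_of_pos_left c (Nat.mul_pos (pow_pos e0 2) (pow_pos hp.pos n))]
      exact_mod_cast d'.trans_le (Nat.mul_le_mul_left _ b)
  refine (key (t + 1)).mono (fun χ hχ => Finset.mem_coe.mpr (Finset.mem_filter.mpr ⟨hχ, ?_⟩))
  have := hk' χ hχ; omega

theorem indD_sup {K Z M : Subgroup L} [M.Normal] (hZ : Z ≤ K) (hM : M ≤ K) : indD K (Z ⊔ M) M = indD K Z M := by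
  ext χ
  simp only [mem_indD]
  exact exists_congr fun θ => and_congr_right fun h => and_congr_right fun h2 => by
    rw [kerIn_sup hZ hM h.isChar, and_iff_left h2]

theorem sum_indD_sq' {K Z M : Subgroup L} [K.Normal] [Z.Normal] [M.Normal] (hZ : Z ≤ K) (hM : M ≤ K)
    (h : Z ⊓ M = ⊥) : ∑ χ ∈ indD K Z M, (χ 1).re ^ 2 / ⟪χ, χ⟫.re =
      ((Nat.card Z - 1) * ((Z ⊔ M).relIndex K * K.index) : ℕ) := by
  rw [← indD_sup hZ hM, sum_indD_sq le_sup_right (sup_le hZ hM), Subgroup.relIndex_mul_index (sup_le hZ hM),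
    ← Subgroup.relIndex_mul_index (le_sup_right : M ≤ Z ⊔ M), Subgroup.relIndex_sup_right,
    ← Subgroup.inf_relIndex_right, inf_comm, h, Subgroup.relIndex_bot_left, Nat.cast_mul, Nat.cast_mul,
    Nat.cast_pred Nat.card_pos]
  ring

/-- the `p`-part of an irreducible character of `K = P × A` -/
theorem exists_ppart {K P A Z : Subgroup L} [K.Normal] [P.Normal] [A.Normal] (hK : P ⊔ A = K)
    (hc : (Nat.card P).Coprime (Nat.card A)) (hZ : Z ≤ P) {θ : K → ℂ} (hθ : IsIrrCharacter K θ) (h : ¬ kerIn Z θ) :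
    ∃ (ψ : K → ℂ) (e : ℕ), IsIrrCharacter K ψ ∧ kerIn A ψ ∧ ¬ kerIn Z ψ ∧ θ 1 = e * ψ 1 := by
  classical
  have hP : P ≤ K := hK ▸ le_sup_left
  have hA : A ≤ K := hK ▸ le_sup_right
  have comm : ∀ a ∈ P, ∀ b ∈ A, Commute a b := fun a ha b hb =>
    Subgroup.commute_of_normal_of_disjoint P A inferInstance inferInstance
      (Subgroup.disjoint_of_coprime_natCard hc) a b ha hb
  have dec : ∀ x ∈ K, ∃ a ∈ P, ∃ b ∈ A, a * b = x := fun x hx => by
    rw [← hK, ← SetLike.mem_coe, Subgroup.mul_normal] at hx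
    exact hx
  obtain ⟨n, n1, n2⟩ := Nat.chineseRemainder hc 1 0
  have pP : ∀ a ∈ P, a ^ n = a := fun a ha => by
    rw [← pow_one a, ← pow_mul, one_mul]
    exact pow_eq_pow_iff_modEq.2 (n1.of_dvd (Subgroup.orderOf_dvd_natCard P ha))
  have pA : ∀ b ∈ A, b ^ n = 1 := fun a ha => by
    rw [← pow_zero a]
    exact pow_eq_pow_iff_modEq.2 (n2.of_dvd (Subgroup.orderOf_dvd_natCard A ha))
  have pw : ∀ a ∈ P, ∀ b ∈ A, (a * b) ^ n = a := fun a ha b hb => by
    rw [(comm a ha b hb).mul_pow, pP a ha, pA b hb, mul_one]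
  let π : K →* P.subgroupOf K := MonoidHom.mk' (fun x => ⟨x ^ n, by
    obtain ⟨a, ha, b, hb, e⟩ := dec x x.2
    rw [Subgroup.mem_subgroupOf, Subgroup.coe_pow, ← e, pw a ha b hb]; exact ha⟩) fun x y => by
      obtain ⟨a, ha, b, hb, e⟩ := dec x x.2
      obtain ⟨c, hc, d, hd, e'⟩ := dec y y.2
      refine Subtype.ext (Subtype.ext ?_)
      change ((x : L) * y) ^ n = (x : L) ^ n * (y : L) ^ n
      rw [← e, ← e', pw a ha b hb, pw c hc d hd, show a * b * (c * d) = a * c * (b * d) by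
        rw [mul_assoc, ← mul_assoc b, ← (comm c hc b hb).eq]; group, pw _ (mul_mem ha hc) _ (mul_mem hb hd)]
  have πP : ∀ x : P.subgroupOf K, π x = x := fun x => Subtype.ext (Subtype.ext (pP _ x.2))
  haveI := Fintype.ofFinite K
  haveI := Fintype.ofFinite (P.subgroupOf K)
  obtain ⟨ψ, hψ, h0⟩ := hθ.exists_res_constituent (P.subgroupOf K)
  obtain ⟨e, -, -, he⟩ := clifford_invariant' hθ hψ (fun g => by
    obtain ⟨a, ha, b, hb, e⟩ := dec g g.2
    funext x
    rw [cj_apply, ← hψ.classFun x ⟨⟨a, hP ha⟩, ha⟩]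
    congr 1
    refine Subtype.ext (Subtype.ext ?_)
    change (g : L) * x * (g : L)⁻¹ = a * x * a⁻¹
    rw [← e, mul_assoc a, ← (comm ((x : K) : L) x.2 b hb).eq]; group) h0
  refine ⟨fun x => ψ (π x), e, hψ.comp_surjective π fun x => ⟨x, πP x⟩, fun a ha => ?_, fun h' => h fun a ha => ?_, ?_⟩
  · beta_reduce
    rw [map_one, show π a = 1 from Subtype.ext (Subtype.ext (pA _ ha))]
  · have := h' a ha
    simp only [map_one] at this
    rw [he ⟨a, hZ ha⟩, ← πP ⟨a, hZ ha⟩, this, ← he 1]; rfl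
  · simpa using he 1

theorem coh_nil {τ : (L → ℂ) →ₗ[ℂ] (G → ℂ)} {K P A Z : Subgroup L} [K.Normal] [P.Normal] [A.Normal] [Z.Normal]
    [Group.IsNilpotent K] (I : IsoOn (indD K Z ⊥) τ) (hK : P ⊔ A = K) {p : ℕ} (hp : p.Prime) (hp2 : p ≠ 2)
    (hP : IsPGroup p P) (hA : ¬ p ∣ Nat.card A) (hA0 : A ≠ ⊥) (hpK : ¬ p ∣ K.index) (hZ : Z ≤ P) (hZ0 : Z ≠ ⊥)
    (hZc : ∀ z ∈ Z, ∀ k ∈ K, z * k = k * z) (hf : FrobQ K Z ⊥) (hbig : 2 * K.index + 1 ≤ Nat.card Z) :
    Coh (indD K Z ⊥) τ := by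
  classical
  haveI := Fact.mk hp
  have hPK : P ≤ K := hK ▸ le_sup_left
  have hAK : A ≤ K := hK ▸ le_sup_right
  have hZK := hZ.trans hPK
  have hirr : ∀ χ ∈ indD K Z ⊥, IsIrrCharacter L χ := fun χ h => hf.irr hZK h
  have C := irr_cohSys I hirr (indD_cc Z ⊥)
  obtain ⟨a, ha⟩ := hP.exists_card_eq
  have hc : (Nat.card P).Coprime (Nat.card A) := ha ▸ Nat.Coprime.pow_left a (hp.coprime_iff_not_dvd.2 hA)
  have hcZ := hc.coprime_dvd_left (Subgroup.card_dvd_of_le hZ)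
  have dis : ∀ M ≤ A, Z ⊓ M = ⊥ := fun M hM =>
    (Subgroup.disjoint_of_coprime_natCard (hcZ.coprime_dvd_right (Subgroup.card_dvd_of_le hM))).eq_bot
  have iA : A.relIndex K ∣ p ^ a := by
    rw [← hK, Subgroup.relIndex_sup_right, ← ha]; exact Subgroup.relIndex_dvd_card A P
  obtain ⟨t, -, ht⟩ := (Nat.dvd_prime_pow hp).1
    ((Subgroup.relIndex_dvd_of_le_left K (le_sup_right : A ≤ Z ⊔ A)).trans iA)
  have cen : ∀ M : Subgroup L, M.Normal → ∀ x ∈ Z ⊔ M, ∀ y ∈ K, x * y * x⁻¹ * y⁻¹ ∈ ⁅M, K⁆ := fun M hM x hx y hy => by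
    rw [← SetLike.mem_coe, Subgroup.mul_normal] at hx
    obtain ⟨z, hz, m, hm, rfl⟩ := hx
    have h1 := Subgroup.commutator_mem_commutator hm hy
    have h2 : z * (m * y * m⁻¹) = m * y * m⁻¹ * z := hZc z hz _ (‹K.Normal›.conj_mem y hy m)
    convert h1 using 1
    rw [commutatorElement_def]
    calc z * m * y * (z * m)⁻¹ * y⁻¹ = z * (m * y * m⁻¹) * z⁻¹ * y⁻¹ := by group
      _ = _ := by rw [h2]; group
  have pdeg : ∀ θ : K → ℂ, IsIrrCharacter K θ → kerIn ⁅A, K⁆ θ → ∃ k, θ 1 = p ^ k ∧ 2 * k ≤ t := fun θ hθ h => by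
    obtain ⟨d, -, hd⟩ := hθ.exists_deg
    have h1 := hθ.deg_dvd_index_of_le_cent hd (A.subgroupOf K) fun x hx => hθ.mem_cent_of_comm fun y =>
      h _ (Subgroup.commutator_mem_commutator hx y.2)
    obtain ⟨k, -, rfl⟩ := (Nat.dvd_prime_pow hp).1 (h1.trans iA)
    have := deg_bound_rel hθ hd h (sup_le hZK hAK) le_rfl (cen A inferInstance)
    rw [Subgroup.relIndex_self, one_pow, one_mul, ht, ← pow_mul, Nat.pow_le_pow_iff_right hp.one_lt] at this
    exact ⟨k, by rw [hd, Nat.cast_pow], by omega⟩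
  have hAA : ⁅A, K⁆ ≤ A := Subgroup.commutator_le_left A K
  have h0 : Coh (indD K Z ⁅A, K⁆) τ := by
    refine coh_ppow C (Finset.coe_subset.2 (indD_mono le_rfl bot_le)) (indD_cc _ _)
      (fun χ h => hirr χ (indD_mono le_rfl bot_le h)) hp hp2 hpK (t := t) (fun χ h => ?_)
      (sum_indD_sq' hZK (hAA.trans hAK) (dis _ hAA)) ?_
    · obtain ⟨θ, h1, h2, -, rfl⟩ := mem_indD.1 h
      obtain ⟨k, e, hk⟩ := pdeg θ h1 h2
      exact ⟨k, by rw [indFun_one, e], hk⟩
    · exact ((ht ▸ Subgroup.relIndex_dvd_of_le_left K (sup_le_sup_left hAA Z)).mul_right _).mul_left _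
  -- a character of least degree
  have hne : ∃ k, ∃ θ : K → ℂ, IsIrrCharacter K θ ∧ kerIn A θ ∧ ¬ kerIn Z θ ∧ θ 1 = p ^ k := by
    obtain ⟨χ, hχ⟩ := indD_nonempty (K := K) (bot_lt_iff_ne_bot.2 hZ0) hZK
    obtain ⟨θ, h1, -, h3, -⟩ := mem_indD.1 hχ
    obtain ⟨ψ, -, a1, a2, a3, -⟩ := exists_ppart hK hc hZ h1 h3
    obtain ⟨k, e, -⟩ := pdeg ψ a1 (a2.mono hAA)
    exact ⟨k, ψ, a1, a2, a3, e⟩
  obtain ⟨φ, f1, f2, f3, f4⟩ := Nat.find_spec hne
  have f5 : 2 * Nat.find hne ≤ t := by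
    obtain ⟨k, e, hk⟩ := pdeg φ f1 (f2.mono hAA)
    rw [f4] at e
    rw [Nat.pow_right_injective hp.two_le (show p ^ Nat.find hne = p ^ k by exact_mod_cast e)]; exact hk
  obtain ⟨M, ⟨m1, m2, m3⟩, hM⟩ := (wellFounded_lt (α := Subgroup L)).has_min
    {M | M.Normal ∧ M ≤ ⁅A, K⁆ ∧ Coh (indD K Z M) τ} ⟨_, inferInstance, le_rfl, h0⟩
  by_cases hb : M = ⊥
  · exact hb ▸ m3
  have hMA := m2.trans hAA
  have hMM : ⁅M, K⁆ ≤ M := Subgroup.commutator_le_left M K
  refine absurd (lt_of_le_of_ne hMM fun e => hb (eq_bot_of_le_commutator (hMA.trans hAK) e.ge))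
    (hM _ ⟨inferInstance, hMM.trans m2, ?_⟩)
  refine C.extend_all (Finset.coe_subset.2 (indD_mono le_rfl bot_le)) (indD_cc _ _) (indD_mono le_rfl hMM) (indD_cc _ _)
    m3 (ind_mem_indD f1 (f2.mono hMA) f3) fun χ hχ _ => ?_
  obtain ⟨θ, h1, h2, h3, rfl⟩ := mem_indD.1 hχ
  obtain ⟨ψ, e, a1, a2, a3, a4⟩ := exists_ppart hK hc hZ h1 h3
  obtain ⟨k, a5, -⟩ := pdeg ψ a1 (a2.mono hAA)
  obtain ⟨r, hr⟩ := Nat.exists_eq_add_of_le (Nat.find_min' hne ⟨ψ, a1, a2, a3, a5⟩)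
  obtain ⟨d, -, hd⟩ := h1.exists_deg
  have b1 := deg_bound_rel h1 hd h2 (sup_le hZK (hMA.trans hAK)) le_rfl (cen M m1)
  rw [Subgroup.relIndex_self, one_pow, one_mul] at b1
  have b2 : p ^ t < (Z ⊔ M).relIndex K := by
    have lt : Z ⊔ M < Z ⊔ A := lt_of_le_of_ne (sup_le_sup_left hMA Z) fun e => hA0 (by
      refine eq_bot_of_le_commutator hAK fun x hx => m2 ?_
      have hx' : x ∈ Z ⊔ M := e ▸ Subgroup.mem_sup_right hx
      rw [← SetLike.mem_coe, Subgroup.mul_normal] at hx'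
      obtain ⟨z, hz, m, hm, rfl⟩ := hx'
      have : z ∈ Z ⊓ A := ⟨hz, by simpa using A.mul_mem hx (A.inv_mem (hMA hm))⟩
      rw [dis A le_rfl, Subgroup.mem_bot] at this
      simpa [this] using hm)
    rw [← ht, ← Subgroup.relIndex_mul_relIndex _ _ _ lt.le (sup_le hZK hAK)]
    have c1 : (Z ⊔ M).relIndex (Z ⊔ A) ≠ 1 := fun e => lt.not_ge (Subgroup.relIndex_eq_one.1 e)
    have c2 : (Z ⊔ M).relIndex (Z ⊔ A) ≠ 0 := Subgroup.index_ne_zero_of_finite
    have c3 : (Z ⊔ A).relIndex K ≠ 0 := Subgroup.index_ne_zero_of_finite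
    exact lt_mul_of_one_lt_left (by omega) (by omega)
  rw [indFun_one, indFun_one, f4, sum_indD_sq' hZK (hMA.trans hAK) (dis M hMA)]
  refine ⟨⟨e * p ^ r, by rw [a4, a5, hr]; push_cast; ring⟩, ?_⟩
  rw [hd]
  simp only [← Nat.cast_pow, ← Nat.cast_mul, Complex.natCast_re]
  have b3 : d * p ^ Nat.find hne < (Z ⊔ M).relIndex K := by
    refine lt_of_pow_lt_pow_left₀ 2 (Nat.zero_le _) ?_
    have : (p ^ Nat.find hne) ^ 2 ≤ p ^ t := by rw [← pow_mul]; exact Nat.pow_le_pow_right hp.pos (by omega)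
    calc (d * p ^ Nat.find hne) ^ 2 = d ^ 2 * (p ^ Nat.find hne) ^ 2 := by ring
      _ ≤ (Z ⊔ M).relIndex K * p ^ t := Nat.mul_le_mul b1 this
      _ < _ := by rw [pow_two]; exact Nat.mul_lt_mul_of_pos_left b2 (by omega)
  have e0 : 0 < K.index := Nat.pos_of_ne_zero K.index_ne_zero_of_finite
  have b4 : 2 * (K.index * d) * (K.index * p ^ Nat.find hne) <
      (Nat.card Z - 1) * ((Z ⊔ M).relIndex K * K.index) :=
    calc _ = 2 * K.index * (d * p ^ Nat.find hne * K.index) := by ring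
      _ < 2 * K.index * ((Z ⊔ M).relIndex K * K.index) :=
        Nat.mul_lt_mul_of_pos_left (Nat.mul_lt_mul_of_pos_right b3 e0) (by omega)
      _ ≤ _ := Nat.mul_le_mul_right _ (by omega)
  exact_mod_cast b4

theorem const_of_orth {K Z : Subgroup L} [K.Normal] [Z.Normal] (hZ : Z ≤ K)
    (hirr : ∀ χ ∈ indD K Z ⊥, IsIrrCharacter L χ) {f : L → ℂ} (hf : IsClassFunction L f)
    (h : ∀ χ ∈ indD K Z ⊥, ∀ φ ∈ indD K Z ⊥, ⟪f, φ 1 • χ - χ 1 • φ⟫ = 0) :
    ∀ z ∈ Z, ∀ z' ∈ Z, z ≠ 1 → z' ≠ 1 → f z = f z' := fun z hz z' hz' h1 h1' => by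
  classical
  obtain ⟨φ, hφ⟩ := indD_nonempty (K := K) (bot_lt_iff_ne_bot.2 fun e => h1 (by simpa [e] using hz)) hZ
  have φ0 := indD_deg_ne hφ
  have re : ∀ χ ∈ indD K Z ⊥, conj (χ 1) = χ 1 := fun χ hχ => (indD_char hχ).conjFun_one
  have e := hf.eq_sum
  rw [← sum_irrSet (fun χ => ⟪f, χ⟫ • χ), ← Finset.sum_filter_add_sum_filter_not _ (· ∈ indD K Z ⊥)] at e
  have e1 : (irrSet L).filter (· ∈ indD K Z ⊥) = indD K Z ⊥ := Finset.ext fun χ => by
    simpa [mem_irrSet] using hirr χ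
  have e2 := sum_indD (K := K) (bot_le : ⊥ ≤ Z) hZ
  rw [e1, Finset.sum_congr rfl (g := fun χ => (⟪f, φ⟫ / φ 1) • (χ 1 / ⟪χ, χ⟫) • χ) fun χ hχ => by
    have := h χ hχ φ hφ
    simp only [ip_sub_right, ip_smul_right, re χ hχ, re φ hφ] at this
    rw [smul_smul, (hirr χ hχ).inner_self]
    congr 1
    field_simp
    linear_combination this, ← Finset.smul_sum, e2] at e
  rw [congrFun e z, congrFun e z']
  simp only [Pi.add_apply, Pi.smul_apply, Pi.sub_apply, Finset.sum_apply, indFun_one_of_mem Z hz, indFun_one_of_mem Z hz',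
    indFun_of_not_mem_normal ⊥ _ (g := z) (by simpa using h1), indFun_of_not_mem_normal ⊥ _ (g := z') (by simpa using h1')]
  congr 1
  refine Finset.sum_congr rfl fun χ hχ => ?_
  rw [Finset.mem_filter, mem_irrSet, mem_indD_of_irr hZ hirr] at hχ
  have : ∀ y ∈ Z, χ y = χ 1 := fun y hy => by_contra fun hn => hχ.2 ⟨hχ.1, y, hy, hn⟩
  rw [this z hz, this z' hz']

omit [Fintype L] in
/-- inner products of characters induced from a subgroup with two double cosets -/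
theorem ip_ind_two (H : Subgroup G) [Fintype H] {t : G} (cover : ∀ g, g ∉ H → ∃ a ∈ H, ∃ b ∈ H, g = a * t * b)
    {α β : H → ℂ} (hα : IsClassFunction H α) (hβ : IsClassFunction H β) :
    Nat.card H * ⟪indFun H α, indFun H β⟫ = ∑ h : H, α h * conj (β h) +
      (H.index - 1) * ∑ h : H, extendByZero H α (t⁻¹ * h * t) * conj (β h) := by
  classical
  obtain ⟨T, hT⟩ : ∃ T : G → ℂ, ∀ x, T x = ∑ h : H, extendByZero H α (x⁻¹ * h * x) * conj (β h) := ⟨_, fun _ => rfl⟩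
  have inv : ∀ x, ∀ a ∈ H, ∀ b ∈ H, T (a * x * b) = T x := fun x a ha b hb => by
    rw [hT, hT]
    refine Fintype.sum_equiv (MulAut.conj (⟨a, ha⟩ : H)⁻¹).toEquiv _ _ fun h => ?_
    rw [← ext0_conj_mem hα _ hb, ← hβ h (⟨a, ha⟩ : H)⁻¹]
    congr 2
    simp [mul_assoc]
  have h0 := card_ne_zero_complex H
  have e1 : ⟪indFun H α, indFun H β⟫ = (Nat.card H : ℂ)⁻¹ * ((Nat.card H : ℂ)⁻¹ * ∑ x, T x) := by
    rw [inner_indFun_right H β (indFun_classFun H α)]
    unfold classInner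
    simp only [indFun_apply, hT, Finset.mul_sum, Finset.sum_mul, mul_assoc]
    rw [Finset.sum_comm]
  have c1 : ((Finset.univ.filter (· ∈ H)).card : ℂ) = Nat.card H := by
    rw [← Fintype.card_subtype, ← Nat.card_eq_fintype_card]
  have c2 : ((Finset.univ.filter (· ∉ H)).card : ℂ) = Nat.card H * (H.index - 1) := by
    have := Finset.card_filter_add_card_filter_not (s := Finset.univ) (fun x : G => x ∈ H)
    rw [Finset.card_univ, ← Nat.card_eq_fintype_card] at this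
    have h2 := card_eq_card_mul_index H
    rw [← this, Nat.cast_add, c1] at h2
    linear_combination h2
  rw [e1, ← Finset.sum_filter_add_sum_filter_not _ (· ∈ H),
    Finset.sum_congr rfl (g := fun _ => T 1) fun x hx => by
      rw [← inv 1 x (Finset.mem_filter.1 hx).2 1 H.one_mem, mul_one, mul_one],
    Finset.sum_congr (s₁ := Finset.univ.filter (· ∉ H)) rfl (g := fun _ => T t) fun x hx => by
      obtain ⟨a, ha, b, hb, rfl⟩ := cover x (Finset.mem_filter.1 hx).2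
      exact inv t a ha b hb, Finset.sum_const, Finset.sum_const, nsmul_eq_mul, nsmul_eq_mul, c1, c2, ← hT t, hT 1]
  simp only [inv_one, one_mul, mul_one, ext0_coe]
  field_simp

theorem thmC_core [IsSimpleGroup G] {j : L →* G} (hj : Function.Injective j) {K Z : Subgroup L} [K.Normal] [Z.Normal]
    (hTI : TIOn j {h | h ∈ K ∧ h ≠ 1}) (hZ : Z ≤ K) (hf : FrobQ K Z ⊥) (hcoh : Coh (indD K Z ⊥) (indL hj))
    (hne : ∀ χ ∈ indD K Z ⊥, conjFun χ ≠ χ) {Λ : G → ℂ} (hΛ : IsCharacter G Λ) (n2 : ⟪Λ, Λ⟫ = 2)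
    (n0 : ⟪Λ, conjFun Λ⟫ = 0) (n1 : ⟪Λ, fun _ => 1⟫ = 0) (hK : ∀ x ∈ K, x ≠ 1 → Λ (j x) = 1)
    (hd : Λ 1 = Nat.card K + 1) {z : L} (hz : z ∈ Z) (z1 : z ≠ 1) (h3 : 3 ≤ Nat.card Z) (h4 : 4 ≤ Nat.card K)
    (hdvd : ∀ f, IsIrrCharacter G f → (∀ z ∈ Z, ∀ z' ∈ Z, z ≠ 1 → z' ≠ 1 → f (j z) = f (j z')) →
      ∃ n : ℤ, f 1 - f (j z) = n * Nat.card K) : False := by
  classical
  have hirr : ∀ χ ∈ indD K Z ⊥, IsIrrCharacter L χ := fun χ h => hf.irr hZ h
  have I : IsoOn (indD K Z ⊥) (indL hj) := (hTI.isoOn hj).mono (Finset.coe_subset.2 (indD_mono hZ le_rfl))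
  obtain ⟨ν, hν⟩ := hcoh
  have hdir : ∀ χ ∈ indD K Z ⊥, IsDirr (ν χ) := fun χ h => hν.dirr h (hirr χ h)
  have o1 : ∀ α ∈ span ℂ (indD K Z ⊥ : Set (L → ℂ)), α 1 = 0 → ⟪Λ, ν α⟫ = 0 := fun α ha h1 => by
    rw [hν.agree α ha h1, indL_apply, ip_ind_right hj α hΛ.classFun, ip_congr_left (γ := fun _ => 1) fun x hx => by
      by_contra h
      exact hx (span_indD_supp ha h1 x fun h' => h (hK x h'.1 h'.2))]
    exact ip_eq_zero_symm.1 (orth_span_left (fun χ h => indD_ip_one h) ha)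
  have key : ∀ a b, IsDirr a → IsDirr b → ⟪a, b⟫ = 0 → Λ = a + b →
      IsIrrCharacter G a ∧ ∃ m : ℝ, a 1 = m ∧ 2 * Nat.card K ≤ 3 * m := fun a b ha hb hab e => by
    have ia : IsIrrCharacter G a := ha.resolve_right fun h => by
      obtain ⟨n, hn⟩ := hΛ.inner_nat h.isChar
      rw [e] at hn
      simp [ha.ip_self, ip_eq_zero_symm.1 hab] at hn
      have : (-1 : ℤ) = n := by exact_mod_cast hn
      omega
    refine ⟨ia, ?_⟩
    have o2 : ∀ χ ∈ indD K Z ⊥, ⟪a, ν χ⟫ = 0 := fun χ hχ => by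
      by_contra h
      have hχ' := indD_cc Z ⊥ χ hχ
      have c := hν.conj_eq I (fun α => ind_conj hj α) hχ (hirr χ hχ) hχ' (hne χ hχ)
      have o := o1 (χ - conjFun χ) (sub_mem (subset_span hχ) (subset_span hχ')) (by rw [Pi.sub_apply, (indD_char hχ).conjFun_one, sub_self])
      have oo : ⟪ν χ, ν (conjFun χ)⟫ = 0 := by rw [hν.iso χ hχ _ hχ', indD_orth hχ hχ' (hne χ hχ).symm]
      have eb : b = conjFun a := by
        rcases (ha.ip_cases (hdir χ hχ)).resolve_left h with h | h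
        · refine hb.eq_of_ip_eq_one ha.conj_char ?_
          rw [e, map_sub, h] at o
          rw [h] at hab
          simp only [ip_add_left, ip_sub_right, (hdir χ hχ).ip_self, oo, ip_eq_zero_symm.1 hab] at o
          change ⟪b, conjFun a⟫ = 1
          rw [h, ← c]; linear_combination -o
        · refine hb.eq_of_ip_eq_one ha.conj_char ?_
          rw [e, map_sub, h] at o
          rw [h, ip_neg_left, neg_eq_zero] at hab
          simp only [ip_add_left, ip_sub_right, ip_neg_left, (hdir χ hχ).ip_self, oo, ip_eq_zero_symm.1 hab] at o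
          change ⟪b, conjFun a⟫ = 1
          rw [h, conjFun_neg, ← c, ip_neg_right]; linear_combination o
      have : conjFun Λ = Λ := by
        rw [e, eb, conjFun_add, add_comm]; congr 1; funext x; simp [conjFun]
      rw [this, n2] at n0
      exact two_ne_zero n0
    have cst := const_of_orth hZ hirr (isClassFunction_comp ia.classFun j) fun χ hχ φ hφ => by
      rw [← ip_ind_right hj _ ia.classFun, ← indL_apply hj, hν.dif hχ hφ]
      simp [o2 χ hχ, o2 φ hφ]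
    obtain ⟨n, hn⟩ := hdvd a ia cst
    obtain ⟨d, -, hd⟩ := ia.exists_deg
    refine ⟨d, by rw [hd]; rfl, ?_⟩
    have K0 : (0 : ℝ) < Nat.card K := by exact_mod_cast (show 0 < Nat.card K by omega)
    have v : a (j z) = ((d - n * Nat.card K : ℝ) : ℂ) := by push_cast; rw [← hn, hd]; ring
    have p1 : 0 ≤ n := by
      have := ia.isChar.norm_le (j z)
      rw [v, hd, Complex.norm_real, Complex.norm_natCast] at this
      have h2 := (le_abs_self _).trans this
      have : (0 : ℝ) ≤ n := by by_contra h; nlinarith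
      exact_mod_cast this
    have p2 : n ≠ 0 := fun e0 => by
      have hk : j z ∈ ia.isChar.ker := ia.isChar.mem_ker.2 (by rw [v, e0, hd]; simp)
      rcases IsSimpleGroup.eq_bot_or_eq_top_of_normal ia.isChar.ker inferInstance with h | h
      · rw [h, Subgroup.mem_bot, map_eq_one_iff j hj] at hk
        exact z1 hk
      · have a1 : ⟪a, fun _ => 1⟫ ≠ 0 := by
          rw [ip_one_right, Finset.sum_congr rfl fun g _ => ia.isChar.mem_ker.1 (h ▸ Subgroup.mem_top g)]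
          simp [ia.one_ne_zero]
        have := ia.eq_of_inner_ne_zero isIrr_one a1
        rw [e, ← this] at n1
        simp [ha.ip_self, ip_eq_zero_symm.1 hab] at n1
    obtain ⟨m, hm⟩ := (ia.isChar.comp j).inner_nat (isChar_one.ind (H := Z))
    have s1 := ip_ind_one Z (fun x => a (j x))
    rw [hm, ← Finset.add_sum_erase _ _ (a := 1) (by simp), Finset.sum_congr rfl (g := fun _ => a (j z)) fun y hy =>
      cst y (Finset.mem_filter.1 (Finset.mem_of_mem_erase hy)).2 z hz (Finset.ne_of_mem_erase hy) z1,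
      Finset.sum_const, Finset.card_erase_of_mem (by simp), ← Fintype.card_subtype, ← Nat.card_eq_fintype_card,
      nsmul_eq_mul, map_one, hd, v, Nat.cast_pred (by omega)] at s1
    have s2 : (Nat.card Z : ℝ) * m = d + (Nat.card Z - 1) * (d - n * Nat.card K) := by exact_mod_cast s1
    have p3 : (1 : ℝ) ≤ n := by exact_mod_cast (show 1 ≤ n by omega)
    have p4 : (3 : ℝ) ≤ Nat.card Z := by exact_mod_cast h3
    have p5 : (0 : ℝ) ≤ Nat.card Z * m := by positivity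
    by_contra hlt
    have q1 : (Nat.card Z - 1 : ℝ) * Nat.card K ≤ (Nat.card Z - 1) * (n * Nat.card K) := by
      apply mul_le_mul_of_nonneg_left <;> nlinarith
    nlinarith
  obtain ⟨a, b, ha, hb, hab, e⟩ := hΛ.isGen.exists_dirr_two n2
  obtain ⟨-, m, e1, h1⟩ := key a b ha hb hab e
  obtain ⟨-, m', e2, h2⟩ := key b a hb ha (ip_eq_zero_symm.1 hab) (e.trans (add_comm _ _))
  rw [e, Pi.add_apply, e1, e2] at hd
  have : m + m' = Nat.card K + 1 := by exact_mod_cast hd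
  have : (4 : ℝ) ≤ Nat.card K := by exact_mod_cast h4
  linarith

end CfsgSuz
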