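import Cfsg.Agent.H3.Suz7
import Cfsg.Agent.H3.ZC2

/-! Split rank-one groups: Peterfalvi's Theorem C and the structure of `Q`. -/

set_option autoImplicit false

namespace CfsgSuz

open Subgroup Cfsg CfsgH2 CfsgLead CfsgFT
open scoped commutatorElement

section Char

open CfsgH3 CfsgH3.IP
open scoped ComplexConjugate

variable {L : Type*} [Group L] [Fintype L]

theorem indD_nonreal {K Z M : Subgroup L} [K.Normal] (hi : Odd K.index) (hZc : ∀ z ∈ Z, ∀ k ∈ K, z * k = k * z)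
    (hZ : Odd (Nat.card Z)) {χ : L → ℂ} (h : χ ∈ indD K Z M) : conjFun χ ≠ χ := fun e => by
  obtain ⟨θ, h1, -, h3, rfl⟩ := mem_indD.1 h
  rw [conjFun_ind] at e
  obtain ⟨g, hg⟩ := exists_cj_of_ind_eq h1 h1.conj_char e.symm
  have key : ∀ n : ℕ, CfsgH3.cj (g ^ (2 * n + 1)) θ = conjFun θ := fun n => by
    induction n with
    | zero => rw [mul_zero, zero_add, pow_one]; exact hg.symm
    | succ n ih =>
      rw [show g ^ (2 * (n + 1) + 1) = g ^ (2 * n + 1) * g * g by group, ← CfsgH3.cj_cj, ← CfsgH3.cj_cj, ih]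
      change CfsgH3.cj g (fun x => conj (CfsgH3.cj g θ x)) = _
      rw [← hg]
      simp only [conjFun, RingHomCompTriple.comp_apply, RingHom.id_apply, Complex.conj_conj]
      exact hg.symm
  obtain ⟨n, hn⟩ := hi
  have hr := key n
  rw [← hn, cj_of_mem h1.classFun (K.pow_index_mem g)] at hr
  refine h3 fun z hz => ?_
  obtain ⟨ω, h4, h5⟩ := h1.exists_scalar_of_mem_center (z := z)
    (mem_center_iff.2 fun y => Subtype.ext (hZc z hz y y.2).symm)
  have h6 := h5 1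
  rw [mul_one] at h6
  have h7 : conj ω = ω := by
    have := congrFun hr z
    rw [conjFun, h6, map_mul, show conj (θ 1) = θ 1 from (congrFun hr 1).symm] at this
    exact (mul_right_cancel₀ h1.one_ne_zero this).symm
  have h8 : ω * ω = 1 := by
    have := inv_eq_conj_of_pow_eq_one (orderOf_pos z).ne' h4
    rw [h7] at this
    nth_rewrite 1 [← this]
    exact inv_mul_cancel₀ fun e => by simp [e, (orderOf_pos z).ne'] at h4
  obtain ⟨m, hm⟩ : Odd (orderOf z) := hZ.of_dvd_nat (by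
    rw [← orderOf_coe]; exact orderOf_dvd_natCard Z hz)
  rw [hm, pow_succ, pow_mul, pow_two, h8, one_pow, one_mul] at h4
  rw [h6, h4, one_mul]

end Char

variable {G : Type*} [Group G]

theorem exists_lin_hom [Finite G] {H N : Subgroup G} (hn : H ≤ N(N)) (hne : ¬ H ≤ N) (ho : Odd (N.relIndex H)) :
    ∃ f : H →* ℂˣ, f ≠ 1 ∧ ∀ x : H, (x : G) ∈ N → f x = 1 := by
  haveI : (N.subgroupOf H).Normal := normal_subgroupOf_of_le_normalizer hn
  haveI := CfsgPF.feit_thompson (G := H ⧸ N.subgroupOf H) ho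
  haveI : Nontrivial (H ⧸ N.subgroupOf H) := QuotientGroup.nontrivial_iff.2 fun e => hne (subgroupOf_eq_top.1 e)
  have h1 : (commutator (H ⧸ N.subgroupOf H)).index ≠ 1 := fun e =>
    (IsSolvable.commutator_lt_top_of_nontrivial _).ne (index_eq_one.1 e)
  rw [← CfsgH3.card_hom_units] at h1
  haveI : Nontrivial ((H ⧸ N.subgroupOf H) →* ℂˣ) := Finite.one_lt_card_iff_nontrivial.1 (by
    have : 0 < Nat.card ((H ⧸ N.subgroupOf H) →* ℂˣ) := Nat.card_pos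
    omega)
  obtain ⟨f, hf⟩ := exists_ne (1 : (H ⧸ N.subgroupOf H) →* ℂˣ)
  refine ⟨f.comp (QuotientGroup.mk' _), fun e => hf (MonoidHom.ext fun x => ?_), fun x hx => ?_⟩
  · obtain ⟨y, rfl⟩ := QuotientGroup.mk'_surjective _ x
    exact DFunLike.congr_fun e y
  · rw [MonoidHom.comp_apply, QuotientGroup.mk'_apply, (QuotientGroup.eq_one_iff x).2 hx, map_one]

namespace RK

variable [Finite G] {L H Q : Subgroup G} {t s r : G} (R : RK L H Q t s r)
include R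

theorem norm_QK : H ≤ N(Q ⊔ KK H t) := by
  refine R.sup_QD.ge.trans (sup_le (le_sup_left.trans le_normalizer) ?_)
  exact le_normalizer_sup R.nQD R.norm_K

theorem eq_one_of_QK {v : G} (hv : v ∈ VV H t) (h : v ∈ Q ⊔ KK H t) : v = 1 := by
  obtain ⟨y, hy, k, hk, e⟩ := (mem_sup_of_normalizer (R.KD.trans R.nQD)).1 h
  have := (R.split_uniq hy (R.KD hk) (one_mem _) (R.VD hv) (by rw [e, one_mul])).2
  exact (eq_bot_iff_forall _).1 R.KV v ⟨this ▸ hk, hv⟩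

theorem coprime_QD (big : 2 < q0 Q) (hfpf : ∀ d ∈ DD H t, d ≠ 1 → Opi {2}ᶜ Q ⊓ C1(d) = ⊥) :
    (Nat.card Q).Coprime (Nat.card (DD H t)) := by
  refine Nat.coprime_of_dvd fun p hp h1 h2 => ?_
  obtain ⟨x, hx, ho⟩ := exists_orderOf_eq_prime hp h1
  have : x ∈ Opi {2}ᶜ Q := le_Opi_of_nilpotent (R.nil big) (zpowers_le.2 hx) (isPi_compl_singleton_iff.2 (by
    rw [Nat.card_zpowers, ho]
    exact fun h => (R.odd.of_dvd_nat h2).not_two_dvd_nat h)) (mem_zpowers x)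
  exact hp.one_lt.ne' (Nat.eq_one_of_dvd_coprimes
    (CfsgH1.coprime_of_fpf (le_normalizer_Opi_of _ R.nQD) hfpf) h2 (ho ▸ orderOf_dvd_natCard _ this))

end RK

open CfsgH3 CfsgH3.IP in
open scoped ComplexConjugate in
/-- the character induced from a linear character of `H / QK` -/
theorem RK.exists_Lambda [Fintype G] {H Q : Subgroup G} {t s r : G} (R : RK ⊤ H Q t s r) (hV : VV H t ≠ ⊥) :
    ∃ Λ : G → ℂ, IsCharacter G Λ ∧ ⟪Λ, Λ⟫ = 2 ∧ ⟪Λ, conjFun Λ⟫ = 0 ∧ ⟪Λ, fun _ => 1⟫ = 0 ∧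
      (∀ x ∈ Q, x ≠ 1 → Λ x = 1) ∧ Λ 1 = Nat.card Q + 1 := by
  classical
  obtain ⟨f, f1, f2⟩ := exists_lin_hom R.norm_QK (fun h => hV ((eq_bot_iff_forall _).2 fun v hv =>
    R.eq_one_of_QK hv (h (R.VH hv))))
    (R.odd.of_dvd_nat (R.relIndex_Q ▸ relIndex_dvd_of_le_left H le_sup_left))
  have hi := isIrr_unitsHom f
  have iH : H.index = Nat.card Q + 1 := by rw [← R.relIndex_H, relIndex_top_right]
  have ft : ∀ h : H, extendByZero H (fun g => (f g : ℂ)) (t⁻¹ * h * t) = if (h : G) ∈ DD H t then (f h : ℂ) else 0 :=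
    fun h => by
      rw [R.ti]
      split_ifs with hd
      · obtain ⟨v, hv, k, hk, e⟩ := R.dec_D hd
        have k1 := f2 ⟨k, R.DH hk.1⟩ (mem_sup_right (R.mem_K.2 hk))
        rw [ext0_of_mem _ _ (R.mem_D.1 hd).2, show (⟨t * h * t, (R.mem_D.1 hd).2⟩ : H) =
          ⟨v, R.VH hv⟩ * ⟨k, R.DH hk.1⟩⁻¹ from Subtype.ext (by
            change t * h * t = v * k⁻¹
            rw [e, ← R.tK (R.mem_K.2 hk), ← mul_assoc, (R.mem_V.1 hv).2]; group)]
        have e' : h = ⟨v, R.VH hv⟩ * ⟨k, R.DH hk.1⟩ := Subtype.ext e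
        rw [congrArg f e', map_mul, map_mul, map_inv, k1, inv_one]
      · exact ext0_of_not_mem _ _ fun h' => hd (R.mem_D.2 ⟨h.2, h'⟩)
  have ip : ∀ β : H → ℂ, IsClassFunction H β →
      Nat.card H * ⟪indFun H (fun g => (f g : ℂ)), indFun H β⟫ = ∑ h : H, f h * conj (β h) +
        Nat.card Q * ∑ h : (DD H t).subgroupOf H, f h * conj (β h) := fun β hβ => by
    rw [ip_ind_two H (fun g hg => by
      obtain ⟨a, ha, y, hy, e⟩ := R.cover g (mem_top g) hg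
      exact ⟨a, ha, y, R.QH hy, e⟩) hi.classFun hβ, iH]
    simp only [ft, ite_mul, zero_mul]
    rw [← Finset.sum_filter, Finset.sum_subtype (Finset.univ.filter fun h : H => (h : G) ∈ DD H t)
      (p := (· ∈ (DD H t).subgroupOf H)) (fun x => by simp [mem_subgroupOf])]
    push_cast; ring
  have uc : ∀ h : H, conj (f h : ℂ) = (f h : ℂ)⁻¹ := fun h =>
    (inv_eq_conj_of_pow_eq_one (orderOf_pos h).ne' (by rw [← Units.val_pow_eq_pow_val, ← map_pow]; simp)).symm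
  have H0 := card_ne_zero_complex H
  have sq : ((Units.coeHom ℂ).comp (f ^ 2)).comp ((DD H t).subgroupOf H).subtype ≠ 1 := fun e => f1 (MonoidHom.ext fun h => by
    obtain ⟨y, hy, d, hd, e'⟩ := R.split h.2
    have h1 : f ⟨d, R.DH hd⟩ ^ 2 = 1 := Units.ext (DFunLike.congr_fun e ⟨⟨d, R.DH hd⟩, hd⟩)
    have h2 : f ⟨d, R.DH hd⟩ = 1 := eq_one_of_sq_of_odd
      ((R.odd_D hd).of_dvd_nat ((orderOf_map_dvd f _).trans (by rw [← orderOf_coe]))) (by rw [← pow_two, h1])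
    rw [show h = ⟨y, R.QH hy⟩ * ⟨d, R.DH hd⟩ from Subtype.ext e', map_mul, h2, f2 _ (mem_sup_left hy)]
    simp)
  refine ⟨indFun H fun g => (f g : ℂ), hi.isChar.ind, mul_left_cancel₀ H0 ?_, mul_left_cancel₀ H0 ?_, ?_,
    fun x hx x1 => ?_, ?_⟩
  · rw [ip _ hi.classFun]
    simp only [uc, Units.ne_zero, ne_eq, not_false_eq_true, mul_inv_cancel₀, Finset.sum_const, Finset.card_univ,
      nsmul_eq_mul, mul_one, ← Nat.card_eq_fintype_card]
    rw [Nat.card_congr (subgroupOfEquivOfLe R.DH).toEquiv, R.card_H]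
    push_cast; ring
  · rw [conjFun_ind, ip (conjFun _) (isClassFunction_conj hi.classFun)]
    have a := sum_hom_units_eq_zero _ sq
    have b := sum_hom_units_eq_zero ((Units.coeHom ℂ).comp (f ^ 2)) fun e => sq (by rw [e]; rfl)
    simp only [MonoidHom.comp_apply, MonoidHom.pow_apply, Units.coeHom_apply, Units.val_pow_eq_pow_val, pow_two,
      coe_subtype, MonoidHom.mul_apply, Units.val_mul] at a b
    simp [conjFun, a, b]
  · rw [inner_indFun_left H _ (isClassFunction_const 1)]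
    exact hi.inner_of_ne isIrr_one fun e => f1 (MonoidHom.ext fun h => Units.ext (congrFun e h))
  · have := ind_apply_of_TI H.subtype_injective hi.classFun ⟨x, R.QH hx⟩ fun g b _ e => by
      rw [range_subtype]; exact R.mem_of_conj hx x1 (mem_top g) (e ▸ b.2)
    rw [f2 _ (mem_sup_left hx)] at this
    exact this
  · rw [indFun_one, iH]; simp

/-- Peterfalvi's Theorem C -/
theorem RK.thmC [Finite G] [IsSimpleGroup G] {H Q : Subgroup G} {t s r : G} (R : RK ⊤ H Q t s r) (big : 2 < q0 Q)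
    (hV : VV H t ≠ ⊥) (hfpf : ∀ d ∈ DD H t, d ≠ 1 → Opi {2}ᶜ Q ⊓ C1(d) = ⊥) : IsPGroup 2 Q := by
  classical
  haveI := Fintype.ofFinite G
  have nil := R.nil big
  by_contra hn
  have h1 : Opi {2}ᶜ Q ≠ ⊥ := fun e => hn (by
    have := Opi_sup_Opi_compl nil {2}
    rw [e, sup_bot_eq] at this
    exact this ▸ isPGroup_Opi Q)
  obtain ⟨p, hp, h2⟩ := exists_prime_dvd_card h1
  haveI := Fact.mk hp
  have p2 : p ≠ 2 := fun e => isPi_compl_singleton_iff.1 (isPi_Opi {2}ᶜ Q) (e ▸ h2)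
  have cop := R.coprime_QD big hfpf
  have pQ := h2.trans (card_dvd_of_le (Opi_le _ Q))
  obtain ⟨Z, hZ⟩ : ∃ Z, Z = Opi {p} Q ⊓ C(Q) := ⟨_, rfl⟩
  have Z0 : Z ≠ ⊥ := hZ ▸ inf_centralizer_ne_bot_of_nilpotent nil (Opi_le _ Q) (le_normalizer_Opi _ Q)
    fun e => (sylow_Opi_of_nilpotent nil).eq_bot_iff.1 e pQ
  have ZP : Z ≤ Opi {p} Q := hZ ▸ inf_le_left
  have ZQ := ZP.trans (Opi_le _ Q)
  have Zc : ∀ z ∈ Z, ∀ y ∈ Q, y * z = z * y := fun z hz => (hZ ▸ hz : z ∈ Opi {p} Q ⊓ C(Q)).2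
  have nZ : H ≤ N(Z) := hZ ▸ le_normalizer_inf (le_normalizer_Opi_of _ R.nQ)
    (R.nQ.trans (CfsgH2.normalizer_le_normalizer_centralizer _))
  have Z1 : Z ≤ Opi {2}ᶜ Q := ZP.trans (Opi_sub Q fun q _ h => by rw [Set.mem_singleton_iff.1 h]; exact p2)
  have oZ : Odd (Nat.card Z) := Nat.not_even_iff_odd.1 fun h =>
    isPi_compl_singleton_iff.1 ((isPi_Opi {2}ᶜ Q).mono Z1) h.two_dvd
  have cZ : ∀ z ∈ Z, z ≠ 1 → ∀ x ∈ H, x * z = z * x → x ∈ Q := fun z hz z1 x hx e => by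
    obtain ⟨y, hy, d, hd, rfl⟩ := R.split hx
    by_cases h : d = 1
    · simpa [h] using hy
    refine absurd ((eq_bot_iff_forall _).1 (hfpf d hd h) z ⟨Z1 hz, mem_centralizer_singleton_iff.2 ?_⟩) z1
    calc z * d = y⁻¹ * (z * (y * d)) := by rw [← mul_assoc, ← mul_assoc, mul_assoc y⁻¹, ← Zc z hz y hy]; group
      _ = d * z := by rw [← e]; group
  have nrm : ∀ X, X ≤ Q → H ≤ N(X) → (X.subgroupOf H).Normal := fun X h1 h2 => normal_subgroupOf_of_le_normalizer h2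
  have crd : ∀ X, X ≤ Q → Nat.card (X.subgroupOf H) = Nat.card X := fun X h =>
    Nat.card_congr (subgroupOfEquivOfLe (h.trans R.QH)).toEquiv
  haveI := nrm Q le_rfl R.nQ
  haveI := nrm Z ZQ nZ
  haveI := nrm _ (Opi_le {p} Q) (le_normalizer_Opi_of _ R.nQ)
  haveI := nrm _ (Opi_le {p}ᶜ Q) (le_normalizer_Opi_of _ R.nQ)
  haveI : Group.IsNilpotent (Q.subgroupOf H) := nilpotent_of_mulEquiv (subgroupOfEquivOfLe R.QH).symm
  have hTI : CfsgH3.TIOn H.subtype {h | h ∈ Q.subgroupOf H ∧ h ≠ 1} := fun a ha b hb g e => by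
    rw [range_subtype]
    exact R.mem_of_conj ha.1 (fun e => ha.2 (Subtype.ext e)) (mem_top g) (e ▸ b.2)
  have hf : CfsgH3.FrobQ (Q.subgroupOf H) (Z.subgroupOf H) ⊥ := CfsgH3.frobQ_bot.2 fun a ha a1 x e =>
    cZ a ha (fun e => a1 (Subtype.ext e)) x x.2 (congrArg Subtype.val e)
  have iQ : (Q.subgroupOf H).index = Nat.card (DD H t) := R.relIndex_Q
  have Zc' : ∀ z ∈ Z.subgroupOf H, ∀ k ∈ Q.subgroupOf H, z * k = k * z := fun z hz k hk =>
    Subtype.ext (Zc z hz k hk).symm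
  have Z3 : Nat.card Z ≠ 1 := fun e => Z0 (card_eq_one.1 e)
  have hbig : 2 * (Q.subgroupOf H).index + 1 ≤ Nat.card (Z.subgroupOf H) :=
    CfsgH3.two_mul_add_one_le (iQ ▸ R.odd) (crd Z ZQ ▸ oZ) (crd Z ZQ ▸ Z3) (by simpa using hf.dvd)
  have hZK : Z.subgroupOf H ≤ Q.subgroupOf H := comap_mono ZQ
  have hcoh := coh_nil (P := (Opi {p} Q).subgroupOf H) (A := (Opi {p}ᶜ Q).subgroupOf H)
    ((hTI.isoOn H.subtype_injective).mono (Finset.coe_subset.2 (CfsgH3.indD_mono hZK le_rfl)))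
    (by rw [← subgroupOf_sup ((Opi_le _ Q).trans R.QH) ((Opi_le _ Q).trans R.QH), Opi_sup_Opi_compl nil]) hp p2
    ((isPGroup_Opi Q).comap_subtype) (crd _ (Opi_le _ Q) ▸ isPi_compl_singleton_iff.1 (isPi_Opi _ Q))
    (fun e => R.s1 (by
      have : s ∈ Opi {p}ᶜ Q := le_Opi_of_nilpotent nil (zpowers_le.2 R.sQ) (isPi_compl_singleton_iff.2 (by
        rw [Nat.card_zpowers, R.ord_s]
        exact fun h => p2 ((Nat.prime_dvd_prime_iff_eq hp Nat.prime_two).1 h))) (mem_zpowers s)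
      exact congrArg Subtype.val ((eq_bot_iff_forall _).1 e ⟨s, R.QH R.sQ⟩ this)))
    (iQ ▸ fun h => hp.one_lt.ne' (Nat.eq_one_of_dvd_coprimes cop pQ h)) (comap_mono ZP)
    (fun e => Z3 (by rw [← crd Z ZQ, e, card_bot])) Zc' hf hbig
  obtain ⟨Λ, l1, l2, l3, l4, l5, l6⟩ := R.exists_Lambda hV
  obtain ⟨⟨z, hz⟩, z1⟩ := ne_bot_iff_exists_ne_one.1 Z0
  replace z1 : z ≠ 1 := fun e => z1 (Subtype.ext e)
  refine thmC_core H.subtype_injective hTI hZK hf hcoh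
    (fun χ h => indD_nonreal (iQ ▸ R.odd) Zc' (crd Z ZQ ▸ oZ) h) l1 l2 l3 l4
    (fun x hx x1 => l5 x hx fun e => x1 (Subtype.ext e)) (by rw [l6, crd Q le_rfl]) (z := ⟨z, R.QH (ZQ hz)⟩) hz
    (fun e => z1 (congrArg Subtype.val e)) (le_trans (by have := R.odd.pos; omega) hbig)
    (crd Q le_rfl ▸ (R.four_le big).trans (R.q0_eq ▸ card_le_of_le (Q0_le Q))) fun f hf' hc => ?_
  rw [crd Q le_rfl]
  refine CfsgH3.dvd_sub_of_TI hf' hz z1 (fun h => ?_) (fun x hx x1 u z' hz' z1' h e => ?_) ?_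
    fun a ha b hb a1 b1 => hc ⟨a, R.QH (ZQ ha)⟩ ha ⟨b, R.QH (ZQ hb)⟩ hb (fun e => a1 (congrArg Subtype.val e))
      fun e => b1 (congrArg Subtype.val e)
  · obtain ⟨g, hg⟩ := isConj_iff.1 h
    replace hg : g * z * g⁻¹ = z⁻¹ := hg
    obtain ⟨y, hy, d, hd, rfl⟩ := R.split (R.mem_of_conj (ZQ hz) z1 (mem_top g) (hg ▸ inv_mem (R.QH (ZQ hz))))
    have : d * z * d⁻¹ = z⁻¹ := by
      calc d * z * d⁻¹ = y⁻¹ * (y * d * z * (y * d)⁻¹) * y := by group
        _ = z⁻¹ := by rw [hg, Zc _ (inv_mem hz) _ (inv_mem hy)]; group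
    have := inv_eq_of_odd_inverts (R.odd_D hd) this
    exact z1 (eq_one_of_sq_of_odd (oZ.of_dvd_nat (orderOf_dvd_natCard Z hz)) (by nth_rewrite 1 [← this]; simp))
  · obtain ⟨g, rfl⟩ := isConj_iff.1 h
    exact conj_mem_of_mem_normalizer (nZ (R.mem_of_conj (ZQ hz') z1' (mem_top g)
      (R.mem_of_comm hx x1 (mem_top _) e.symm))) hz'
  · refine Nat.Coprime.coprime_dvd_right (index_dvd_of_le (show Q ≤ C1(z) from fun y hy =>
      mem_centralizer_singleton_iff.2 (Zc z hz y hy))) ?_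
    rw [← relIndex_mul_index R.QH, R.relIndex_Q, ← relIndex_top_right, R.relIndex_H]
    exact cop.mul_right (by simp)

namespace RK

variable [Finite G] {L H Q : Subgroup G} {t s r : G} (R : RK L H Q t s r)
include R

theorem ab_case (pg : IsPGroup 2 Q) (hc : Q ≤ C(Q)) {v : G} (hv : v ∈ VV H t)
    (h : ∀ x ∈ Q, v * x = x * v → x * x = 1) : Nat.card Q = q0 Q := by
  have key : ∀ x ∈ Q, x * x * (x * x) = 1 → x * x = 1 := fun x hx h4 => by
    by_contra h2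
    obtain ⟨k, hk, e⟩ := R.K_trans (R.QH (mul_mem hx hx)) h2 h4
    have kH := R.DH hk.1
    have hy := R.conjQ kH hx
    have e2 : k * x * k⁻¹ * (k * x * k⁻¹) = s := by
      calc _ = k * (x * x) * k⁻¹ := by group
        _ = s := by rw [← e]; group
    generalize k * x * k⁻¹ = y at hy e2
    obtain ⟨n, hn, h5⟩ := CfsgH1.exists_mul_mem_centralizer (A := zpowers v) (N := Q0 Q)
      ((zpowers_le.2 (R.VH hv)).trans R.nQ0) (by
        obtain ⟨m, hm⟩ := card_Q0_pow Q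
        rw [hm, Nat.card_zpowers]
        exact Nat.Coprime.pow_right _ (Nat.coprime_two_right.2 (R.odd_D (R.VD hv))))
      (Or.inr (solvable_of_pgroup (pgroup_Q0 Q))) (k := y) fun a ha => by
        have aV := zpowers_le.2 hv ha
        have h1 := R.conjQ (R.VH aV) hy
        refine R.mem_Q0_iff.2 ⟨mul_mem h1 (inv_mem hy), ?_⟩
        calc _ = a * y * a⁻¹ * (y⁻¹ * (a * y * a⁻¹)) * y⁻¹ := by group
          _ = a * (y * y) * a⁻¹ * (y * y)⁻¹ := by rw [hc h1 _ (inv_mem hy)]; group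
          _ = 1 := by rw [e2, (R.V_cent aV).1]; group
    have := h _ (mul_mem (Q0_le Q hn) hy) (h5 v (mem_zpowers v))
    refine R.s1 ?_
    calc s = n * n * (y * y) := by rw [Q0_sq hn, e2, one_mul]
      _ = n * y * (n * y) := by
        rw [mul_assoc n y, ← mul_assoc y n, ← R.Q0_comm' hn hy]; group
      _ = 1 := this
  have : Q ≤ Q0 Q := fun x hx => R.mem_Q0_iff.2 ⟨hx, by
    obtain ⟨k, hk⟩ := pg ⟨x, hx⟩
    replace hk : x ^ 2 ^ k = 1 := congrArg Subtype.val hk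
    induction k with
    | zero => simp [show x = 1 by simpa using hk]
    | succ k ih =>
      rcases k with _ | k
      · simpa [pow_two] using hk
      · exact ih (by
          have := key (x ^ 2 ^ k) (pow_mem hx _) (by rw [← hk, ← pow_add, ← pow_add]; congr 1; ring)
          rw [← this, ← pow_add]; congr 1; ring)⟩
  rw [R.q0_eq, le_antisymm (Q0_le Q) this]

theorem W_cent (sq : ∀ x ∈ Q, x * x ∈ Q0 Q) (hr : r * r = s) : WW H Q t ≤ C(Q) := fun w hw x hx => by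
  have wH := R.VH (R.WV hw)
  have wQ0 : ∀ z ∈ Q0 Q, w * z * w⁻¹ = z := fun z hz => by rw [← hw.2 z hz]; group
  have dl : ∀ a ∈ Q, ∀ b ∈ Q, a * b * a⁻¹ * b⁻¹ ∈ Q0 Q := fun a ha b hb => Sq_le_iff.2 sq (dl_mem_Sq ha hb)
  obtain ⟨y, hy⟩ : ∃ y, y = x⁻¹ * (w * x * w⁻¹) := ⟨_, rfl⟩
  have yQ : y ∈ Q := hy ▸ mul_mem (inv_mem hx) (R.conjQ wH hx)
  have ex : w * x * w⁻¹ = x * y := by rw [hy]; group
  have h1 : ∀ m ∈ Q, w * m = m * w → m * y = y * m := fun m hm e => by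
    have a := wQ0 _ (dl m hm x hx)
    have b : w * (m * x * m⁻¹ * x⁻¹) * w⁻¹ = m * (x * y) * m⁻¹ * (x * y)⁻¹ := by
      calc _ = (w * m) * (x * w⁻¹) * (w * m⁻¹ * w⁻¹) * (w * x * w⁻¹)⁻¹ := by group
        _ = _ := by rw [e, ← ex, (Commute.inv_right e).eq]; group
    rw [b, dl_mul_right] at a
    have c : x * (m * y * m⁻¹ * y⁻¹) * x⁻¹ = 1 := mul_left_cancel (a.trans (mul_one _).symm)
    have : m * y * m⁻¹ * y⁻¹ = 1 := by_contra fun h => conj_ne_one h x c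
    rwa [mul_inv_eq_one, mul_inv_eq_iff_eq_mul] at this
  have h2 : w * y = y * w := by
    by_cases h : y * y = 1
    · exact (hw.2 y (R.mem_Q0_iff.2 ⟨yQ, h⟩)).symm
    obtain ⟨k, hk, e⟩ := R.K_trans (R.QH (mul_mem yQ yQ)) h (Q0_sq (sq y yQ))
    have mQ := R.conjQ' (R.DH hk.1) R.rQ
    have mw : w * (k⁻¹ * r * k) = k⁻¹ * r * k * w := by
      have a := R.W_comm hw hk
      have b := R.W_comm hw (inv_mem_invertedBy hk)
      have c := (R.V_cent (R.WV hw)).2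
      calc w * (k⁻¹ * r * k) = w * k⁻¹ * r * k := by group
        _ = k⁻¹ * (w * r) * k := by rw [← b]; group
        _ = k⁻¹ * r * (w * k) := by rw [c]; group
        _ = _ := by rw [← a]; group
    have mm : k⁻¹ * r * k * (k⁻¹ * r * k) = y * y := by rw [← e, ← hr]; group
    generalize k⁻¹ * r * k = m at mQ mw mm
    have a : m * y ∈ Q0 Q := R.mem_Q0_iff.2 ⟨mul_mem mQ yQ, by
      calc m * y * (m * y) = m * (y * m) * y := by group
        _ = m * m * (y * y) := by rw [← h1 m mQ mw]; group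
        _ = 1 := by rw [mm, Q0_sq (sq y yQ)]⟩
    calc w * y = w * m⁻¹ * w⁻¹ * (w * (m * y) * w⁻¹) * w := by group
      _ = y * w := by rw [wQ0 _ a, (Commute.inv_right mw).eq]; group
  have h3 : ∀ n : ℕ, w ^ n * x * (w ^ n)⁻¹ = x * y ^ n := fun n => by
    induction n with
    | zero => simp
    | succ n ih =>
      calc _ = w * (w ^ n * x * (w ^ n)⁻¹) * w⁻¹ := by group
        _ = w * x * w⁻¹ * (w * y ^ n * w⁻¹) := by rw [ih]; group
        _ = _ := by rw [ex, (Commute.pow_right h2 n).eq]; group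
  have h4 : y ^ orderOf w = 1 := by simpa using (h3 (orderOf w)).symm
  have h5 : y = 1 := by
    have o := (R.odd_D (R.WD hw)).of_dvd_nat (orderOf_dvd_of_pow_eq_one h4)
    exact eq_one_of_sq_of_odd o (eq_one_of_sq_of_odd (o.of_dvd_nat (by rw [← pow_two]; exact orderOf_pow_dvd 2))
      (Q0_sq (sq y yQ)))
  rw [h5, mul_one] at ex
  exact (mul_inv_eq_iff_eq_mul.1 ex).symm

theorem sub1 {v : G} (hv : v ∈ VV H t) : RK (L ⊓ C1(v)) (H ⊓ C1(v)) (Q ⊓ C1(v)) t s r :=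
  R.sub (Set.singleton_subset_iff.2 hv)

theorem q0_sub {v : G} (hv : v ∈ VV H t) : q0 (Q ⊓ C1(v)) = Nat.card ↥(Q0 Q ⊓ C1(v)) := by
  rw [(R.sub1 hv).q0_eq, R.Q0_inf (Set.singleton_subset_iff.2 hv)]

theorem q0_sub_W {w : G} (hw : w ∈ WW H Q t) : q0 (Q ⊓ C1(w)) = q0 Q := by
  rw [R.q0_sub (R.WV hw), R.q0_eq, inf_of_le_left fun x hx => mem_centralizer_singleton_iff.2 (hw.2 x hx)]

theorem K_sub {v : G} (hv : v ∈ VV H t) : KK (H ⊓ C1(v)) t = KK H t ⊓ C1(v) := by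
  ext k
  rw [(R.sub1 hv).mem_K, mem_inf, R.mem_K, R.DD_inf (Set.singleton_subset_iff.2 hv)]
  exact ⟨fun h => ⟨⟨h.1.1, h.2⟩, h.1.2⟩, fun h => ⟨⟨h.1.1, h.2⟩, h.1.2⟩⟩

end RK

theorem SZ.card_fix [Finite G] {F : Type*} [Field F] [Finite F] {L H Q : Subgroup G} {t s r : G} {e₀ ζ : G → F}
    {ρ : G → F ≃+* F} (S : SZ L H Q t s r e₀ ζ ρ) {v : G} (hv : v ∈ VV H t) :
    q0 Q = q0 (Q ⊓ C1(v)) ^ orderOf (ρ v) := by
  rw [S.q0_sub hv, S.q0_eq, S.card_Q0, card_eq_fix_pow (ρ v)]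
  congr 1
  have h := S.hg.crd
  refine (Nat.card_eq_of_bijective (fun x => ⟨e₀ x, mem_fix.2 (by
    rw [← S.ρe v hv x x.2.1, ← mem_centralizer_singleton_iff.1 x.2.2]; simp)⟩)
    ⟨fun a b e => Subtype.ext (S.e_inj a.2.1 b.2.1 (congrArg Subtype.val e)), fun a => ?_⟩).symm
  obtain ⟨x, hx, e⟩ := h.surj a
  refine ⟨⟨x, hx, mem_centralizer_singleton_iff.2 (mul_inv_eq_iff_eq_mul.1 ?_).symm⟩, Subtype.ext e⟩
  exact S.e_inj (S.cjQ0 (S.VH hv) hx) hx (by rw [S.ρe v hv x hx, e, mem_fix.1 a.2])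

theorem exists_zsig {l p : ℕ} (hp : p.Prime) (h2 : p ≠ 2) (hl : 2 ≤ l) :
    ∃ u, u.Prime ∧ u ∣ l ^ p - 1 ∧ ¬ u ∣ l - 1 := by
  haveI := Fact.mk hp
  by_contra h
  push Not at h
  obtain ⟨a, rfl⟩ : ∃ a, l = a + 1 := ⟨l - 1, by omega⟩
  have e : (∑ i ∈ Finset.range p, (a + 1) ^ i) * a = (a + 1) ^ p - 1 := by
    simpa using Nat.geomSum_eq (m := a + 1) hl p ▸ Nat.div_mul_cancel (by simpa using Nat.sub_dvd_pow_sub_pow (a + 1) 1 p)
  obtain ⟨m, hm⟩ : ∃ m, m = ∑ i ∈ Finset.range p, (a + 1) ^ i := ⟨_, rfl⟩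
  have a0 : a ≠ 0 := by omega
  have h1 : ∀ u, u.Prime → u ∣ m → u = p ∧ u ∣ a := fun u hu h1 => by
    have h3 : u ∣ a := h u hu (e ▸ hm ▸ h1.mul_right a)
    have : m ≡ p [MOD u] := by
      rw [hm]
      calc _ ≡ ∑ i ∈ Finset.range p, 1 [MOD u] := Nat.ModEq.sum fun i _ => by
            simpa using (((Nat.modEq_zero_iff_dvd.2 h3).add_right 1).pow i)
        _ = p := by simp
    exact ⟨(Nat.prime_dvd_prime_iff_eq hu hp).1 ((this.dvd_iff dvd_rfl).1 h1), h3⟩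
  have lt : p < m := by
    have : ∑ i ∈ Finset.range p, 1 < m := hm ▸ Finset.sum_lt_sum (fun i _ => Nat.one_le_pow _ _ (by omega))
      ⟨1, Finset.mem_range.2 hp.one_lt, by rw [pow_one]; omega⟩
    simpa using this
  obtain ⟨k, hk⟩ : ∃ k, m = p ^ k := ⟨_, Nat.eq_prime_pow_of_unique_prime_dvd (by omega) fun h3 h4 => (h1 _ h3 h4).1⟩
  have pa : p ∣ a := (h1 p hp (hk ▸ dvd_pow_self p fun e => by simp [e] at hk; have := hp.two_le; omega)).2
  have := padicValNat.pow_sub_pow (hp.odd_of_ne_two h2) (x := a + 1) (y := 1) (by omega) (by simpa using pa)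
    (fun h => hp.one_lt.ne' (Nat.dvd_one.1 ((Nat.dvd_add_right pa).1 h))) hp.ne_zero
  rw [one_pow, ← e, ← hm, padicValNat.mul (by omega) a0, hk, padicValNat.prime_pow, padicValNat_self] at this
  simp only [Nat.add_sub_cancel] at this
  rw [hk, show k = 1 by omega, pow_one] at lt
  exact lt_irrefl _ lt

theorem inf_eq_bot_of_coprime_aux [Finite G] {K C : Subgroup G} {k : G} {u : ℕ} (hu : u.Prime) (ho : orderOf k = u)
    (h : ¬ u ∣ Nat.card ↥(K ⊓ C)) (hk : zpowers k ≤ K) : zpowers k ⊓ C = ⊥ := by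
  rw [← inf_of_le_left hk, inf_assoc]
  exact inf_eq_bot_of_coprime' (by rw [Nat.card_zpowers, ho]; exact hu.coprime_iff_not_dvd.2 h)

theorem cent_zpowers (v : G) : C(zpowers v) = C1(v) := by
  rw [zpowers_eq_closure, centralizer_closure]

theorem fpf_zpowers {A : Subgroup G} {v : G} (hp : (orderOf v).Prime) (h : A ⊓ C1(v) = ⊥) :
    ∀ x ∈ zpowers v, x ≠ 1 → A ⊓ C1(x) = ⊥ := fun x hx x1 => by
  rw [← cent_zpowers, ← h, ← cent_zpowers]
  haveI : Fact (Nat.card (zpowers v)).Prime := ⟨by rwa [Nat.card_zpowers]⟩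
  have := zpowers_eq_top_of_prime_card (G := zpowers v) rfl (g := ⟨x, hx⟩) fun e => x1 (congrArg Subtype.val e)
  have h2 := congrArg (map (zpowers v).subtype) this
  rw [MonoidHom.map_zpowers, ← MonoidHom.range_eq_map, range_subtype] at h2
  exact h2 ▸ rfl

namespace RK

variable [Finite G] {L H Q : Subgroup G} {t s r : G} (R : RK L H Q t s r)
include R

theorem q0_pow_prime (big : 2 < q0 Q) {v : G} (hv : v ∈ VV H t) (hp : (orderOf v).Prime) (hW : v ∉ WW H Q t) :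
    q0 Q = q0 (Q ⊓ C1(v)) ^ orderOf v := by
  obtain ⟨F, _, _, _, e₀, ζ, ρ, S⟩ := R.exists_SZb big
  rw [S.card_fix hv]
  congr 1
  haveI := Fact.mk hp
  exact orderOf_eq_prime (by rw [← S.ρ_pow hv, pow_orderOf_eq_one, S.ρ_one]) fun e => hW ((S.ρ_eq_one hv).1 e)

theorem exists_frob (big : 2 < q0 Q) {v : G} (hv : v ∈ VV H t) (hp : (orderOf v).Prime) (hW : v ∉ WW H Q t) :
    ∃ A ≤ KK H t, A ≠ ⊥ ∧ DD H t ≤ N(A) ∧ A ⊓ C1(v) = ⊥ := by
  have R1 := R.sub1 hv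
  obtain ⟨u, hu, h1, h2⟩ := exists_zsig hp (fun e => (R.odd_D (R.VD hv)).not_two_dvd_nat (e ▸ dvd_rfl))
    (l := q0 (Q ⊓ C1(v))) (by have := R1.card_K'; have : 0 < Nat.card (KK (H ⊓ C1(v)) t) := Nat.card_pos; omega)
  rw [← R.q0_pow_prime big hv hp hW, ← R.card_K', Nat.add_sub_cancel] at h1
  rw [← R1.card_K', Nat.add_sub_cancel, R.K_sub hv] at h2
  obtain ⟨k, hk, ho⟩ := exists_orderOf_eq_prime hu h1
  refine ⟨zpowers k, zpowers_le.2 hk, ne_bot_of_dvd_card hu (by rw [Nat.card_zpowers, ho]),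
    le_norm_of_cyclic R.cyclic_K (zpowers_le.2 hk) R.norm_K, inf_eq_bot_of_coprime_aux hu ho h2 (zpowers_le.2 hk)⟩

/-- Wielandt's formula for subgroups of `Q` normalized by `K ⟨v⟩` -/
theorem wiel (big : 2 < q0 Q) {v : G} (hv : v ∈ VV H t) (hp : (orderOf v).Prime) (hW : v ∉ WW H Q t)
    {X : Subgroup G} (hX : X ≤ Q) (nK : KK H t ≤ N(X)) (nv : v ∈ N(X)) (hc : ¬ orderOf v ∣ Nat.card X) :
    Nat.card X = Nat.card ↥(X ⊓ C1(v)) ^ orderOf v := by
  obtain ⟨A, h1, h2, h3, h4⟩ := R.exists_frob big hv hp hW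
  obtain ⟨⟨k, hk⟩, k1⟩ := ne_bot_iff_exists_ne_one.1 h2
  have fp : ∀ k ∈ A, k ≠ 1 → X ⊓ C1(k) = ⊥ := fun k hk k1 =>
    eq_bot_iff.2 ((inf_le_inf_right _ hX).trans (R.K_fpf' (h1 hk) k1).le)
  have := CfsgH1.wielandt_of_cent_eq_bot (H := X) (K := A) (R := zpowers v)
    (isSolvable_of_nilpotent (CfsgH1.isNilpotent_of_le (R.nil big) hX)) (h1.trans nK) (zpowers_le.2 nv)
    (zpowers_le.2 (h3 (R.VD hv))) (isSolvable_of_nilpotent (nilpotent_of_comm ((h1.trans R.K_ab).trans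
      (centralizer_le h1)))) (CfsgH1.coprime_of_fpf (h1.trans nK) fp)
    (by rw [Nat.card_zpowers]; exact hp.coprime_iff_not_dvd.2 hc) (fpf_zpowers hp h4)
    (eq_bot_iff.2 ((inf_le_inf_left _ (centralizer_le (Set.singleton_subset_iff.2 hk))).trans
      (fp k hk fun e => k1 (Subtype.ext e)).le))
  rwa [Nat.card_zpowers, cent_zpowers] at this

end RK

end CfsgSuz
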