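import Cfsg.Agent.H3.Suz8
import Cfsg.Agent.H2.Q8b
import Cfsg.Agent.H2.Transfer

/-! Split rank-one groups of 2-rank one, and counting lemmas. -/

set_option autoImplicit false

namespace CfsgSuz

open Subgroup Cfsg CfsgH2 CfsgLead CfsgFT
open scoped commutatorElement

variable {G : Type*} [Group G]

namespace RK

variable [Finite G] {L H Q : Subgroup G} {t s r : G} (R : RK L H Q t s r)
include R

theorem uniq_s (h2 : q0 Q = 2) {u : G} (hu : u ∈ H) (u1 : u ≠ 1) (u2 : u * u = 1) : u = s := by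
  by_contra h
  exact (R.big_of_ne hu u1 u2 h).ne' h2

theorem st_not_mem : s * t ∉ H := fun h => R.tH (by simpa using mul_mem (inv_mem (R.QH R.sQ)) h)

theorem st_sq_ne : s * t * (s * t) ≠ 1 := fun h => R.st_ne (eq_one_of_sq_of_odd R.odd_st h)

theorem card_of_st {F : Subgroup G} (hF : F ≤ L) (hn : H ≤ N(F)) (h : s * t ∈ F) :
    Nat.card F = Nat.card ↥(F ⊓ H) * (Nat.card Q + 1) := by
  have h1 : F ⊔ H = L := le_antisymm (sup_le hF R.HL) (R.le_of le_sup_right (by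
    simpa [← mul_assoc, R.ss] using mul_mem (mem_sup_right (R.QH R.sQ) : s ∈ F ⊔ H) (mem_sup_left h)))
  have := CfsgH1.card_sup_of_le_normalizer hn
  rw [h1, R.card_L] at this
  have h0 : 0 < Nat.card H := Nat.card_pos
  exact Nat.eq_of_mul_eq_mul_left h0 (by linarith)

theorem le_ker {N : Subgroup G} (hn : L ≤ N(N)) (h : N ≤ H) : N ≤ DD H t ⊓ C(Q) := fun n hn' => by
  have nD : N ≤ DD H t := fun a ha => R.mem_D.2 ⟨h ha, h (by
    simpa [R.ti] using conj_mem_of_mem_normalizer (hn R.tL) ha)⟩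
  refine ⟨nD hn', fun y hy => ?_⟩
  have := R.eq_one_of_QD (x := y * (n * y⁻¹ * n⁻¹)) (mul_mem hy (R.conjQ (h hn') (inv_mem hy))) (nD (by
    simpa [mul_assoc] using mul_mem (conj_mem_of_mem_normalizer (hn (R.QL hy)) hn') (inv_mem hn')))
  calc y * n = y * (n * y⁻¹ * n⁻¹) * (n * y) := by group
    _ = n * y := by rw [this, one_mul]

end RK

theorem RK.nf0 [Finite G] {H Q : Subgroup G} {t s r : G} (R : RK ⊤ H Q t s r) (h2 : q0 Q = 2)
    (hf : DD H t ⊓ C(Q) = ⊥) :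
    ∃ (F : Subgroup G) (l : ℕ), l.Prime ∧ F.Normal ∧ IsElementaryAbelian l F ∧ F ⊓ H = ⊥ ∧ s * t ∈ F := by
  obtain ⟨S, hS⟩ := IsSylowIn.exists_sylowIn 2 Q
  have hS' : IsSylowIn 2 S ⊤ := hS.trans_of_not_dvd le_top (by
    rw [← relIndex_mul_relIndex Q H ⊤ R.QH le_top, R.relIndex_Q, R.relIndex_H]
    exact (R.odd.mul R.even.add_one).not_two_dvd_nat)
  have u : ∀ x ∈ S, orderOf x = 2 → x = s := fun x hx ho => R.uniq_s h2 (R.QH (hS.le hx))
    (fun e => by simp [e] at ho) (by rw [← pow_two, ← ho, pow_orderOf_eq_one])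
  have h0 : pPrimeCore 2 G ≠ ⊥ := fun e => R.st_sq_ne (by
    have := brauer_suzuki hS' (fun x hx y hy a b => (u x hx a).trans (u y hy b).symm) R.ord_s t
    rwa [e, mem_bot, R.si, R.ti, mul_assoc] at this)
  have ho : Odd (Nat.card (pPrimeCore 2 G)) := Nat.coprime_two_right.1 (CfsgH1.coprime_card_pPrimeCore 2 G)
  obtain ⟨F, l, hl, nF, F0, FO, cF, -, eF, -⟩ := CfsgH1.exists_minNormal_elementary _ (CfsgPF.feit_thompson ho) h0
  have cF' : ∀ a ∈ F, ∀ b ∈ F, a * b = b * a := fun a ha b hb => congrArg Subtype.val (cF.is_comm.comm ⟨a, ha⟩ ⟨b, hb⟩)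
  have nF' : ∀ X : Subgroup G, X ≤ N(F) := fun X => le_normalizer_of_normal
  have tF : t ∈ F ⊔ H := by
    obtain ⟨g, hg, gH⟩ := SetLike.not_le_iff_exists.1 fun h => F0 (eq_bot_iff.2 (hf ▸ R.le_ker (nF' _) h))
    obtain ⟨h, hh, y, hy, e⟩ := R.cover g (mem_top g) gH
    have := mul_mem (mul_mem (inv_mem (mem_sup_right hh : h ∈ F ⊔ H)) (mem_sup_left hg))
      (inv_mem (mem_sup_right (R.QH hy)))
    rwa [e, show h⁻¹ * (h * t * y) * y⁻¹ = t by group] at this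
  have FH : F ⊓ H = ⊥ := eq_bot_iff.2 (hf ▸ R.le_ker ((R.le_of le_sup_right tF).trans (sup_le
    (fun a ha => centralizer_le_normalizer _ fun b hb => cF' b hb.1 a ha) (le_normalizer_inf (nF' _) le_normalizer)))
    inf_le_right)
  refine ⟨F, l, hl, nF, ea_iff.2 ⟨cF', eF⟩, FH, ?_⟩
  obtain ⟨f, hf', h, hh, e⟩ := (mem_sup_of_normalizer (nF' H)).1 tF
  have h1 : h * h = 1 := (eq_bot_iff_forall _).1 FH _ ⟨by
    have : h * h = (f * (h * f * h⁻¹))⁻¹ := by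
      calc h * h = (f * (h * f * h⁻¹))⁻¹ * (f * h * (f * h)) := by group
        _ = _ := by rw [e, R.tt, mul_one]
    rw [this]; exact F.inv_mem (mul_mem hf' (nF.conj_mem _ hf' _)), mul_mem hh hh⟩
  have h3 : h = s := R.uniq_s h2 hh (fun e' => by
    rw [e', mul_one] at e
    have := orderOf_dvd_natCard _ (FO (e ▸ hf'))
    rw [R.ord_t] at this
    exact ho.not_two_dvd_nat this) h1
  rw [← e, h3, ← mul_assoc]
  simpa [R.si] using nF.conj_mem _ hf' s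

theorem RK.nf_wiel [Finite G] {H Q : Subgroup G} {t s r : G} (R : RK ⊤ H Q t s r) {F : Subgroup G} {l : ℕ}
    (hl : l.Prime) [F.Normal] (ea : IsElementaryAbelian l F) (FH : F ⊓ H = ⊥) (st : s * t ∈ F) {w : G}
    (hw : w ∈ VV H t) (hp : (orderOf w).Prime) {A : Subgroup G} (hA : A ≤ Q) (A0 : A ≠ ⊥) (sA : Group.IsSolvable A)
    (nA : w ∈ N(A)) (hc : A ⊓ C1(w) = ⊥) : Nat.card Q + 1 = (Nat.card ↥(Q ⊓ C1(w)) + 1) ^ orderOf w := by
  haveI := Fact.mk hl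
  have cF : Nat.card F = Nat.card Q + 1 := by
    rw [R.card_of_st le_top le_normalizer_of_normal st, FH, card_bot, one_mul]
  have R1 := R.sub1 hw
  have c1 : Nat.card ↥(F ⊓ C1(w)) = Nat.card ↥(Q ⊓ C1(w)) + 1 := by
    rw [R1.card_of_st (inf_le_inf_right _ le_top) (le_normalizer_inf le_normalizer_of_normal
      (inf_le_right.trans le_normalizer)) ⟨st, mul_mem R1.sQ.2 R1.tL.2⟩,
      eq_bot_iff.2 ((inf_le_inf inf_le_left inf_le_left).trans FH.le), card_bot, one_mul]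
  have lF : l ∣ Nat.card F := by
    have : orderOf (s * t) = l := orderOf_eq_prime ((ea_iff.1 ea).2 _ st) R.st_ne
    exact this ▸ orderOf_dvd_natCard _ st
  obtain ⟨⟨a, ha⟩, a1⟩ := ne_bot_iff_exists_ne_one.1 A0
  have FA : F ⊓ C(A) = ⊥ := eq_bot_iff.2 (FH ▸ inf_le_inf_left _ fun g hg =>
    R.mem_of_comm (hA ha) (fun e => a1 (Subtype.ext e)) (mem_top g) (hg a ha).symm)
  have := CfsgH1.wielandt_elementary ea (K := A) (R := zpowers w) le_normalizer_of_normal le_normalizer_of_normal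
    (zpowers_le.2 nA) sA (fun h => hl.one_lt.ne' (Nat.dvd_one.1
      ((Nat.dvd_add_right (h.trans (card_dvd_of_le hA))).1 (cF ▸ lF)))) (fpf_zpowers hp hc)
  rw [FA, eq_bot_iff.2 ((inf_le_inf_left F (centralizer_le (SetLike.coe_subset_coe.2 le_sup_left))).trans FA.le),
    card_bot, one_pow, one_mul, mul_one, cent_zpowers, Nat.card_zpowers, cF, c1] at this
  exact this

namespace RK

variable [Finite G] {L H Q : Subgroup G} {t s r : G} (R : RK L H Q t s r)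
  {G' : Type*} [Group G'] (f : L →* G') (hk : f.ker ≤ (DD H t).subgroupOf L)
include R hk

theorem map_inj {x : L} (hx : (x : G) ∈ Q) (e : f x = 1) : x = 1 := Subtype.ext (R.eq_one_of_QD hx (hk e))

theorem map_comm {d z : L} (hd : (d : G) ∈ H) (hz : (z : G) ∈ Q) (e : f d * f z = f z * f d) : (d : G) * z = z * d := by
  have := congrArg Subtype.val (R.map_inj f hk (x := z⁻¹ * (d * z * d⁻¹)) (mul_mem (inv_mem hz) (R.conjQ hd hz))
    (by simp only [map_mul, map_inv, e]; group))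
  simp only [coe_mul, coe_inv, OneMemClass.coe_one, inv_mul_eq_one] at this
  exact (eq_mul_inv_iff_mul_eq.1 this).symm

theorem card_map {X : Subgroup G} (hX : X ≤ Q) : Nat.card ((X.subgroupOf L).map f) = Nat.card X := by
  rw [CfsgH1.card_map_of_disjoint f (disjoint_def.2 fun hx e => R.map_inj f hk (hX hx) e),
    Nat.card_congr (subgroupOfEquivOfLe (hX.trans R.QL)).toEquiv]

theorem map_inf_cent {X : Subgroup G} (hX : X ≤ Q) {w : L} (hw : (w : G) ∈ H) :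
    (X.subgroupOf L).map f ⊓ C1(f w) = ((X ⊓ C1((w : G))).subgroupOf L).map f := by
  ext y
  constructor
  · rintro ⟨⟨x, hx, rfl⟩, h⟩
    exact ⟨x, ⟨hx, mem_cent1.2 (R.map_comm f hk hw (hX hx) (mem_cent1.1 h))⟩, rfl⟩
  · rintro ⟨x, ⟨hx, h⟩, rfl⟩
    exact ⟨⟨x, hx, rfl⟩, mem_cent1.2 (by rw [← map_mul, ← map_mul]; congr 1; exact Subtype.ext (mem_cent1.1 h))⟩

/-- the isomorphism of `Q` with its image -/
noncomputable def mapEquiv : Q ≃* (Q.subgroupOf L).map f :=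
  (subgroupOfEquivOfLe R.QL).symm.trans (MulEquiv.ofBijective (f.subgroupMap (Q.subgroupOf L))
    ⟨(injective_iff_map_eq_one _).2 fun x e => Subtype.ext (R.map_inj f hk x.2 (congrArg Subtype.val e)),
      f.subgroupMap_surjective _⟩)

theorem map_faithful (hf : Function.Surjective f) (hk' : (DD H t ⊓ C(Q)).subgroupOf L ≤ f.ker) :
    DD ((H.subgroupOf L).map f) (f ⟨t, R.tL⟩) ⊓ C((Q.subgroupOf L).map f) = ⊥ := by
  have R' := R.map f hf hk
  rw [eq_bot_iff]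
  rintro _ ⟨⟨⟨x, hx, rfl⟩, h1⟩, h2⟩
  obtain ⟨y, hy, d, hd, e⟩ := R.split hx
  have hyd : x = ⟨y, R.QL hy⟩ * ⟨d, R.DL hd⟩ := Subtype.ext e
  have hd' : f ⟨d, R.DL hd⟩ ∈ DD ((H.subgroupOf L).map f) (f ⟨t, R.tL⟩) :=
    R'.mem_D.2 ⟨⟨_, R.DH hd, rfl⟩, ⟨⟨_, R.DL (R.conjD hd)⟩, R.DH (R.conjD hd), by simp only [← map_mul]; rfl⟩⟩
  have y1 : f ⟨y, R.QL hy⟩ = 1 := R'.eq_one_of_QD ⟨_, hy, rfl⟩ (by
    have := mul_mem (show f x ∈ DD ((H.subgroupOf L).map f) (f ⟨t, R.tL⟩) from ⟨⟨x, hx, rfl⟩, h1⟩) (inv_mem hd')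
    rwa [hyd, map_mul, mul_inv_cancel_right] at this)
  rw [hyd, map_mul, y1, one_mul] at h2 ⊢
  exact hk' ⟨hd, fun z hz => (R.map_comm f hk (d := ⟨d, R.DL hd⟩) (z := ⟨z, R.QL hz⟩) (R.DH hd) hz
    (h2 _ ⟨⟨z, R.QL hz⟩, hz, rfl⟩).symm).symm⟩

end RK

/-- the structure of a split rank-one group of 2-rank one -/
theorem RK.nf [Finite G] {L H Q : Subgroup G} {t s r : G} (R : RK L H Q t s r) (h2 : q0 Q = 2) :
    ∃ (F : Subgroup G) (l m : ℕ), l.Prime ∧ Nat.card Q + 1 = l ^ m ∧ F ≤ L ∧ L ≤ N(F) ∧ F ⊓ H = DD H t ⊓ C(Q) ∧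
      s * t ∈ F ∧ (s * t) ^ l = 1 ∧ ∀ w ∈ VV H t, (orderOf w).Prime → w ∉ C(Q) → ∀ A ≤ Q, A ≠ ⊥ →
        Group.IsSolvable A → w ∈ N(A) → A ⊓ C1(w) = ⊥ →
        Nat.card Q + 1 = (Nat.card ↥(Q ⊓ C1(w)) + 1) ^ orderOf w := by
  haveI : ((DD H t ⊓ C(Q)).subgroupOf L).Normal := normal_subgroupOf_of_le_normalizer R.norm_ker
  obtain ⟨f, hf, hk⟩ : ∃ f : L →* L ⧸ (DD H t ⊓ C(Q)).subgroupOf L, Function.Surjective f ∧
    f.ker = (DD H t ⊓ C(Q)).subgroupOf L := ⟨_, QuotientGroup.mk'_surjective _, QuotientGroup.ker_mk' _⟩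
  have hk1 := hk.le.trans (comap_mono inf_le_left)
  have R' := R.map f hf hk1
  obtain ⟨F, l, hl, nF, ea, FH, st⟩ := R'.nf0 (q0_congr (R.mapEquiv f hk1) ▸ h2) (R.map_faithful f hk1 hf hk.ge)
  haveI := Fact.mk hl
  have cQ := R.card_map f hk1 le_rfl
  obtain ⟨m, hm⟩ : ∃ m, Nat.card F = l ^ m :=
    IsPGroup.iff_card.1 (CfsgH1.isPGroup_of_forall_pow_eq_one (ea_iff.1 ea).2)
  rw [R'.card_of_st le_top le_normalizer_of_normal st, FH, card_bot, one_mul, cQ] at hm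
  have stL := mul_mem (R.QL R.sQ) R.tL
  rw [← map_mul] at st
  refine ⟨(F.comap f).map L.subtype, l, m, hl, hm, map_subtype_le _, ?_, le_antisymm ?_ ?_, ⟨_, st, rfl⟩, ?_,
    fun w hw hp w1 A hA A0 sA nA hc => ?_⟩
  · intro g hg
    refine CfsgH2.mem_normalizer_of_conj_mem ?_
    rintro _ ⟨x, hx, rfl⟩
    exact ⟨⟨g, hg⟩ * x * ⟨g, hg⟩⁻¹, by simpa using nF.conj_mem _ hx (f ⟨g, hg⟩), rfl⟩
  · rintro _ ⟨⟨x, hx, rfl⟩, h⟩
    exact hk.le ((eq_bot_iff_forall _).1 FH _ ⟨hx, x, h, rfl⟩)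
  · exact fun x hx => ⟨⟨⟨x, R.DL hx.1⟩, by
      rw [SetLike.mem_coe, mem_comap, show f ⟨x, R.DL hx.1⟩ = 1 from hk.ge hx]; exact one_mem _, rfl⟩, R.DH hx.1⟩
  · have : (s * t) ^ l ∈ DD H t ⊓ C(Q) := hk.le (x := ⟨s * t, stL⟩ ^ l) (by
      rw [MonoidHom.mem_ker, map_pow]; exact (ea_iff.1 ea).2 _ st)
    exact (R.st_pow_eq_one (R.QL R.sQ) R.ss (this.2 s R.sQ)).resolve_left R.s1
  · have wL := R.HL (R.VH hw)
    have ow : orderOf (f ⟨w, wL⟩) = orderOf w := by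
      haveI := Fact.mk hp
      exact orderOf_eq_prime (by rw [← map_pow, ← map_one f]; congr 1; exact Subtype.ext (pow_orderOf_eq_one w))
        fun e => w1 (hk.le e).2
    have := R'.nf_wiel hl ea FH (map_mul f _ _ ▸ st) (w := f ⟨w, wL⟩) (R'.mem_V'.2 ⟨⟨_, R.VH hw, rfl⟩, by
      rw [← map_mul, ← map_mul]; congr 1; exact Subtype.ext (R.mem_V.1 hw).2⟩) (ow ▸ hp)
      (A := (A.subgroupOf L).map f) (map_mono (comap_mono hA))
      (fun e => A0 (card_eq_one.1 (by rw [← R.card_map f hk1 hA, e, card_bot])))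
      (CfsgH1.isSolvable_map (CfsgH1.isSolvable_subgroupOf sA L) f) (CfsgH2.mem_normalizer_of_conj_mem (by
        rintro _ ⟨x, hx, rfl⟩
        exact ⟨⟨w, wL⟩ * x * ⟨w, wL⟩⁻¹, conj_mem_of_mem_normalizer nA hx, by simp⟩))
      (by rw [R.map_inf_cent f hk1 hA (R.VH hw), hc]; simp)
    rwa [cQ, R.map_inf_cent f hk1 le_rfl (R.VH hw), R.card_map f hk1 inf_le_left, ow] at this

/-! ### counting conjugates -/

theorem card_cls (A : Subgroup G) (x : G) : Nat.card {y // ∃ a ∈ A, a * x * a⁻¹ = y} = C1(x).relIndex A := by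
  let f : A ⧸ C1(x).subgroupOf A → {y // ∃ a ∈ A, a * x * a⁻¹ = y} := fun q => Quotient.liftOn' q
    (fun a => ⟨a * x * a⁻¹, a, a.2, rfl⟩) fun a b hab => Subtype.ext (by
      have h : x * ((a : G)⁻¹ * b) = (a : G)⁻¹ * b * x :=
        mem_cent1.1 (mem_subgroupOf.1 (QuotientGroup.leftRel_apply.1 hab))
      calc (a : G) * x * (a : G)⁻¹ = a * (x * ((a : G)⁻¹ * b)) * (b : G)⁻¹ := by group
        _ = b * x * (b : G)⁻¹ := by rw [h]; group)
  refine (Nat.card_eq_of_bijective f ⟨fun q r => ?_, ?_⟩).symm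
  · induction q using QuotientGroup.induction_on with | H a =>
    induction r using QuotientGroup.induction_on with | H b =>
    intro h
    have h2 : (a : G) * x * (a : G)⁻¹ = b * x * (b : G)⁻¹ := congrArg Subtype.val h
    refine QuotientGroup.eq.2 (mem_subgroupOf.2 (mem_cent1.2 ?_))
    change x * ((a : G)⁻¹ * b) = (a : G)⁻¹ * b * x
    calc x * ((a : G)⁻¹ * b) = (a : G)⁻¹ * (a * x * (a : G)⁻¹) * b := by group
      _ = (a : G)⁻¹ * b * x := by rw [h2]; group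
  · rintro ⟨_, a, ha, rfl⟩
    exact ⟨(⟨a, ha⟩ : A), rfl⟩

theorem cls_dvd [Finite G] {A B : Subgroup G} {x : G} (hB : B ≤ A) (hc : B ≤ C1(x))
    (h : ∀ b ∈ B, b ≠ 1 → ∀ a ∈ A, b * (a * x * a⁻¹) = a * x * a⁻¹ * b → a * x * a⁻¹ = x) :
    Nat.card B ∣ C1(x).relIndex A - 1 := by
  classical
  letI : MulAction B {y : {y // ∃ a ∈ A, a * x * a⁻¹ = y} // y ≠ ⟨x, 1, one_mem _, by simp⟩} :=
    { smul := fun b y => ⟨⟨b * y.1.1 * (b : G)⁻¹, by
        obtain ⟨a, ha, e⟩ := y.1.2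
        exact ⟨b * a, mul_mem (hB b.2) ha, by rw [← e]; group⟩⟩, fun e => y.2 (Subtype.ext (by
          have e' : (b : G) * y.1.1 * (b : G)⁻¹ = x := congrArg Subtype.val e
          calc y.1.1 = (b : G)⁻¹ * (b * y.1.1 * (b : G)⁻¹ * b) := by group
            _ = x := by rw [e', mem_cent1.1 (hc b.2)]; group))⟩
      one_smul := fun y => Subtype.ext (Subtype.ext (by change 1 * y.1.1 * 1⁻¹ = y.1.1; simp))
      mul_smul := fun a b y => Subtype.ext (Subtype.ext (by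
        change (a * b : G) * y.1.1 * (a * b : G)⁻¹ = a * (b * y.1.1 * (b : G)⁻¹) * (a : G)⁻¹; group)) }
  have e := Nat.card_congr (MulAction.selfEquivOrbitsQuotientProd (G := B)
    (X := {y : {y // ∃ a ∈ A, a * x * a⁻¹ = y} // y ≠ ⟨x, 1, one_mem _, by simp⟩}) fun y =>
      (eq_bot_iff_forall _).2 fun b hb => by_contra fun b1 => by
        have h2 : (b : G) * y.1.1 * (b : G)⁻¹ = y.1.1 := congrArg (·.1.1) (MulAction.mem_stabilizer_iff.1 hb)
        obtain ⟨a, ha, e⟩ := y.1.2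
        exact y.2 (Subtype.ext (e ▸ h b b.2 (fun e => b1 (Subtype.ext e)) a ha (e ▸ mul_inv_eq_iff_eq_mul.1 h2))))
  rw [Nat.card_prod] at e
  haveI := Fintype.ofFinite {y // ∃ a ∈ A, a * x * a⁻¹ = y}
  rw [← card_cls]
  simp only [Nat.card_eq_fintype_card, ne_eq, Fintype.card_subtype_compl, Fintype.card_unique] at e ⊢
  exact e ▸ Dvd.intro_left _ rfl

theorem exists_pow_pow {x : G} (hp : (orderOf x).Prime) {i : ℕ} (h : x ^ i ≠ 1) : ∃ e : ℕ, (x ^ i) ^ e = x := by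
  obtain ⟨e, he⟩ := exists_pow_eq_self_of_coprime (x := x) (n := i)
    (hp.coprime_iff_not_dvd.2 fun h' => h (orderOf_dvd_iff_pow_eq_one.1 h')).symm
  exact ⟨e, he⟩

theorem cls_le [Finite G] {A X : Subgroup G} {x : G} (hp : (orderOf x).Prime)
    (hN : ∀ a (i : ℕ), a * x * a⁻¹ = x ^ i → a * x * a⁻¹ = x) (hA : A ≤ N(X)) (hx : x ∈ X) {S : Set G} (hS : S ⊆ X)
    (h : ∀ a (i : ℕ), a * x ^ i * a⁻¹ ∈ S → x ^ i = 1) :
    C1(x).relIndex A * (orderOf x - 1) + Nat.card S ≤ Nat.card X := by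
  have ne : ∀ i : Fin (orderOf x - 1), x ^ (i + 1 : ℕ) ≠ 1 := fun i =>
    pow_ne_one_of_lt_orderOf (by omega) (by have := i.2; omega)
  let f : {y // ∃ a ∈ A, a * x * a⁻¹ = y} × Fin (orderOf x - 1) ⊕ S → X := Sum.elim
    (fun y => ⟨y.1 ^ (y.2 + 1 : ℕ), pow_mem (by
      obtain ⟨a, ha, e⟩ := y.1.2
      exact e ▸ conj_mem_of_mem_normalizer (hA ha) hx) _⟩) fun y => ⟨y, hS y.2⟩
  have := Nat.card_le_card_of_injective f (Function.Injective.sumElim ?_ (fun y z e => Subtype.ext (congrArg (·.1) e)) ?_)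
  · rwa [Nat.card_sum, Nat.card_prod, card_cls, Nat.card_fin] at this
  · rintro ⟨⟨_, a, ha, rfl⟩, i⟩ ⟨⟨_, b, hb, rfl⟩, j⟩ e
    replace e : (a * x * a⁻¹) ^ (i + 1 : ℕ) = (b * x * b⁻¹) ^ (j + 1 : ℕ) := congrArg (·.1) e
    obtain ⟨k, hk⟩ := exists_pow_pow hp (ne i)
    have h1 : b⁻¹ * a * x * (b⁻¹ * a)⁻¹ = x := hN _ ((j + 1) * k) (by
      calc _ = b⁻¹ * ((a * x * a⁻¹) ^ (i + 1 : ℕ)) ^ k * b := by simp only [conj_pow, hk]; group
        _ = _ := by simp only [e, conj_pow, pow_mul]; group)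
    have h2 : a * x * a⁻¹ = b * x * b⁻¹ := by nth_rewrite 2 [← h1]; group
    rw [h2, conj_pow, conj_pow, mul_left_inj, mul_right_inj] at e
    have := pow_injOn_Iio_orderOf (x := x) (show (i + 1 : ℕ) < orderOf x by have := i.2; omega)
      (show (j + 1 : ℕ) < orderOf x by have := j.2; omega) e
    exact Prod.ext (Subtype.ext h2) (Fin.ext (Nat.succ_injective this))
  · rintro ⟨⟨_, a, ha, rfl⟩, i⟩ y e
    replace e : (a * x * a⁻¹) ^ (i + 1 : ℕ) = y := congrArg (·.1) e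
    exact ne i (h a _ (by rw [← conj_pow, e]; exact y.2))

end CfsgSuz
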