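import Mathlib
import Cfsg.Agent.H2.SylowIn

/-! Sylow 2-subgroups of symmetric groups: the transpositions they contain. -/

set_option autoImplicit false

namespace CfsgPm

open Equiv Equiv.Perm Subgroup CfsgH2

/-- The conjugation action of the normalizer of a set on the set. -/
def nh {G : Type*} [Group G] (S : Set G) : normalizer S →* Perm S := MonoidHom.toHomPerm
  { toFun g := fun t => ⟨g * t * (g : G)⁻¹, (g.2 t).1 t.2⟩
    map_one' := funext fun t => Subtype.ext (show (1 : G) * t * 1⁻¹ = t by simp)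
    map_mul' g h := funext fun t => Subtype.ext (show g.1 * h * t * (g.1 * h)⁻¹ = g * (h * t * h.1⁻¹) * g.1⁻¹ by group) }

theorem nh_apply {G : Type*} [Group G] {S : Set G} (g : normalizer S) (t : S) : (nh S g t : G) = g * t * (g : G)⁻¹ := rfl

variable {Ω : Type*} [Fintype Ω] [DecidableEq Ω]

/-- The transpositions in `Q`. -/
def Tr (Q : Subgroup (Perm Ω)) : Set (Perm Ω) := {t | t ∈ Q ∧ t.IsSwap}

omit [Fintype Ω] in
theorem sw_eq {t : Perm Ω} (h : t.IsSwap) {x : Ω} (hx : t x ≠ x) : t = swap x (t x) := by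
  obtain ⟨a, b, -, rfl⟩ := h
  rcases eq_or_eq_of_swap_apply_ne_self hx with rfl | rfl
  · rw [swap_apply_left]
  · rw [swap_apply_right, swap_comm]

omit [Fintype Ω] in
theorem sw_sw {t : Perm Ω} (h : t.IsSwap) (x : Ω) : t (t x) = x := by
  obtain ⟨a, b, -, rfl⟩ := h
  exact swap_apply_self _ _ _

omit [Fintype Ω] in
theorem sw_mv {t : Perm Ω} (h : t.IsSwap) : ∃ x, t x ≠ x := by
  obtain ⟨a, b, n, rfl⟩ := h
  exact ⟨a, by simpa using n.symm⟩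

omit [Fintype Ω] in
theorem sw_conj {t : Perm Ω} (h : t.IsSwap) (g : Perm Ω) : (g * t * g⁻¹).IsSwap := by
  obtain ⟨a, b, n, rfl⟩ := h
  exact ⟨_, _, g.injective.ne n, (swap_apply_apply g a b).symm⟩

theorem le_nTr (Q : Subgroup (Perm Ω)) : Q ≤ normalizer (Tr Q) := fun g hg =>
  mem_normalizer_fintype fun _ ht => ⟨mul_mem (mul_mem hg ht.1) (inv_mem hg), sw_conj ht.2 g⟩

section two
variable {Q : Subgroup (Perm Ω)} (hQ : IsPGroup 2 Q)
include hQ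

theorem no_three {t : Perm Ω} (ht : t ∈ Q) : ¬ t.IsThreeCycle := fun h => by
  obtain ⟨k, hk⟩ := IsPGroup.iff_orderOf.1 hQ ⟨t, ht⟩
  rw [orderOf_mk, h.orderOf] at hk
  exact absurd (Nat.prime_three.dvd_of_dvd_pow hk.dvd) (by decide)

theorem sw_uniq {x y z : Ω} (h1 : swap x y ∈ Q) (h2 : swap x z ∈ Q) (hy : y ≠ x) (hz : z ≠ x) : y = z :=
  by_contra fun n => no_three hQ (mul_mem h1 h2) (isThreeCycle_swap_mul_swap_same hy.symm hz.symm n)

theorem tr_eq {s t : Perm Ω} (hs : s ∈ Tr Q) (ht : t ∈ Tr Q) {x : Ω} (h1 : s x ≠ x) (h2 : t x ≠ x) : s = t := by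
  rw [sw_eq hs.2 h1, sw_uniq hQ (sw_eq hs.2 h1 ▸ hs.1) (sw_eq ht.2 h2 ▸ ht.1) h1 h2, ← sw_eq ht.2 h2]

theorem tr_fix {s t : Perm Ω} (hs : s ∈ Tr Q) (ht : t ∈ Tr Q) (n : s ≠ t) {x : Ω} (h : t x ≠ x) : s x = x ∧ s (t x) = t x :=
  ⟨by_contra fun e => n (tr_eq hQ hs ht e h), by_contra fun e => n (tr_eq hQ hs ht e (t.injective.ne h))⟩

theorem tr_dbl {s t : Perm Ω} (hs : s ∈ Tr Q) (ht : t ∈ Tr Q) (n : s ≠ t) {a c : Ω} (ha : s a ≠ a) (hc : t c ≠ c) :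
    ∃ h : swap a c * swap (s a) (t c) ∈ normalizer (Tr Q), nh _ ⟨_, h⟩ = swap ⟨s, hs⟩ ⟨t, ht⟩ := by
  have h1 := tr_fix hQ hs ht n hc
  have h2 := tr_fix hQ ht hs n.symm ha
  have ac : a ≠ c := fun e => ha (e ▸ h1.1)
  have ad : a ≠ t c := fun e => ha (e ▸ h1.2)
  have bc : s a ≠ c := fun e => hc (e ▸ h2.2)
  have k : ∀ r ∈ Tr Q, swap a c * swap (s a) (t c) * r * (swap a c * swap (s a) (t c))⁻¹ = swap s t r := fun r hr => by
    by_cases e1 : r = s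
    · rw [e1, swap_apply_left, sw_eq ht.2 hc]
      nth_rewrite 2 [sw_eq hs.2 ha]
      rw [← swap_apply_apply]
      simp [swap_apply_of_ne_of_ne, ha.symm, ad, ad.symm, hc]
    by_cases e2 : r = t
    · rw [e2, swap_apply_right, sw_eq hs.2 ha]
      nth_rewrite 2 [sw_eq ht.2 hc]
      rw [← swap_apply_apply]
      simp [swap_apply_of_ne_of_ne, ha, bc, bc.symm, hc.symm]
    obtain ⟨x, hx⟩ := sw_mv hr.2
    have f : ∀ y, r y ≠ y → (swap a c * swap (s a) (t c)) y = y := fun y hy => by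
      have a1 := tr_fix hQ hr hs e1 ha
      have a2 := tr_fix hQ hr ht e2 hc
      rw [Perm.mul_apply, swap_apply_of_ne_of_ne (fun e : y = s a => hy (e.symm ▸ a1.2)) fun e : y = t c => hy (e.symm ▸ a2.2),
        swap_apply_of_ne_of_ne (fun e : y = a => hy (e.symm ▸ a1.1)) fun e : y = c => hy (e.symm ▸ a2.1)]
    rw [swap_apply_of_ne_of_ne e1 e2, sw_eq hr.2 hx, ← swap_apply_apply, f x hx, f _ (r.injective.ne hx)]
  refine ⟨mem_normalizer_fintype fun r hr => ?_, Equiv.ext fun r => Subtype.ext ((k r r.2).trans ?_)⟩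
  · rw [k r hr, swap_apply_def]
    split_ifs <;> assumption
  · exact (Subtype.val_injective.map_swap ⟨s, hs⟩ ⟨t, ht⟩ r).symm

theorem nh_surj : Function.Surjective (nh (Tr Q)) := by
  classical
  rw [← MonoidHom.range_eq_top, ← top_le_iff, ← closure_isSwap, closure_le]
  rintro _ ⟨s, t, n, rfl⟩
  obtain ⟨a, ha⟩ := sw_mv s.2.2
  obtain ⟨c, hc⟩ := sw_mv t.2.2
  obtain ⟨h, e⟩ := tr_dbl hQ s.2 t.2 (Subtype.val_injective.ne n) ha hc
  exact ⟨_, by convert e⟩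

theorem nh_tr {t : Perm Ω} (ht : t ∈ Tr Q) : nh _ ⟨t, le_nTr Q ht.1⟩ = 1 := Equiv.ext fun s => Subtype.ext <| by
  obtain ⟨x, hx⟩ := sw_mv s.2.2
  by_cases e : t = s
  · simp [nh_apply, e]
  have := tr_fix hQ ht s.2 e hx
  rw [nh_apply, Perm.one_apply, sw_eq s.2.2 hx, ← swap_apply_apply, this.1, this.2]

end two

variable (P : Sylow 2 (Perm Ω))

theorem ex_sw {U : Set Ω} (hU : ∀ g ∈ P, ∀ x ∈ U, g x ∈ U) {x y : Ω} (hx : x ∈ U) (hy : y ∈ U) (n : x ≠ y) :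
    ∃ x ∈ U, ∃ y ∈ U, x ≠ y ∧ swap x y ∈ P := by
  have m : ∀ {g}, g ∈ fixingSubgroup (Perm Ω) Uᶜ ↔ ∀ z ∉ U, g z = z := mem_fixingSubgroup_iff _
  have hn : (P : Subgroup (Perm Ω)) ≤ normalizer (fixingSubgroup (Perm Ω) Uᶜ) := le_normalizer_iff.2 fun g hg k hk => m.2 fun z hz => by
    rw [Perm.mul_apply, Perm.mul_apply, m.1 hk _ fun e => hz (by simpa using hU g hg _ e)]
    simp
  have S := ((IsSylowIn.of_sylow_top P).mono le_sup_left le_top).inf_of_normalizer' le_sup_right (sup_le hn le_normalizer)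
  obtain ⟨k, k1, k2⟩ := S.exists_cj_le (Q := zpowers (swap x y)) (.of_card (n := 1) (by rw [Nat.card_zpowers, IsSwap.orderOf ⟨x, y, n, rfl⟩, pow_one]))
    (zpowers_le.2 (m.2 fun z hz => swap_apply_of_ne_of_ne (fun e => hz (e ▸ hx)) fun e => hz (e ▸ hy)))
  have u : ∀ z ∈ U, k z ∈ U := fun z hz => by_contra fun e => e ((k.injective (m.1 k1 _ e)).symm ▸ hz)
  exact ⟨_, u x hx, _, u y hy, k.injective.ne n, swap_apply_apply k x y ▸ (k2 (conj_mem_cj k (mem_zpowers _))).1⟩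

theorem unc {x y : Ω} (hx : ∀ t ∈ Tr P.1, t x = x) (hy : ∀ t ∈ Tr P.1, t y = y) : x = y := by_contra fun n => by
  obtain ⟨a, ha, b, -, n, h⟩ := ex_sw P (U := {x | ∀ t ∈ Tr P.1, t x = x}) (fun g hg z hz t ht => by
    simpa [Equiv.symm_apply_eq] using hz _ ((inv_mem (le_nTr _ hg) t).1 ht)) hx hy n
  exact n (by simpa using (ha _ ⟨h, a, b, n, rfl⟩).symm)

theorem unc_n {g : Perm Ω} (hg : g ∈ normalizer (Tr P.1)) {x : Ω} (hx : ∀ t ∈ Tr P.1, t x = x) : g x = x :=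
  unc P (fun t ht => by simpa [Equiv.symm_apply_eq] using hx _ ((inv_mem hg t).1 ht)) hx

theorem ker_sq {g : normalizer (Tr P.1)} (h : nh _ g = 1) : g ^ 2 = 1 := Subtype.ext <| Equiv.ext fun x => by
  by_cases c : ∀ t ∈ Tr P.1, t x = x
  · simp [pow_two, unc_n P g.2 c]
  push Not at c
  obtain ⟨t, ht, hx⟩ := c
  have e : (g : Perm Ω) * t * (g : Perm Ω)⁻¹ = t := congrArg Subtype.val (Equiv.congr_fun h ⟨t, ht⟩)
  have c : ∀ y, g.1 (t y) = t (g.1 y) := fun y => by simpa using Equiv.congr_fun e (g.1 y)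
  have : swap x (t x) (g.1 x) ≠ g.1 x := by rw [← sw_eq ht.2 hx, ← c]; exact g.1.injective.ne hx
  rcases eq_or_eq_of_swap_apply_ne_self this with e | e
  · simp [pow_two, e]
  · simp [pow_two, e, c, sw_sw ht.2]

theorem ex_bar : ∃ R : Sylow 2 (Perm (Tr P.1)), ∀ g, nh (Tr P.1) g ∈ R ↔ g.1 ∈ P := by
  have S : IsSylowIn 2 ((P : Subgroup (Perm Ω)).subgroupOf (normalizer (Tr P.1))) ⊤ := IsSylowIn.of_sylow_top (IsSylowIn.of_sylow P (le_nTr _)).toSylow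
  have := S.map (nh (Tr P.1))
  rw [← MonoidHom.range_eq_map, MonoidHom.range_eq_top.2 (nh_surj P.2)] at this
  obtain ⟨R, hR⟩ := this.of_top
  refine ⟨R, fun g => ⟨fun h => ?_, fun h => hR.ge ⟨g, h, rfl⟩⟩⟩
  obtain ⟨p, hp, e⟩ := hR.le h
  have := S.le_of_normalizer (Q := (nh (Tr P.1)).ker) (fun k => ⟨1, Subtype.ext (ker_sq P k.2)⟩) le_top (by rw [normalizer_eq_top])
    (x := p⁻¹ * g) (by rw [MonoidHom.mem_ker, map_mul, map_inv, e, inv_mul_cancel])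
  exact (mul_mem_cancel_left (inv_mem hp)).1 this

theorem card_tr : 2 * Nat.card (Tr P.1) + {x | ∀ t ∈ Tr P.1, t x = x}.ncard = Fintype.card Ω ∧ {x | ∀ t ∈ Tr P.1, t x = x}.ncard ≤ 1 := by
  classical
  have e : ((Tr P.1).toFinset.biUnion support).card = 2 * Nat.card (Tr P.1) := by
    rw [Finset.card_biUnion fun s hs t ht n => Finset.disjoint_left.2 fun x h1 h2 =>
      n (tr_eq P.2 (Set.mem_toFinset.1 hs) (Set.mem_toFinset.1 ht) (mem_support.1 h1) (mem_support.1 h2)),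
      Finset.sum_const_nat fun t ht => card_support_eq_two.2 (Set.mem_toFinset.1 ht).2, Set.toFinset_card, Nat.card_eq_fintype_card, mul_comm]
  refine ⟨?_, (Set.ncard_le_one_iff (Set.toFinite _)).2 (unc P)⟩
  rw [← e, ← Finset.card_add_card_compl ((Tr P.1).toFinset.biUnion support), ← Set.ncard_coe_finset (_ᶜ)]
  congr 2
  ext; simp

theorem ex_avoid {Q : Subgroup (Perm Ω)} (hQ : IsPGroup 2 Q) {s : Finset Ω} (h : s.card < Nat.card (Tr Q)) : ∃ t ∈ Tr Q, ∀ x ∈ s, t x = x := by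
  by_contra! c
  choose f h1 h2 using c
  have := Nat.card_le_card_of_injective (fun t : Tr Q => (⟨f t t.2, h1 t t.2⟩ : s)) fun a b e =>
    Subtype.ext (tr_eq hQ a.2 b.2 (h2 a a.2) ((show f a a.2 = f b b.2 from congrArg Subtype.val e) ▸ h2 b b.2))
  rw [Nat.card_eq_finsetCard] at this
  omega

theorem sw_mul {s t : Perm Ω} (hs : s.IsSwap) (ht : t.IsSwap) : s * t ∈ alternatingGroup Ω := by
  simp [mem_alternatingGroup, hs.sign_eq, ht.sign_eq]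

theorem ex_even {Q : Subgroup (Perm Ω)} {p t : Perm Ω} (hp : p ∈ Q) (ht : t ∈ Tr Q) : ∃ q ∈ Q ⊓ alternatingGroup Ω, q = p ∨ q = p * t := by
  rcases Int.units_eq_one_or (sign p) with h | h
  · exact ⟨p, ⟨hp, h⟩, .inl rfl⟩
  · exact ⟨p * t, ⟨mul_mem hp ht.1, by simp [mem_alternatingGroup, h, ht.2.sign_eq]⟩, .inr rfl⟩

theorem odd_step (ih : ∀ R : Sylow 2 (Perm (Tr P.1)), ∀ g ∈ normalizer (R.1 : Set (Perm (Tr P.1))), Odd (orderOf g) → g = 1)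
    {Q : Subgroup (Perm Ω)} (hQ : Q ≤ P) (hs : ∀ p ∈ P, ∃ q ∈ Q, q = p ∨ ∃ t ∈ Tr P.1, q = p * t) {g : Perm Ω} (h1 : g ∈ normalizer (Tr P.1))
    (h2 : g ∈ normalizer (Q : Set (Perm Ω))) (ho : Odd (orderOf g)) : g = 1 := by
  obtain ⟨R, hR⟩ := ex_bar P
  have := ker_sq P (ih R (nh _ ⟨g, h1⟩) (mem_normalizer_fintype fun r hr => ?_) (ho.of_dvd_nat (orderOf_mk g h1 ▸ orderOf_map_dvd _ _)))
  · exact orderOf_eq_one_iff.1 (Nat.Coprime.eq_one_of_dvd (by simpa using ho) (orderOf_dvd_of_pow_eq_one (congrArg Subtype.val this)))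
  obtain ⟨p, rfl⟩ := nh_surj P.2 r
  obtain ⟨q, q1, q2⟩ := hs p ((hR p).1 hr)
  have : nh _ p = nh _ ⟨q, le_nTr _ (hQ q1)⟩ := by
    rcases q2 with rfl | ⟨t, ht, rfl⟩
    · rfl
    · rw [← mul_one (nh _ p), ← nh_tr P.2 ht, ← map_mul]; rfl
  rw [this, ← map_inv, ← map_mul, ← map_mul]
  exact (hR _).2 (hQ ((h2 q).1 q1))

omit P in
theorem odd_norm {Ω : Type*} [Fintype Ω] [DecidableEq Ω] (P : Sylow 2 (Perm Ω)) (g : Perm Ω) (h : g ∈ normalizer (P.1 : Set (Perm Ω)))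
    (ho : Odd (orderOf g)) : g = 1 := by
  classical
  induction hn : Fintype.card Ω using Nat.strong_induction_on generalizing Ω with | _ n ih => ?_
  rcases isEmpty_or_nonempty (Tr P.1) with e | e
  · exact Equiv.ext fun x => unc P (fun t ht => e.elim ⟨t, ht⟩) fun t ht => e.elim ⟨t, ht⟩
  haveI := Fintype.ofFinite (Tr P.1)
  refine odd_step P (fun R g h1 h2 => ih _ ?_ R g h1 h2 rfl) le_rfl (fun p hp => ⟨p, hp, .inl rfl⟩)
    (mem_normalizer_fintype fun t ht => ⟨(h t).1 ht.1, sw_conj ht.2 g⟩) h ho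
  have := (card_tr P).1
  have := Nat.card_pos (α := Tr P.1)
  rw [← Nat.card_eq_fintype_card]
  omega

theorem tr_iff (h3 : 2 < Nat.card (Tr P.1)) {x y : Ω} (n : x ≠ y) : swap x y ∈ P ↔ (∃ q ∈ P.1 ⊓ alternatingGroup Ω, q x ≠ x) ∧
    (∃ q ∈ P.1 ⊓ alternatingGroup Ω, q y ≠ y) ∧ ∀ q ∈ P.1 ⊓ alternatingGroup Ω, q x = x ↔ q y = y := by
  have k : ∀ {x y}, x ≠ y → swap x y ∈ P → (∃ q ∈ P.1 ⊓ alternatingGroup Ω, q x ≠ x) ∧ ∀ q ∈ P.1 ⊓ alternatingGroup Ω, q x = x → q y = y :=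
    fun {x y} n h => by
      obtain ⟨t, ht, e⟩ := ex_avoid P.2 (s := {x}) (by rw [Finset.card_singleton]; omega)
      refine ⟨⟨swap x y * t, ⟨mul_mem h ht.1, sw_mul ⟨x, y, n, rfl⟩ ht.2⟩, by simp [e, n.symm]⟩, fun q hq e => ?_⟩
      exact sw_uniq P.2 (by simpa only [← swap_apply_apply, e] using P.1.mul_mem (P.1.mul_mem hq.1 h) (P.1.inv_mem hq.1)) h (e ▸ q.injective.ne n.symm) n.symm
  refine ⟨fun h => ⟨(k n h).1, (k n.symm (swap_comm x y ▸ h)).1, fun q hq => ⟨(k n h).2 q hq, (k n.symm (swap_comm x y ▸ h)).2 q hq⟩⟩,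
    fun ⟨⟨p, p1, p2⟩, _, h⟩ => ?_⟩
  obtain ⟨s, hs, hx⟩ : ∃ s ∈ Tr P.1, s x ≠ x := by
    by_contra! c
    exact p2 (unc_n P (le_nTr _ p1.1) c)
  obtain ⟨t, ht, e⟩ := ex_avoid P.2 (s := {x, y}) (Finset.card_le_two.trans_lt h3)
  have : s y ≠ y := fun c => hx (by simpa [e] using (h (s * t) ⟨mul_mem hs.1 ht.1, sw_mul hs.2 ht.2⟩).2 (by simp [e, c]))
  rw [sw_eq hs.2 hx] at this hs
  exact (eq_or_eq_of_swap_apply_ne_self this).resolve_left n.symm ▸ hs.1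

theorem odd_norm_alt (h6 : 6 ≤ Fintype.card Ω) {g : Perm Ω} (h : g ∈ normalizer ((P.1 ⊓ alternatingGroup Ω : Subgroup (Perm Ω)) : Set (Perm Ω)))
    (ho : Odd (orderOf g)) : g = 1 := by
  classical
  have h3 : 2 < Nat.card (Tr P.1) := by have := card_tr P; omega
  haveI := Fintype.ofFinite (Tr P.1)
  obtain ⟨s, hs, -⟩ := ex_avoid P.2 (s := ∅) (by rw [Finset.card_empty]; omega)
  refine odd_step P (odd_norm) inf_le_left (fun p hp => (ex_even hp hs).imp fun q k => ⟨k.1, k.2.imp_right fun e => ⟨s, hs, e⟩⟩)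
    (mem_normalizer_fintype ?_) h ho
  rintro _ ⟨ht, x, y, n, rfl⟩
  refine ⟨?_, sw_conj ⟨x, y, n, rfl⟩ g⟩
  obtain ⟨⟨p, p1, p2⟩, ⟨q, q1, q2⟩, k⟩ := (tr_iff P h3 n).1 ht
  rw [← swap_apply_apply]
  refine (tr_iff P h3 (g.injective.ne n)).2 ⟨⟨_, (h p).1 p1, by simpa⟩, ⟨_, (h q).1 q1, by simpa⟩, fun r hr => ?_⟩
  simpa [Equiv.symm_apply_eq] using k _ ((inv_mem h r).1 hr)

end CfsgPm
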