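import Mathlib
import Cfsg.Agent.H3.Sy2
import Cfsg.Agent.H3.Pm3
import Cfsg.Agent.H3.Sn1

/-! Overgroups of Sylow 2-subgroups of symmetric and alternating groups. -/

set_option autoImplicit false

namespace CfsgPm

open Equiv Equiv.Perm Subgroup CfsgH2 MulAction

theorem syl_orbit {G Ω : Type*} [Group G] [Finite G] [MulAction G Ω] {p k : ℕ} [hp : Fact p.Prime] {S H : Subgroup G} (h : IsSylowIn p S H) {x : Ω}
    (e : (orbit H x).ncard = p ^ k) : orbit S x = orbit H x := by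
  refine Set.eq_of_subset_of_ncard_le (fun _ ⟨g, e⟩ => ⟨⟨g, h.le g.2⟩, e⟩) (Nat.le_of_dvd ((Set.ncard_pos (Set.finite_range _)).2 (nonempty_orbit x)) ?_)
    (Set.finite_range _)
  have a := relIndex_mul_relIndex (S ⊓ stabilizer G x) S H inf_le_left h.le
  rw [← relIndex_mul_relIndex _ (H ⊓ stabilizer G x) H (inf_le_inf_right _ h.le) inf_le_left, inf_relIndex_left, inf_relIndex_left,
    ← ncard_orbit_sub, ← ncard_orbit_sub, e] at a
  exact e ▸ (Nat.Coprime.pow_left k (hp.out.coprime_iff_not_dvd.2 h.not_dvd)).dvd_of_dvd_mul_right (Dvd.intro_left _ a.symm)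

/-- The permutations preserving a relation. -/
def RS {Ω : Type*} (R : Ω → Ω → Prop) : Subgroup (Perm Ω) where
  carrier := {g | ∀ x y, R (g x) (g y) ↔ R x y}
  one_mem' _ _ := Iff.rfl
  mul_mem' h k x y := (h _ _).trans (k x y)
  inv_mem' {g} h x y := by simpa using (h (g⁻¹ x) (g⁻¹ y)).symm

variable {Ω : Type*} [Fintype Ω] [DecidableEq Ω]

theorem sw_blk {Q : Subgroup (Perm Ω)} (hQ : IsPGroup 2 Q) {x y : Ω} (h : swap x y ∈ Q) (n : x ≠ y) {r : Perm Ω} (hr : r ∈ Q) (e : r x = x ∨ r x = y) :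
    r y = x ∨ r y = y := by
  have k : swap (r x) (r y) ∈ Q := swap_apply_apply r x y ▸ mul_mem (mul_mem hr h) (inv_mem hr)
  have m := (r.injective.ne n).symm
  rcases e with e | e <;> rw [e] at k m
  · exact .inr (sw_uniq hQ k h m n.symm)
  · exact .inl (sw_uniq hQ k (swap_comm x y ▸ h) m n)

variable (P : Sylow 2 (Perm Ω))

theorem ex_four (h : 1 < Nat.card (Tr P.1)) : ∃ s ∈ Tr P.1, ∃ t ∈ Tr P.1, s ≠ t ∧ (∀ a c, s a ≠ a → t c ≠ c → swap a c * swap (s a) (t c) ∈ P) ∧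
    ∀ p ∈ P, ∀ x, s x ≠ x ∨ t x ≠ x → s (p x) ≠ p x ∨ t (p x) ≠ p x → ∀ y, s y ≠ y ∨ t y ≠ y → s (p y) ≠ p y ∨ t (p y) ≠ p y := by
  classical
  obtain ⟨R, hR⟩ := ex_bar P
  haveI := Fintype.ofFinite (Tr P.1)
  obtain ⟨x, y, n⟩ := (Finite.one_lt_card_iff_nontrivial.1 h).exists_pair_ne
  obtain ⟨s, -, t, -, n, h⟩ := ex_sw R (U := Set.univ) (fun _ _ _ _ => trivial) trivial trivial n
  refine ⟨s, s.2, t, t.2, Subtype.val_injective.ne n, fun a c ha hc => ?_, fun p hp x hx hpx y hy => ?_⟩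
  · obtain ⟨k, e⟩ := tr_dbl P.2 s.2 t.2 (Subtype.val_injective.ne n) ha hc
    exact (hR ⟨_, k⟩).1 (by convert h using 1)
  let r := nh _ ⟨p, le_nTr _ hp⟩
  have hr : r ∈ R := (hR _).2 hp
  have mv : ∀ (u : Tr P.1) z, u.1 z ≠ z → (r u).1 (p z) ≠ p z := fun u z h => by simpa [r, nh_apply] using h
  have a : ∀ u : Tr P.1, u.1 x ≠ x → r u = s ∨ r u = t := fun u hu =>
    hpx.imp (fun e => Subtype.ext (tr_eq P.2 (r u).2 s.2 (mv u x hu) e)) fun e => Subtype.ext (tr_eq P.2 (r u).2 t.2 (mv u x hu) e)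
  have b : (r s = s ∨ r s = t) ∧ (r t = s ∨ r t = t) := hx.elim (fun e => ⟨a s e, sw_blk R.2 h n hr (a s e)⟩)
    fun e => ⟨(sw_blk R.2 (swap_comm s t ▸ h) n.symm hr (a t e).symm).symm, a t e⟩
  have d : ∀ u : Tr P.1, u.1 y ≠ y → r u = s ∨ r u = t → _ := fun u e => Or.imp (fun k : r u = s => (k ▸ mv u y e : s.1 (p y) ≠ p y))
    fun k : r u = t => (k ▸ mv u y e : t.1 (p y) ≠ p y)
  exact hy.elim (fun e => d s e b.1) fun e => d t e b.2

theorem over_even (h8 : 8 ≤ Fintype.card Ω) (h2 : Even (Fintype.card Ω)) {J : Subgroup (Perm Ω)}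
    (hJ : ∀ H, P.1 ≤ H → ¬ alternatingGroup Ω ≤ H → H ⊓ alternatingGroup Ω ≤ J) : alternatingGroup Ω ≤ J := by
  have c := card_tr P
  rw [Nat.even_iff] at h2
  have cov : ∀ y, ∃ r ∈ Tr P.1, r y ≠ y := fun y => by
    by_contra! e
    have := (Set.ncard_pos (Set.toFinite {x | ∀ t ∈ Tr P.1, t x = x})).2 ⟨y, e⟩
    omega
  obtain ⟨s, hs, t, ht, n, -, bl⟩ := ex_four P (by omega)
  obtain ⟨a, ha⟩ := sw_mv hs.2
  obtain ⟨c, hc⟩ := sw_mv ht.2
  have h1 := tr_fix P.2 hs ht n hc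
  have h2 := tr_fix P.2 ht hs n.symm ha
  have ac : a ≠ c := fun e => ha (e ▸ h1.1)
  have bc : s a ≠ c := fun e => hc (e ▸ h2.2)
  have ev : ∀ {y}, a ≠ y → swap a (s a) * swap a y ∈ alternatingGroup Ω := fun h => sw_mul ⟨_, _, ha.symm, rfl⟩ ⟨_, _, h, rfl⟩
  have sP : swap a (s a) ∈ P.1 := sw_eq hs.2 ha ▸ hs.1
  have H1 := hJ _ (le_nTr _) fun e => bc (sw_uniq P.2 sP (swap_comm a c ▸ by
    have := ((e (ev ac) _).1 ⟨sP, _, _, ha.symm, rfl⟩).1
    rw [← swap_apply_apply] at this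
    simpa [swap_apply_of_ne_of_ne, ha, bc, ac.symm, bc.symm] using this) ha ac.symm)
  obtain ⟨u, hu, e⟩ := ex_avoid P.2 (s := {a, c}) (Finset.card_le_two.trans_lt (by omega))
  simp only [Finset.mem_insert, Finset.mem_singleton, forall_eq_or_imp, forall_eq] at e
  have us : u ≠ s := fun k => ha (k ▸ e.1)
  have ut : u ≠ t := fun k => hc (k ▸ e.2)
  have τ : swap a (s a) * swap a c ∈ J := by
    refine hJ (RS fun x y => ∃ p ∈ P, (s (p x) ≠ p x ∨ t (p x) ≠ p x) ∧ (s (p y) ≠ p y ∨ t (p y) ≠ p y))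
      (fun g hg x y => ⟨fun ⟨p, h⟩ => ⟨p * g, mul_mem h.1 hg, h.2⟩, fun ⟨p, h⟩ => ⟨p * g⁻¹, mul_mem h.1 (inv_mem hg), by simpa using h.2⟩⟩)
      (fun k => ?_) ⟨fun x y => exists_congr fun p => and_congr_right fun hp => ?_, ev ac⟩
    · obtain ⟨y, hy⟩ := sw_mv hu.2
      have y1 := (tr_fix P.2 hs hu us.symm hy).1
      have y2 := (tr_fix P.2 ht hu ut.symm hy).1
      have ay : a ≠ y := fun k => ha (k ▸ y1)
      have yb : y ≠ s a := fun k => s.injective.ne ha (k ▸ y1)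
      have cy : c ≠ y := fun k => hc (k ▸ y2)
      obtain ⟨p, hp, p1, p2⟩ := (k (ev ay) a c).2 ⟨1, one_mem _, .inl ha, .inr hc⟩
      simp only [Perm.mul_apply, swap_apply_left, swap_apply_of_ne_of_ne ay.symm yb, swap_apply_of_ne_of_ne ac.symm cy,
        swap_apply_of_ne_of_ne ac.symm bc.symm] at p1 p2
      simpa [y1, y2] using bl p⁻¹ (inv_mem hp) _ p2 (.inr (by simpa)) _ p1
    have sw : ∀ {x y}, s x ≠ x ∨ t x ≠ x → s y ≠ y ∨ t y ≠ y → ∀ z, s (p (swap x y z)) ≠ p (swap x y z) ∨ t (p (swap x y z)) ≠ p (swap x y z) ↔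
        s (p z) ≠ p z ∨ t (p z) ≠ p z := fun {x y} hx hy z => by
      rw [swap_apply_def]
      split_ifs with k1 k2
      exacts [k1 ▸ ⟨fun h => bl p hp _ hy h _ hx, fun h => bl p hp _ hx h _ hy⟩, k2 ▸ ⟨fun h => bl p hp _ hx h _ hy, fun h => bl p hp _ hy h _ hx⟩, Iff.rfl]
    simp only [Perm.mul_apply, sw (.inl ha) (.inl (s.injective.ne ha)), sw (.inl ha) (.inr hc)]
  have cj : ∀ h ∈ normalizer (Tr P.1) ⊓ alternatingGroup Ω, h a = a → h (s a) = s a → swap a (s a) * swap a (h c) ∈ J := fun h hh e1 e2 => by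
    have := mul_mem (mul_mem (H1 hh) τ) (inv_mem (H1 hh))
    rwa [← conj_mul, ← swap_apply_apply, ← swap_apply_apply, e1, e2] at this
  have all : ∀ y, a ≠ y → s a ≠ y → swap a (s a) * swap a y ∈ J := fun y y1 y2 => by
    obtain ⟨r, hr, hy⟩ := cov y
    have rs : r ≠ s := fun k => by
      rw [k, sw_eq hs.2 ha] at hy
      exact (eq_or_eq_of_swap_apply_ne_self hy).elim y1.symm y2.symm
    have a1 := tr_fix P.2 hr hs rs ha
    by_cases rt : r = t
    · rw [rt, sw_eq ht.2 hc] at hy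
      rcases eq_or_eq_of_swap_apply_ne_self hy with rfl | rfl
      · exact τ
      simpa [e.2] using cj (t * u) ⟨le_nTr _ (mul_mem ht.1 hu.1), sw_mul ht.2 hu.2⟩ (by simp [e.1, h2.1]) (by simp [(tr_fix P.2 hu hs us ha).2, h2.2])
    obtain ⟨k, -⟩ := tr_dbl P.2 ht hr (Ne.symm rt) hc hy
    have a2 := tr_fix P.2 hr ht rt hc
    have a3 := tr_fix P.2 ht hr (Ne.symm rt) hy
    have f : ∀ z, t z = z → r z = z → (swap c y * swap (t c) (r y)) z = z := fun z z1 z2 => by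
      rw [Perm.mul_apply, swap_apply_of_ne_of_ne (fun k : z = t c => t.injective.ne hc (k ▸ z1)) fun k : z = r y => r.injective.ne hy (k ▸ z2),
        swap_apply_of_ne_of_ne (fun k : z = c => hc (k ▸ z1)) fun k : z = y => hy (k ▸ z2)]
    have cy : c ≠ y := fun k => hy (k ▸ a2.1)
    have := cj _ ⟨k, sw_mul ⟨_, _, cy, rfl⟩ ⟨_, _, fun k : t c = r y => t.injective.ne hc (k.symm ▸ a3.2), rfl⟩⟩ (f a h2.1 a1.1) (f _ h2.2 a1.2)
    rwa [Perm.mul_apply, swap_apply_of_ne_of_ne hc.symm fun k : c = r y => hc (k.symm ▸ a3.2), swap_apply_left] at this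
  have t3 := isThreeCycle_swap_mul_swap_same ha.symm ac bc
  have tr : ∀ y, ∃ g : closure {g | g ∈ J ∧ IsThreeCycle g}, g • a = y := fun y => by
    by_cases y1 : a = y
    · exact ⟨1, y1⟩
    by_cases y2 : s a = y
    · exact ⟨(⟨_, subset_closure ⟨τ, t3⟩⟩ : closure {g | g ∈ J ∧ IsThreeCycle g})⁻¹, inv_smul_eq_iff.2 (by
        simp [Subgroup.smul_def, ← y2, swap_apply_of_ne_of_ne, ha, bc])⟩
    exact ⟨⟨_, subset_closure ⟨all y y1 y2, isThreeCycle_swap_mul_swap_same ha.symm y1 y2⟩⟩, by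
      simp [Subgroup.smul_def, swap_apply_of_ne_of_ne, Ne.symm y1, Ne.symm y2]⟩
  haveI := (isPretransitive_iff_base a).2 tr
  exact (alt_le_of_gen (N := closure {g | g ∈ J ∧ IsThreeCycle g}) (Subgroup.closure_mono fun g h => ⟨subset_closure h, h.2⟩)
    (subset_closure ⟨τ, t3⟩) t3).trans ((closure_le J).2 fun g h => h.1)

theorem over_odd (h5 : 5 ≤ Fintype.card Ω) (h2 : ¬ Even (Fintype.card Ω)) {J : Subgroup (Perm Ω)}
    (hJ : ∀ H, P.1 ≤ H → ¬ alternatingGroup Ω ≤ H → H ⊓ alternatingGroup Ω ≤ J) (n : ¬ alternatingGroup Ω ≤ J) :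
    ∃ k, 2 ≤ k ∧ Fintype.card Ω = 2 ^ k + 1 := by
  have c := card_tr P
  rw [Nat.even_iff] at h2
  obtain ⟨u, hu⟩ := (Set.ncard_pos (Set.toFinite {x | ∀ t ∈ Tr P.1, t x = x})).1 (by omega)
  have uP : ∀ p ∈ P.1, p u = u := fun p hp => unc_n P (le_nTr _ hp) hu
  obtain ⟨s, hs, -⟩ := ex_avoid P.2 (s := ∅) (by rw [Finset.card_empty]; omega)
  obtain ⟨x, hx⟩ := sw_mv hs.2
  have h3 : 3 ≤ Nat.card Ω := by rw [Nat.card_eq_fintype_card]; omega
  obtain ⟨g, hg⟩ := (alternatingGroup.isPretransitive_of_three_le_card Ω h3).exists_smul_eq x u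
  have xu : x ≠ u := fun e => hx (e ▸ uP s hs.1)
  have nu : u ∉ orbit P.1 x := fun ⟨p, e⟩ => xu (p.1.injective (e.trans (uP p p.2).symm))
  have e : orbit P.1 x = {u}ᶜ := Set.Subset.antisymm (fun y h e => nu (e ▸ h)) fun y hy => by_contra fun k => n fun z hz => by
    have y1 : swap u y * s ∈ J := hJ (RS fun a _ => a ∈ orbit P.1 x) (fun p hp a _ => ⟨fun h => by
      simpa [Subgroup.smul_def] using mem_orbit_of_mem_orbit (⟨p, hp⟩ : P.1)⁻¹ h, mem_orbit_of_mem_orbit (⟨p, hp⟩ : P.1)⟩)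
      (fun h => nu (hg ▸ (h g.2 x x).2 (mem_orbit_self x))) ⟨fun a _ => by
        have : ∀ b, swap u y b ∈ orbit P.1 x ↔ b ∈ orbit P.1 x := fun b => by
          rw [swap_apply_def]
          split_ifs with k1 k2
          exacts [k1 ▸ iff_of_false k nu, k2 ▸ iff_of_false nu k, Iff.rfl]
        exact (this _).trans ⟨fun h => by simpa [Subgroup.smul_def] using mem_orbit_of_mem_orbit (⟨s, hs.1⟩ : P.1)⁻¹ h,
          mem_orbit_of_mem_orbit (⟨s, hs.1⟩ : P.1)⟩, sw_mul ⟨_, _, Ne.symm hy, rfl⟩ hs.2⟩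
    have := top_of_move (alternatingGroup.isPreprimitive_of_three_le_card Ω h3) (a := u) (g := ⟨_, sw_mul ⟨_, _, Ne.symm hy, rfl⟩ hs.2⟩)
      (by simpa [Subgroup.smul_def, uP s hs.1] using hy) (S := J.subgroupOf _) (fun q hq => hJ (stabilizer _ u) uP
        (fun h => xu (g.1.injective (hg.trans (h g.2).symm))) ⟨hq, q.2⟩) y1
    exact this.ge (mem_top (⟨z, hz⟩ : alternatingGroup Ω))
  obtain ⟨k, hk⟩ := P.2.card_orbit x
  rw [e, Nat.card_coe_set_eq, Set.ncard_compl, Set.ncard_singleton, Nat.card_eq_fintype_card] at hk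
  refine ⟨k, by_contra fun h => ?_, by omega⟩
  have : 2 ^ k ≤ 2 ^ 1 := Nat.pow_le_pow_right two_pos (by omega)
  omega

theorem over_pow {k : ℕ} (hk : 2 ≤ k) (hn : Fintype.card Ω = 2 ^ k + 1) : ∃ u, (∀ p ∈ P.1, p u = u) ∧
    ∀ J, P.1 ⊓ alternatingGroup Ω ≤ J → ¬ J ≤ stabilizer (Perm Ω) u → alternatingGroup Ω ≤ J := by
  have c := card_tr P
  obtain ⟨j, rfl⟩ := Nat.exists_eq_add_of_le hk
  have p2 : 0 < 2 ^ j := by positivity
  have p3 : 2 ^ (2 + j) = 4 * 2 ^ j := by ring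
  obtain ⟨u, hu⟩ := (Set.ncard_pos (Set.toFinite {x | ∀ t ∈ Tr P.1, t x = x})).1 (by omega)
  have uP : ∀ p ∈ P.1, p u = u := fun p hp => unc_n P (le_nTr _ hp) hu
  have cov : ∀ y ≠ u, ∃ r ∈ Tr P.1, r y ≠ y := fun y hy => by
    by_contra! e
    exact hy (unc P e hu)
  refine ⟨u, uP, fun J hJ hm => ?_⟩
  have tq : ∀ x ≠ u, ∀ y ≠ u, ∃ q ∈ J, q u = u ∧ q x = y := fun x hx y hy => by
    have e : orbit (alternatingGroup Ω ⊓ stabilizer (Perm Ω) u : Subgroup _) x = {u}ᶜ := Set.ext fun z => ⟨fun ⟨g, e⟩ k =>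
      hx (g.1.injective (e.trans (k.trans g.2.2.symm))), fun hz => by
        haveI := alternatingGroup.isMultiplyPretransitive Ω
        obtain ⟨g, g1, g2⟩ := is_two_pretransitive_iff.1 (isMultiplyPretransitive_of_le (G := alternatingGroup Ω) (n := Nat.card Ω - 2)
          (by rw [Nat.card_eq_fintype_card]; omega) (by omega)) hx.symm (Ne.symm hz)
        exact ⟨⟨g, g.2, g1⟩, g2⟩⟩
    obtain ⟨q, hq⟩ := (syl_orbit (k := 2 + j) ((IsSylowIn.sylow_inf_normal P _).mono (le_inf inf_le_right fun p hp => uP p hp.1) inf_le_left)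
      (by rw [e, Set.ncard_compl, Set.ncard_singleton, Nat.card_eq_fintype_card, hn]; rfl)).ge (e.ge hy)
    exact ⟨q, hJ q.2, uP q q.2.1, hq⟩
  obtain ⟨g, g1, g2⟩ := SetLike.not_le_iff_exists.1 hm
  have t1 : ∀ a b, a ≠ b → ∀ x ≠ u, ∃ h ∈ J, h u = a ∧ h x = b := fun a b n x hx => by
    obtain ⟨i, i1, i2⟩ : ∃ i ∈ J, i u = a := by
      rcases eq_or_ne a u with rfl | e
      · exact ⟨1, one_mem _, rfl⟩
      obtain ⟨q, q1, -, q2⟩ := tq _ g2 a e
      exact ⟨q * g, mul_mem q1 g1, q2⟩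
    obtain ⟨q, q1, q2, q3⟩ := tq x hx (i⁻¹ b) fun e => n (by simp [← i2, ← e])
    exact ⟨i * q, mul_mem i1 q1, by simp [q2, i2], by simp [q3]⟩
  have t2 : IsMultiplyPretransitive J Ω 2 := is_two_pretransitive_iff.2 fun {a b c d} ab cd => by
    obtain ⟨h, h1, h2, h3⟩ := t1 a b ab _ g2
    obtain ⟨i, i1, i2, i3⟩ := t1 c d cd _ g2
    exact ⟨⟨i * h⁻¹, mul_mem i1 (inv_mem h1)⟩, by simp [Subgroup.smul_def, ← h2, i2], by simp [Subgroup.smul_def, ← h3, ← i3]⟩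
  by_contra nA
  have n3 : ∀ {x y z}, swap x y * swap x z ∈ J → x ≠ y → x ≠ z → y = z := fun h a b => by_contra fun n => nA
    (alternatingGroup_le_of_isPreprimitive_of_isThreeCycle_mem (isPreprimitive_of_is_two_pretransitive t2) (isThreeCycle_swap_mul_swap_same a b n) h)
  obtain ⟨s, hs, t, ht, n, fo, -⟩ := ex_four P (by omega)
  obtain ⟨a, ha⟩ := sw_mv hs.2
  have au : a ≠ u := fun e => ha (e ▸ uP s hs.1)
  have bu : s a ≠ u := fun e => s.injective.ne ha (e ▸ uP s hs.1)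
  have key : ∀ c d, c ≠ d → c ≠ a → c ≠ u → d ≠ a → d ≠ u → c ≠ s a → swap a u * swap c d ∉ J := fun x y xy xa xu ya yu xb h => by
    have fin : ∀ e, a ≠ e → e ≠ u → swap a e * swap x y ∉ J := fun e e1 e2 k => e2 (n3 (by simpa [mul_assoc] using mul_mem k (inv_mem h)) e1 au)
    have mv : ∀ r ∈ Tr P.1, ∀ x y, r x ≠ x → r y ≠ y → y = x ∨ y = r x := fun r hr x y h1 h2 => by
      rw [sw_eq hr.2 h1] at h2; exact eq_or_eq_of_swap_apply_ne_self h2
    obtain ⟨r, hr, hx⟩ := cov x xu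
    have rs : r ≠ s := fun k => (mv s hs a x ha (k ▸ hx)).elim xa xb
    by_cases e : r x = y
    · exact fin _ ha.symm bu (by rw [← e, ← sw_eq hs.2 ha, ← sw_eq hr.2 hx]; exact hJ ⟨mul_mem hs.1 hr.1, sw_mul hs.2 hr.2⟩)
    have ry : r y = y := by_contra fun k => (mv r hr x y hx k).elim xy.symm (Ne.symm e)
    rcases j with - | j
    · obtain ⟨w, -, hw⟩ := (Nat.card_eq_two_iff' (α := Tr P.1) ⟨s, hs⟩).1 (by omega)
      have one : ∀ r ∈ Tr P.1, r ≠ s → r = t := fun r hr k => congrArg Subtype.val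
        ((hw ⟨r, hr⟩ (Subtype.val_injective.ne_iff.1 k)).trans (hw ⟨t, ht⟩ (Subtype.val_injective.ne_iff.1 n.symm)).symm)
      obtain rfl := one r hr rs
      obtain ⟨v, hv, hy⟩ := cov y yu
      obtain rfl : v = s := by_contra fun k => hy (one v hv k ▸ ry)
      obtain rfl := (mv v hv a y ha hy).resolve_left ya
      have a1 : a ≠ r x := fun k => r.injective.ne hx (k ▸ (tr_fix P.2 hr hv rs ha).1)
      have := fo a (r x) ha (r.injective.ne hx)
      rw [sw_sw hr.2, swap_comm (v a)] at this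
      exact fin _ a1 (fun k => r.injective.ne hx (k ▸ uP r hr.1)) (hJ ⟨this, sw_mul ⟨_, _, a1, rfl⟩ ⟨_, _, xy, rfl⟩⟩)
    obtain ⟨v, hv, f⟩ := ex_avoid P.2 (s := {a, x, y}) (Finset.card_le_three.trans_lt (by omega))
    simp only [Finset.mem_insert, Finset.mem_singleton, forall_eq_or_imp, forall_eq] at f
    have q : r * v ∈ J := hJ ⟨mul_mem hr.1 hv.1, sw_mul hr.2 hv.2⟩
    have := mul_mem (mul_mem q h) (inv_mem q)
    rw [← conj_mul, ← swap_apply_apply, ← swap_apply_apply] at this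
    simp only [Perm.mul_apply, f, uP v hv.1, uP r hr.1, ry, (tr_fix P.2 hr hs rs ha).1] at this
    exact hx (n3 (x := y) (by simpa [mul_assoc, swap_comm y] using mul_mem (inv_mem this) h) (Ne.symm e) xy.symm)
  obtain ⟨x, hx⟩ := sw_mv ht.2
  obtain ⟨h, h1, h2⟩ := is_two_pretransitive_iff.1 t2 ha.symm au
  have h1 : h.1 a = a := h1
  have h2 : h.1 (s a) = u := h2
  have f := tr_fix P.2 hs ht n hx
  have := mul_mem (mul_mem h.2 (hJ ⟨mul_mem hs.1 ht.1, sw_mul hs.2 ht.2⟩)) (inv_mem h.2)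
  rw [sw_eq ht.2 hx, sw_eq hs.2 ha, ← conj_mul, ← swap_apply_apply, ← swap_apply_apply, h1, h2] at this
  have m : ∀ y, s y = y → h.1 y ≠ a ∧ h.1 y ≠ u := fun y e => ⟨fun k => ha (h.1.injective (k.trans h1.symm) ▸ e),
    fun k => s.injective.ne ha (h.1.injective (k.trans h2.symm) ▸ e)⟩
  have ne := h.1.injective.ne hx
  by_cases e : h.1 x = s a
  · exact key _ _ ne (m _ f.2).1 (m _ f.2).2 (m _ f.1).1 (m _ f.1).2 (e ▸ ne) (swap_comm (h.1 x) _ ▸ this)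
  · exact key _ _ ne.symm (m _ f.1).1 (m _ f.1).2 (m _ f.2).1 (m _ f.2).2 e this

omit P in
theorem uniq_max {K : Type*} [Group K] [Finite K] {f : K →* Perm Ω} (hf : Function.Injective f) (hA : alternatingGroup Ω ≤ f.range) (R : Sylow 2 K)
    (h5 : 5 ≤ Fintype.card Ω) (h6 : Fintype.card Ω ≠ 6) : (∃! M : Subgroup K, IsCoatom M ∧ R.1 ≤ M) ↔ ∃ k, 2 ≤ k ∧ Fintype.card Ω = 2 ^ k + 1 := by
  obtain ⟨P, hP⟩ := (R.2.map f).exists_le_sylow
  have S := (IsSylowIn.of_sylow_top R).map f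
  rw [← MonoidHom.range_eq_map] at S
  have e : P.1 ⊓ alternatingGroup Ω ≤ R.1.map f := (inf_le_inf_left _ hA).trans (S.eq_of_le (P.2.to_inf_left) (le_inf hP S.le) inf_le_right).le
  have top : ∀ M, R.1 ≤ M → alternatingGroup Ω ≤ M.map f → M = ⊤ := fun M h1 h2 => by
    haveI : Nontrivial Ω := Fintype.one_lt_card_iff_nontrivial.1 (by omega)
    obtain ⟨k, -, hk⟩ := (Nat.dvd_prime_pow Nat.prime_two (m := 1)).1
      ((relIndex_dvd_index_of_normal (alternatingGroup Ω) f.range).trans alternatingGroup.index_eq_two.dvd)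
    exact map_injective hf (le_antisymm (map_mono le_top) (MonoidHom.range_eq_map f ▸ (S.sup_eq_of_pow hA hk).ge.trans (sup_le (map_mono h1) h2)))
  have pr : ∀ H, ¬ alternatingGroup Ω ≤ H → H.comap f ≠ ⊤ := fun H n k => n fun g hg => by
    obtain ⟨x, rfl⟩ := hA hg
    exact k.ge (mem_top x)
  refine ⟨fun ⟨M, h1, h2⟩ => ?_, fun ⟨k, h1, h2⟩ => ?_⟩
  · have hJ : ∀ H, P.1 ≤ H → ¬ alternatingGroup Ω ≤ H → H ⊓ alternatingGroup Ω ≤ M.map f := fun H a b g hg => by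
      obtain ⟨x, rfl⟩ := hA hg.2
      obtain ⟨L, l1, l2⟩ := (eq_top_or_exists_le_coatom _).resolve_left (pr H b)
      exact ⟨x, h2 L ⟨l1, (map_le_iff_le_comap.1 (hP.trans a)).trans l2⟩ ▸ l2 hg.1, rfl⟩
    have n : ¬ alternatingGroup Ω ≤ M.map f := fun k => h1.1.1 (top M h1.2 k)
    exact over_odd P h5 (fun ev => n (over_even P (by rw [Nat.even_iff] at ev; omega) ev hJ)) hJ n
  obtain ⟨u, u1, u2⟩ := over_pow P h1 h2
  have le : ∀ M, M ≠ ⊤ → R.1 ≤ M → M ≤ (stabilizer (Perm Ω) u).comap f := fun M a b => map_le_iff_le_comap.1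
    (by_contra fun n => a (top M b (u2 _ (e.trans (map_mono b)) n)))
  have ne := pr (stabilizer _ u) fun h => by
    obtain ⟨x, hx⟩ := Fintype.exists_ne_of_one_lt_card (by omega) u
    obtain ⟨g, hg⟩ := (alternatingGroup.isPretransitive_of_three_le_card Ω (by rw [Nat.card_eq_fintype_card]; omega)).exists_smul_eq u x
    exact hx (hg.symm.trans (h g.2))
  have rl : R.1 ≤ (stabilizer (Perm Ω) u).comap f := map_le_iff_le_comap.1 fun g hg => u1 g (hP hg)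
  exact ⟨_, ⟨⟨ne, fun M h => by_contra fun n => h.not_ge (le M n (rl.trans h.le))⟩, rl⟩, fun M h => ((h.1.le_iff_eq ne).1 (le M h.1.1 h.2)).symm⟩

end CfsgPm
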