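import Cfsg.Agent.S1757
import Cfsg.Agent.H2.Invol
import Cfsg.Agent.H2.PGroup

set_option autoImplicit false

namespace CfsgPm

open Subgroup CfsgH2

variable {G : Type*} [Group G] [Finite G]

/-- An invariant family of non-elementary TI 2-subgroups: two members inside a 2-group commute. -/
theorem ti_comm (Δ : Set (Subgroup G)) (hinv : ∀ g, ∀ R ∈ Δ, cj g R ∈ Δ) (hsq : ∀ R ∈ Δ, ∃ x ∈ R, x * x ≠ 1)
    (hord : ∀ R ∈ Δ, ∀ T ∈ Δ, Nat.card R = Nat.card T) (hti : ∀ R ∈ Δ, ∀ T ∈ Δ, R = T ∨ R ⊓ T = ⊥) (P : Subgroup G) :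
    IsPGroup 2 P → ∀ R ∈ Δ, ∀ T ∈ Δ, R ≤ P → T ≤ P → R ≠ T → ⁅R, T⁆ = ⊥ := by
  induction P using subgroup_induction_up with
  | h P ih =>
  intro hP
  have ti : ∀ R ∈ Δ, ∀ g, cj g R = R ∨ cj g R ⊓ R = ⊥ := fun R hR g => hti _ (hinv g R hR) R hR
  have nm : ∀ R ∈ Δ, ∀ x ∈ R, x ≠ 1 → ∀ g, g * x = x * g → g ∈ normalizer (R : Set G) := fun R hR x hx h g e =>
    cj_eq_iff_mem_normalizer.1 ((ti R hR g).resolve_right fun e' => h (e'.le ⟨by simpa [e] using conj_mem_cj g hx, hx⟩))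
  have cm : ∀ R ∈ Δ, R < P → ∀ s ∈ P, s ∉ normalizer (R : Set G) → ∀ x ∈ R, ∀ y ∈ R, x * (s * y * s⁻¹) = s * y * s⁻¹ * x :=
    fun R hR h s hs hn x hx y hy => by
      obtain ⟨M, h1, h2, h3, h4⟩ := exists_relIndex_prime hP h
      exact (commutator_eq_bot_iff_le_centralizer.1 (ih M (card_lt_of_lt (lt_of_relIndex_prime h3 h2)) (hP.to_le h2) _ (hinv s R hR) R hR
        (cj_eq_iff_mem_normalizer.2 (h4 hs) ▸ cj_mono s h1) h1 (mt cj_eq_iff_mem_normalizer.1 hn)) (conj_mem_cj s hy)) x hx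
  have tr : ∀ R ∈ Δ, ∀ T ∈ Δ, R < P → T ≤ P → ¬ T ≤ normalizer (R : Set G) → ¬ R ≤ normalizer (T : Set G) →
      ∀ r ∈ R, r ∈ normalizer (T : Set G) → r = 1 := fun R hR T hT h1 h2 h3 h4 r hr hn => by_contra fun r1 => by
    obtain ⟨t, ht, h3⟩ := SetLike.not_le_iff_exists.1 h3
    have key : ∀ r ∈ R, r ∈ normalizer (T : Set G) → r ≠ 1 → ∀ c ∈ R, c * r = r * c → c ∈ normalizer (T : Set G) :=
      fun r hr hn r1 c hc e => nm T hT (r⁻¹ * (t * r * t⁻¹)) (by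
        simpa [mul_assoc] using mul_mem (conj_mem_of_mem_normalizer' hn ht) (inv_mem ht))
        (fun e => h3 (nm R hR r hr r1 t (mul_inv_eq_iff_eq_mul.1 (inv_mul_eq_one.1 e).symm))) c
        ((Commute.inv_right e).mul_right (cm R hR h1 t (h2 ht) h3 c hc r hr))
    obtain ⟨z, hz, z1, -, hc⟩ := exists_central_of_ne_bot (hP.to_le h1.le) le_rfl le_normalizer fun e => r1 (e.le hr)
    exact h4 fun c hc' => key z hz (key r hr hn r1 z hz (hc r hr).symm) z1 c hc' (hc c hc')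
  intro R hR T hT h1 h2 hne
  have hRT := (hti R hR T hT).resolve_left hne
  by_cases h3 : T ≤ normalizer (R : Set G)
  · exact Cfsg.Agent.S1757.result 2 R T (hP.to_le h1) (hP.to_le h2) (ti R hR) (ti T hT) (hord R hR T hT).le hRT h3
  by_cases h4 : R ≤ normalizer (T : Set G)
  · rw [commutator_comm]
    exact Cfsg.Agent.S1757.result 2 T R (hP.to_le h2) (hP.to_le h1) (ti T hT) (ti R hR) (hord T hT R hR).le (inf_comm R T ▸ hRT) h4
  have h5 : R < P := lt_of_le_of_ne h1 fun e => h3 ((h2.trans e.ge).trans le_normalizer)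
  have h6 : T < P := lt_of_le_of_ne h2 fun e => h4 ((h1.trans e.ge).trans le_normalizer)
  obtain ⟨t, ht, t2⟩ := hsq T hT
  obtain ⟨x, hx, x2⟩ := hsq R hR
  obtain ⟨r, hr, r2⟩ := exists_invol_of_ne_bot (hP.to_le h1) fun e => x2 (by rw [mem_bot.1 (e.le hx), one_mul])
  have r1 := ne_one_of_orderOf_two r2
  have e1 := cm R hR h5 t (h2 ht) (fun h => t2 (by rw [tr T hT R hR h6 h1 h4 h3 t ht h, one_mul])) r hr r hr
  have e2 := cm T hT h6 r (h1 hr) (fun h => r1 (tr R hR T hT h5 h2 h3 h4 r hr h)) t ht t ht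
  rw [inv_eq_of_orderOf_two r2] at e2
  refine absurd (tr T hT R hR h6 h1 h4 h3 _ (mul_mem ht ht) (nm R hR r hr r1 _ ?_)) t2
  calc t * t * r = t * (t * r)⁻¹ * (t * (r * t * r)) := by simp [mul_assoc]
    _ = t * (t * r)⁻¹ * (r * (t * r * t⁻¹) * t * t) := by rw [e2]; simp [mul_assoc]
    _ = r * (t * t) := by rw [e1]; simp [mul_assoc]

end CfsgPm
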