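import Cfsg.Agent.H3.U33k
import Cfsg.Prelude.Def_DegreeGraph
import Cfsg.Agent.H4.Lift
import Cfsg.Agent.H3.IndHom
import Cfsg.Agent.H3.Ip
import Cfsg.Agent.H4.Ord2
import Cfsg.Agent.S4441

set_option autoImplicit false

/-! Character degrees of `U₃(3)`. -/
namespace CfsgPm
open Cfsg CfsgH3 Subgroup

variable {G : Type*} [Group G] [Fintype G]

omit [Fintype G] in
theorem lin_triv (hp : commutator G = ⊤) {χ : G → ℂ} (h : IsIrrCharacter G χ) (h1 : χ 1 = 1) : χ = fun _ => 1 := by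
  obtain ⟨f, rfl⟩ := h.isChar.exists_hom_of_deg_one h1
  exact funext fun g => congrArg Units.val (Abelianization.commutator_subset_ker f (hp ▸ mem_top g))

omit [Fintype G] in
theorem mem_cd {χ : G → ℂ} (h : IsIrrCharacter G χ) {d : ℕ} (e : χ 1 = d) : d ∈ charDegrees G :=
  ⟨⟨χ, h⟩, CfsgH4.charDegree_eq e⟩

theorem cd_dvd {d : ℕ} (h : d ∈ charDegrees G) : d ∣ Nat.card G := by
  obtain ⟨χ, rfl⟩ := h
  rw [CfsgH4.charDegree_eq (deg_spec χ)]; exact deg_dvd_card χ

theorem div6048 : ∀ d ∈ Nat.divisors 6048, ¬ 6 ∣ d → (d % 7 = 1 → d = 1 ∨ d = 8) ∧ (d % 7 = 6 → d = 27) ∧ (d % 7 = 3 → d = 3) ∧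
    (d % 7 = 4 → d = 4 ∨ d = 32) := by decide +kernel

theorem six (hc : Nat.card G = 6048) (hp : commutator G = ⊤) (no : ∀ g : G, orderOf g ≠ 14 ∧ orderOf g ≠ 21) :
    ∃ d ∈ charDegrees G, 6 ∣ d := by
  haveI := Fact.mk (show Nat.Prime 7 by norm_num)
  obtain ⟨P⟩ : Nonempty (Sylow 7 G) := inferInstance
  have cP : Nat.card P = 7 := by rw [P.card_eq_multiplicity, hc, Nat.factorization_def _ Fact.out]; decide +kernel
  haveI := isCyclic_of_prime_card cP
  obtain ⟨x, hx⟩ := exists_prime_orderOf_dvd_card' (G := P) 7 cP.symm.dvd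
  have cC : Nat.card (centralizer (P : Set G)) = 7 := by
    have d7 : 7 ∣ Nat.card (centralizer (P : Set G)) :=
      cP.symm.dvd.trans (card_dvd_of_le (H := P.1) (le_centralizer_iff_isMulCommutative.2 inferInstance))
    have k : ∀ r : ℕ, r.Prime → r ≠ 7 → r ∣ Nat.card (centralizer (P : Set G)) → ∃ g : G, orderOf g = 7 * r := fun r hr r7 d => by
      haveI := Fact.mk hr
      obtain ⟨y, hy⟩ := exists_prime_orderOf_dvd_card' r d
      rw [← orderOf_coe] at hx hy
      exact ⟨x * y, by rw [(show Commute (x : G) y from y.2 x x.2).orderOf_mul_eq_mul_orderOf_of_coprime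
        (by rw [hx, hy]; exact (Nat.coprime_primes Fact.out hr).2 r7.symm), hx, hy]⟩
    refine (by decide +kernel : ∀ d ∈ Nat.divisors 6048, 7 ∣ d → ¬ 2 ∣ d → ¬ 3 ∣ d → d = 7) _
      (Nat.mem_divisors.2 ⟨hc ▸ card_subgroup_dvd_card _, by norm_num⟩) d7 (fun d => ?_) fun d => ?_
    · obtain ⟨g, h⟩ := k 2 Nat.prime_two (by norm_num) d; exact (no g).1 h
    · obtain ⟨g, h⟩ := k 3 Nat.prime_three (by norm_num) d; exact (no g).2 h
  have e : (centralizer (P : Set G)).relIndex (normalizer (P : Set G)) = 3 := by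
    have a : (centralizer (P : Set G)).relIndex (normalizer (P : Set G)) ∣ 6 := by
      have := card_subgroup_dvd_card (P : Subgroup G).normalizerMonoidHom.range
      rwa [IsCyclic.card_mulAut, cP, ← index_ker, normalizerMonoidHom_ker] at this
    have b := relIndex_mul_index (centralizer_le_normalizer (P : Set G))
    have c := (centralizer (P : Set G)).card_mul_index
    have d := card_sylow_modEq_one 7 G
    rw [P.card_eq_index_normalizer] at d
    rw [cC, hc, ← b] at c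
    change (normalizer (P : Set G)).index % 7 = 1 at d
    have := Nat.le_of_dvd (by norm_num) a
    generalize (centralizer (P : Set G)).relIndex (normalizer (P : Set G)) = e at *
    interval_cases e <;> omega
  obtain ⟨M, hM⟩ := CfsgH4.exists_isPModular 7
  obtain ⟨X, Y, -, -, cX, cY, v, ε, hX, hε, hY, -, hs⟩ := Cfsg.Agent.S4441.result 7 M hM (by norm_num) P cP 3 e
  by_contra! n
  have D := fun χ : IrrCharacter G => div6048 _ (Nat.mem_divisors.2 ⟨hc ▸ deg_dvd_card χ, by norm_num⟩) (n _ (mem_cd χ.2 (deg_spec χ)))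
  have E := fun χ : IrrCharacter G => CfsgH4.charDegree_eq (deg_spec χ)
  obtain ⟨θ, hθ⟩ : Y.Nonempty := Set.nonempty_of_ncard_ne_zero (by rw [← Nat.card_coe_set_eq, cY]; norm_num)
  obtain ⟨a, b, c, ab, ac, bc, rfl⟩ := Set.ncard_eq_three.1 cX
  have V : ∀ χ ∈ ({a, b, c} : Set (IrrCharacter G)), (v χ * deg χ = 1 ∧ χ.1 = fun _ => 1) ∨ v χ * deg χ = 8 ∨ v χ * deg χ = -27 :=
    fun χ h => by
      obtain ⟨h1, h2, -⟩ := hX χ h
      rw [E, Int.ModEq] at h2
      rcases h1 with h1 | h1 <;> rw [h1] at h2 ⊢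
      · rcases (D χ).1 (by omega) with d | d
        · exact .inl ⟨by simp [d], lin_triv hp χ.2 (by rw [deg_spec, d]; simp)⟩
        · exact .inr (.inl (by simp [d]))
      · exact .inr (.inr (by simp [(D χ).2.1 (by omega)]))
  have s := hs θ hθ 1 (by simp)
  rw [finsum_mem_insert _ (by simp [ab, ac]) (Set.toFinite _), finsum_mem_pair bc] at s
  simp only [deg_spec] at s
  replace s : ε * deg θ = v a * deg a + (v b * deg b + v c * deg c) := by exact_mod_cast s
  have t : ε * deg θ = 3 ∨ ε * deg θ = -4 ∨ ε * deg θ = -32 := by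
    have h2 := hY θ hθ
    rw [E, Int.ModEq] at h2
    rcases hε with rfl | rfl
    · have := (D θ).2.2.1 (by omega); omega
    · have := (D θ).2.2.2 (by omega); omega
  rcases V a (by simp) with ⟨a1, a2⟩ | a1 <;> rcases V b (by simp) with ⟨b1, b2⟩ | b1 <;> rcases V c (by simp) with ⟨c1, c2⟩ | c1 <;>
    first | omega | exact ab (Subtype.ext (a2.trans b2.symm)) | exact ac (Subtype.ext (a2.trans c2.symm)) |
      exact bc (Subtype.ext (b2.trans c2.symm))

theorem split2 {α a : G → ℂ} (h : IsCharacter G α) (h2 : classInner α α = 2) (ha : IsIrrCharacter G a) (hne : classInner α a ≠ 0) :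
    IsIrrCharacter G (α - a) := by
  obtain ⟨m, hm⟩ := h.inner_nat ha.isChar
  have e := ip_sub_smul_self ha.inner_self (m := m) (by simpa using hm)
  have l := sq_le_of_ip_dirr ha.inner_self (m := m) (by simpa using hm)
  have m1 : m = 1 := by
    rw [h2] at l
    have : (m : ℝ) ^ 2 ≤ 2 := by simpa using l
    have : m ^ 2 ≤ 2 := by exact_mod_cast this
    have : m ≠ 0 := fun e => hne (by simp [hm, e])
    rcases m with _ | _ | m
    · omega
    · rfl
    · nlinarith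
  subst m1
  exact (h.sub_constituent ha hne).irr_of_inner_eq_one (by rw [h2] at e; simp at e; rw [e]; norm_num)

theorem dec28 : ∀ a < 28, a ∣ 6048 ∧ (35 - a) ∣ 6048 ∧ (28 - a) ∣ 6048 ∧ 28 - a ≠ 1 →
    (14 ∣ a ∨ 14 ∣ 35 - a ∨ 14 ∣ 28 - a) ∧ (21 ∣ a ∨ 21 ∣ 35 - a ∨ 21 ∣ 28 - a) := by decide +kernel

theorem rest (hc : Nat.card G = 6048) (hp : commutator G = ⊤) {p q r : G → ℂ} (cp : IsCharacter G p) (cq : IsCharacter G q)
    (cr : IsCharacter G r) (dp : p 1 = 28) (dq : q 1 = 63) (dr : r 1 = 56) (p1 : classInner p (fun _ => 1) = 1)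
    (q1 : classInner q (fun _ => 1) = 1) (r1 : classInner r (fun _ => 1) = 1) (pp : classInner p p = 2) (qp : classInner q p = 2)
    (rp : classInner r p = 2) (qq : classInner q q = 4) (rr : classInner r r = 4) (qr : classInner q r = 3) :
    (∃ d ∈ charDegrees G, 14 ∣ d) ∧ ∃ d ∈ charDegrees G, 21 ∣ d := by
  have o := isIrr_one (G := G)
  have oo := o.inner_self
  have s : IsIrrCharacter G (p - fun _ => 1) := (cp.sub_constituent o (by simp [p1])).irr_of_inner_eq_one (by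
    rw [ip_sub_left, ip_sub_right, ip_sub_right, pp, p1, oo, o.isChar.inner_comm cp, p1]; norm_num)
  have k : ∀ {u : G → ℂ}, IsCharacter G u → classInner u (fun _ => 1) = 1 → classInner u p = 2 → classInner u u = 4 →
      IsCharacter G (u - p) ∧ classInner (u - p) (u - p) = 2 := fun {u} cu u1 up uu => by
    refine ⟨?_, by rw [ip_sub_left, ip_sub_right, ip_sub_right, uu, up, pp, cp.inner_comm cu, up]; norm_num⟩
    have := (cu.sub_constituent o (by simp [u1])).sub_constituent s (by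
      rw [ip_sub_left, ip_sub_right, ip_sub_right, up, u1, oo, o.isChar.inner_comm cp, p1]; norm_num)
    rwa [sub_sub_sub_cancel_right] at this
  obtain ⟨a1, a2⟩ := k cq q1 qp qq
  obtain ⟨b1, b2⟩ := k cr r1 rp rr
  have ab : classInner (q - p) (r - p) ≠ 0 := by
    rw [ip_sub_left, ip_sub_right, ip_sub_right, qr, qp, pp, cp.inner_comm cr, rp]; norm_num
  rw [a1.isGen.classFun.inner_eq_sum] at ab
  obtain ⟨χ, -, h⟩ := Finset.exists_ne_zero_of_sum_ne_zero ab
  have hb := split2 a1 a2 χ.2 (left_ne_zero_of_mul h)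
  have hc' := split2 b1 b2 χ.2 (mt ip_eq_zero_symm.1 (right_ne_zero_of_mul h))
  obtain ⟨c, c0, ec⟩ := hc'.exists_deg
  have ea := deg_spec χ
  have l : deg χ + c = 28 := by
    have : (deg χ : ℂ) + c = 28 := by rw [← ec, ← ea]; simp [dr, dp]; norm_num
    exact_mod_cast this
  have m1 := mem_cd χ.2 ea
  have m2 := mem_cd hb (d := 35 - deg χ) (by rw [Nat.cast_sub (by omega), ← ea]; simp [dq, dp]; norm_num)
  have m3 := mem_cd hc' (d := 28 - deg χ) (by rw [ec]; congr 1; omega)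
  obtain ⟨u, v⟩ := dec28 _ (by omega) ⟨hc ▸ cd_dvd m1, hc ▸ cd_dvd m2, hc ▸ cd_dvd m3, fun e => by
    have t := lin_triv hp hc' (by rw [ec, show c = 1 by omega]; simp)
    have w := congrArg (classInner · (fun _ => 1)) t
    obtain ⟨n, hn⟩ := χ.2.isChar.inner_nat o.isChar
    simp only [ip_sub_left, r1, p1, oo, hn] at w
    have : (n : ℂ) + 1 = 0 := by linear_combination -w
    exact Nat.cast_add_one_ne_zero n this⟩
  exact ⟨by rcases u with u | u | u; exacts [⟨_, m1, u⟩, ⟨_, m2, u⟩, ⟨_, m3, u⟩],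
    by rcases v with u | u | u; exacts [⟨_, m1, u⟩, ⟨_, m2, u⟩, ⟨_, m3, u⟩]⟩

theorem ip_sum {φ ψ : G → ℕ} {m : ℕ} (e : ∑ g, φ g * ψ g = Nat.card G * m) :
    classInner (fun g => (φ g : ℂ)) (fun g => (ψ g : ℂ)) = m := by
  have := congrArg (Nat.cast : ℕ → ℂ) e
  push_cast at this
  simp only [classInner, map_natCast, this]
  field_simp [card_ne_zero_complex G]

theorem graph_eq (hc : Nat.card G = 6048) (h1 : ∃ d ∈ charDegrees G, 6 ∣ d) (h2 : ∃ d ∈ charDegrees G, 14 ∣ d)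
    (h3 : ∃ d ∈ charDegrees G, 21 ∣ d) : degreePrimes G = {2, 3, 7} ∧
      ∀ p q, (degreeGraph G).Adj p q ↔ p ≠ q ∧ p ∈ ({2, 3, 7} : Set ℕ) ∧ q ∈ ({2, 3, 7} : Set ℕ) := by
  have k : ∀ p : ℕ, p.Prime → p ∣ 6048 → p ∈ ({2, 3, 7} : Set ℕ) := fun p hp d => by
    have := (by decide +kernel : ∀ p ∈ Nat.primeFactorsList 6048, p = 2 ∨ p = 3 ∨ p = 7) p
      ((Nat.mem_primeFactorsList (by norm_num)).2 ⟨hp, d⟩)
    simpa using this
  obtain ⟨a, ha, a1⟩ := h1
  obtain ⟨b, hb, b1⟩ := h2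
  obtain ⟨c, hc', c1⟩ := h3
  refine ⟨Set.ext fun p => ⟨fun ⟨hp, d, hd, e⟩ => k p hp (e.trans (hc ▸ cd_dvd hd)), ?_⟩, fun p q => ⟨fun ⟨n, hp, hq, d, hd, e⟩ =>
    ⟨n, k p hp ((dvd_of_mul_right_dvd e).trans (hc ▸ cd_dvd hd)), k q hq ((dvd_of_mul_left_dvd e).trans (hc ▸ cd_dvd hd))⟩, ?_⟩⟩
  · rintro (rfl | rfl | rfl)
    exacts [⟨by norm_num, a, ha, Dvd.dvd.trans (by norm_num) a1⟩, ⟨by norm_num, a, ha, Dvd.dvd.trans (by norm_num) a1⟩,
      ⟨by norm_num, b, hb, Dvd.dvd.trans (by norm_num) b1⟩]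
  · rintro ⟨n, rfl | rfl | rfl, rfl | rfl | rfl⟩ <;> first | exact absurd rfl n | refine ⟨n, by norm_num, by norm_num, ?_⟩
    exacts [⟨a, ha, a1⟩, ⟨b, hb, b1⟩, ⟨a, ha, a1⟩, ⟨c, hc', c1⟩, ⟨b, hb, b1⟩, ⟨c, hc', c1⟩]

namespace U33
open CfsgH7

theorem degs [Fintype (BU.clo SB)] (hp : commutator (BU.clo SB) = ⊤) :
    (∃ d ∈ charDegrees (BU.clo SB), 14 ∣ d) ∧ ∃ d ∈ charDegrees (BU.clo SB), 21 ∣ d := by
  obtain ⟨a1, a2, a3, b1, b2, b3⟩ := k0
  have r1 := fx_rep (A := BU) (a := 0) (k := 28) (by decide)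
  have r2 := fx_rep (A := BU) (a := 28) (k := 63) (by decide)
  have r3 := fx_rep (A := BU) (a := 91) (k := 56) (by decide)
  have k := k1
  rw [packB.full.srchSum (φ := fun g => wt (fx BU 0 28 g) (fx BU 28 63 g) (fx BU 91 56 g)) (Act.prunes_all _) fun g t r => by
    simp only [force_eq, r1 g t r, r2 g t r, r3 g t r], finsum_eq_sum_of_fintype] at k
  simp only [wt, Finset.sum_add_distrib, ← Finset.mul_sum] at k
  have l : ∀ a k g, fx BU a k g ≤ k := fun a k g => by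
    unfold fx; exact (Finset.card_le_card (@Finset.filter_subset _ _ (_) _)).trans (Finset.card_range k).le
  have c := packB.card
  have B : ∀ φ ψ : BU.clo SB → ℕ, (∀ g, φ g ≤ 63) → (∀ g, ψ g ≤ 63) → ∑ g, φ g * ψ g < 2 ^ 25 := fun φ ψ h h' => by
    refine (Finset.sum_le_card_nsmul _ _ (63 * 63) fun g _ => Nat.mul_le_mul (h g) (h' g)).trans_lt ?_
    rw [Finset.card_univ, ← Nat.card_eq_fintype_card, c]; norm_num
  have l1 := fun g : BU.clo SB => (l 0 28 g).trans (by norm_num : 28 ≤ 63)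
  have l2 := fun g : BU.clo SB => l 28 63 g
  have l3 := fun g : BU.clo SB => (l 91 56 g).trans (by norm_num : 56 ≤ 63)
  have l0 := fun _ : BU.clo SB => (by norm_num : 1 ≤ 63)
  have := B _ _ l1 l0; have := B _ _ l2 l0; have := B _ _ l3 l0; have := B _ _ l1 l1; have := B _ _ l2 l1
  have := B _ _ l3 l1; have := B _ _ l2 l2; have := B _ _ l3 l3; have := B _ _ l2 l3
  have o : ∀ φ : BU.clo SB → ℕ, ∑ g, φ g = 6048 → classInner (fun g => (φ g : ℂ)) (fun _ => 1) = 1 := fun φ h => by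
    simpa using ip_sum (φ := φ) (ψ := fun _ => 1) (m := 1) (by simp only [mul_one, c, h])
  simp only [mul_one] at *
  exact rest c hp (fx_char a1) (fx_char a2) (fx_char a3) (by rw [OneMemClass.coe_one, ← r1 _ _ Act.rep_one, b1]; rfl)
    (by rw [OneMemClass.coe_one, ← r2 _ _ Act.rep_one, b2]; rfl) (by rw [OneMemClass.coe_one, ← r3 _ _ Act.rep_one, b3]; rfl)
    (o _ (by omega)) (o _ (by omega)) (o _ (by omega)) (ip_sum (m := 2) (by omega)) (ip_sum (m := 2) (by omega))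
    (ip_sum (m := 2) (by omega)) (ip_sum (m := 4) (by omega)) (ip_sum (m := 4) (by omega)) (ip_sum (m := 3) (by omega))

end U33
end CfsgPm
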