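import Cfsg.Agent.H3.U33

set_option autoImplicit false

/-! Permutation characters of `U₃(3)`: kernel computation. -/
namespace CfsgPm.U33
open CfsgH7

def wt (a b c : ℕ) : ℕ := a + 2 ^ 25 * b + 2 ^ 50 * c + 2 ^ 75 * (a * a) + 2 ^ 100 * (b * a) + 2 ^ 125 * (c * a) +
  2 ^ 150 * (b * b) + 2 ^ 175 * (c * c) + 2 ^ 200 * (b * c)

theorem k0 : blkChk BU.F SB 0 28 = true ∧ blkChk BU.F SB 28 63 = true ∧ blkChk BU.F SB 91 56 = true ∧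
  fxT BU.F 0 28 BU.F.one = 28 ∧ fxT BU.F 28 63 BU.F.one = 63 ∧ fxT BU.F 91 56 BU.F.one = 56 := by decide +kernel

theorem k1 : BU.F.srchSum Fmt.okAll (fun t => force (fxT BU.F 0 28 t) fun a => force (fxT BU.F 28 63 t) fun b =>
    force (fxT BU.F 91 56 t) fun c => wt a b c) (BU.F.build LB) [] BU.F.one = 6048 * (1 + 2 ^ 25 + 2 ^ 50 + 2 ^ 75 * 2 + 2 ^ 100 * 2 +
      2 ^ 125 * 2 + 2 ^ 150 * 4 + 2 ^ 175 * 4 + 2 ^ 200 * 3) := by decide +kernel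

end CfsgPm.U33
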