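import Cfsg.Agent.S5905
import Cfsg.Agent.H3.Sn2

set_option autoImplicit false

namespace CfsgPm

open Subgroup Equiv Equiv.Perm Cfsg.Agent.S5905

/-- `g` preserves the fibres of `f`. -/
def Pres {Ω ι : Type*} (f : Ω → ι) (g : Perm Ω) : Prop := ∀ x y : Ω, f x = f y ↔ f (g x) = f (g y)

theorem pres_of_ind {Ω ι : Type*} {f : Ω → ι} {g : Perm Ω} (τ : Perm ι) (h : ∀ y, f (g y) = τ (f y)) : Pres f g := fun _ _ => by simp [h]

theorem Pres.mul {Ω ι : Type*} {f : Ω → ι} {g h : Perm Ω} (a : Pres f g) (b : Pres f h) : Pres f (g * h) := fun x y => (b x y).trans (a _ _)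

theorem pres_swap {Ω ι : Type*} [DecidableEq Ω] {f : Ω → ι} {x y : Ω} (h : f x = f y) : Pres f (swap x y) :=
  pres_of_ind 1 (apply_swap_eq_self h)

theorem coatom_wr {Ω : Type*} [Fintype Ω] [DecidableEq Ω] {a b : ℕ} (f : Ω → Fin b) (hf : ∀ i : Fin b, Nat.card {x : Ω // f x = i} = a) :
    Fintype.card Ω = b * a ∧ (IsCoatom ((closure {g : Perm Ω | ∀ x y : Ω, f x = f y ↔ f (g x) = f (g y)} ⊓ alternatingGroup Ω).subgroupOf
      (alternatingGroup Ω)) ↔ (∃ g : Perm (Fin b × Fin a), sign g = 1 ∧ ¬ Pres Prod.fst g) ∧ ∀ K ≤ alternatingGroup (Fin b × Fin a),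
      (∀ g, sign g = 1 → Pres Prod.fst g → g ∈ K) → ∀ g ∈ K, ¬ Pres Prod.fst g → alternatingGroup _ ≤ K) := by
  have e := Equiv.ofFiberEquiv_map (f := f) (g := (Prod.fst : Fin b × Fin a → Fin b)) fun i => Classical.choice (Finite.card_eq.1 (by
    rw [hf, Nat.card_congr (Equiv.prodSubtypeFstEquivSubtypeProd (p := (· = i)))]; simp))
  generalize Equiv.ofFiberEquiv _ = φ at e
  refine ⟨by simp [Fintype.card_congr φ], ?_⟩
  rw [← φ.altCongrHom.symm.comapSubgroup.isCoatom_iff, SetLike.isCoatom_iff]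
  have m : ∀ g, g ∈ φ.altCongrHom.symm.comapSubgroup ((closure {g : Perm Ω | ∀ x y : Ω, f x = f y ↔ f (g x) = f (g y)} ⊓
      alternatingGroup Ω).subgroupOf (alternatingGroup Ω)) ↔ Pres Prod.fst g.1 := fun g => by
    obtain ⟨g, rfl⟩ := φ.altCongrHom.surjective g
    change _ ↔ Pres _ (φ.permCongr g)
    simp [mem_subgroupOf, mem_part, Pres, φ.forall_congr_right.symm, e, -Prod.forall]
  generalize φ.altCongrHom.symm.comapSubgroup _ = W at m
  refine and_congr ⟨fun h => by_contra fun n => h (eq_top_iff.2 fun g _ => (m g).2 (by_contra fun c => n ⟨g, g.2, c⟩)),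
    fun ⟨g, h, c⟩ e => c ((m ⟨g, h⟩).1 (e.ge trivial))⟩ ⟨fun h K k1 k2 g k3 k4 => subgroupOf_eq_top.1
    (h _ ⟨g, k1 k3⟩ (fun x hx => k2 _ x.2 ((m x).1 hx)) ((m _).not.2 k4) k3), fun h K g k1 k2 k3 => eq_top_iff.2 fun x _ => ?_⟩
  obtain ⟨y, h, e⟩ := h (K.map (Subgroup.subtype _)) (map_subtype_le _) (fun g a b => ⟨⟨g, a⟩, k1 ((m _).2 b), rfl⟩) g ⟨g, k3, rfl⟩ ((m _).not.1 k2) x.2
  exact Subtype.ext e ▸ h

end CfsgPm
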